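import Mathlib

/-!
# Minimal index in symplectic groups: the inequalities
-/

set_option autoImplicit false

namespace CfsgLib.KnownA.MinIndexSymp

variable {q n Q z C : ℕ}

/-- Reduction of all the inequalities to `q² Q ≤ n (q - 1) + 1`. -/
theorem false_of_big (hq : 3 ≤ q) (hQ : q ^ 2 ≤ Q) (hn : n * (q - 1) + 1 < q ^ 2 * Q)
    (h : (q + 2) * (Q - 1) ≤ n) : False := by
  obtain ⟨r, rfl⟩ : ∃ r, q = r + 1 := ⟨q - 1, by omega⟩
  obtain ⟨Q', rfl⟩ : ∃ Q', Q = Q' + 1 := ⟨Q - 1, by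
    have : 0 < (r + 1) ^ 2 := by positivity
    omega⟩
  simp only [Nat.add_sub_cancel] at *
  nlinarith [Nat.mul_le_mul_right r h, Nat.mul_le_mul_left r hQ]

theorem false_perp {r : ℕ} (hq : 3 ≤ q) (hQ : q ^ 2 ≤ Q) (hn : n * (q - 1) + 1 < q ^ 2 * Q)
    (hr : 2 ≤ r) (h : C * (Q - 1) * (r * z) ≤ n * (r - 1))
    (hz : q + 2 ≤ z * C ∨ (q ≤ z * C ∧ 2 * r ≤ q)) : False := by
  refine false_of_big hq hQ hn ?_
  refine (Nat.mul_le_mul_right_iff (show 0 < r - 1 by omega)).1 ?_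
  refine le_trans ?_ h
  obtain ⟨s, rfl⟩ : ∃ s, r = s + 1 := ⟨r - 1, by omega⟩
  simp only [Nat.add_sub_cancel]
  have key : (q + 2) * s ≤ z * C * (s + 1) := by
    rcases hz with hz | ⟨hz, hr'⟩ <;> nlinarith
  calc (q + 2) * (Q - 1) * s = (q + 2) * s * (Q - 1) := by ring
    _ ≤ z * C * (s + 1) * (Q - 1) := Nat.mul_le_mul_right _ key
    _ = _ := by ring

theorem false_line_big {k : ℕ} (hq : 3 ≤ q) (hQ : q ^ 4 ≤ Q) (hn : n * (q - 1) + 1 < q ^ 2 * Q)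
    (hk : k ≤ q) (h : C * (Q - 1) * (Q * z) ≤ n * (k * (k - 1)))
    (hz : q + 1 ≤ 2 * (z * C)) : False := by
  obtain ⟨r, rfl⟩ : ∃ r, q = r + 1 := ⟨q - 1, by omega⟩
  have hk' : k * (k - 1) ≤ (r + 1) * r :=
    Nat.mul_le_mul hk (by omega)
  have h' := h.trans (Nat.mul_le_mul_left n hk')
  obtain ⟨Q', rfl⟩ : ∃ Q', Q = Q' + 1 := ⟨Q - 1, by
    have : 0 < (r + 1) ^ 4 := by positivity
    omega⟩
  simp only [Nat.add_sub_cancel] at *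
  have h1 : (r + 2) * Q' * (Q' + 1) ≤ 2 * (n * r) * (r + 1) := by
    calc (r + 2) * Q' * (Q' + 1) ≤ 2 * (z * C) * Q' * (Q' + 1) := by
          exact Nat.mul_le_mul_right _ (Nat.mul_le_mul_right _ (by omega))
      _ = 2 * (C * Q' * ((Q' + 1) * z)) := by ring
      _ ≤ 2 * (n * ((r + 1) * r)) := Nat.mul_le_mul_left _ h'
      _ = _ := by ring
  have h2 : (r + 2) * Q' * (Q' + 1) < 2 * ((r + 1) ^ 2 * (Q' + 1)) * (r + 1) :=
    lt_of_le_of_lt h1 (Nat.mul_lt_mul_of_pos_right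
      (Nat.mul_lt_mul_of_pos_left (by omega) (by omega)) (by omega))
  have h3 : (r + 2) * Q' < 2 * (r + 1) ^ 3 := by
    refine lt_of_mul_lt_mul_right (a := Q' + 1) (lt_of_lt_of_le h2 (le_of_eq ?_)) (Nat.zero_le _)
    ring
  nlinarith [Nat.mul_le_mul_left (r + 2) hQ, Nat.one_le_pow 3 (r + 1) (by omega)]

theorem false_small {k : ℕ} (hq : 3 ≤ q) (hn : n * (q - 1) + 1 < q ^ 2 * q ^ 2)
    (hk : 2 * k ≤ q) (h : C * (q ^ 2 - 1) * (q ^ 2 * z) ≤ n * (k * (k - 1)))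
    (hz : q + 1 ≤ 2 * (z * C)) : False := by
  obtain ⟨r, rfl⟩ : ∃ r, q = r + 1 := ⟨q - 1, by omega⟩
  have hk' : 4 * (k * (k - 1)) ≤ (r + 1) * r := by
    calc 4 * (k * (k - 1)) = 2 * k * (2 * (k - 1)) := by ring
      _ ≤ (r + 1) * r := Nat.mul_le_mul hk (by omega)
  simp only [Nat.add_sub_cancel] at *
  obtain ⟨Q', hQ'⟩ : ∃ Q', (r + 1) ^ 2 = Q' + 1 := ⟨(r + 1) ^ 2 - 1, by
    have : 0 < (r + 1) ^ 2 := by positivity
    omega⟩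
  rw [hQ', Nat.add_sub_cancel] at h
  have h1 : 2 * ((r + 2) * Q' * (Q' + 1)) ≤ n * r * (r + 1) := by
    calc 2 * ((r + 2) * Q' * (Q' + 1)) ≤ 2 * (2 * (z * C) * Q' * (Q' + 1)) :=
          Nat.mul_le_mul_left _ (Nat.mul_le_mul_right _ (Nat.mul_le_mul_right _ (by omega)))
      _ = 4 * (C * Q' * ((Q' + 1) * z)) := by ring
      _ ≤ 4 * (n * (k * (k - 1))) := Nat.mul_le_mul_left _ h
      _ = n * (4 * (k * (k - 1))) := by ring
      _ ≤ n * ((r + 1) * r) := Nat.mul_le_mul_left _ hk'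
      _ = _ := by ring
  rw [hQ'] at hn
  have h2 : 2 * ((r + 2) * Q' * (Q' + 1)) < (Q' + 1) * (Q' + 1) * (r + 1) :=
    lt_of_le_of_lt h1 (Nat.mul_lt_mul_of_pos_right (by omega) (by omega))
  have h3 : 2 * ((r + 2) * Q') < (Q' + 1) * (r + 1) := by
    refine lt_of_mul_lt_mul_right (a := Q' + 1) (lt_of_eq_of_lt ?_ (lt_of_lt_of_eq h2 ?_))
      (Nat.zero_le _) <;> ring
  nlinarith

theorem false_pairs {Qq s : ℕ} (hq : 3 ≤ q) (hn : n * (q - 1) + 1 < q ^ 2 * Q) (hz : 2 ≤ z)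
    (hQq : Q = q * Qq) (hs : s * s = Q) (hs2 : q ^ 2 ≤ s)
    (h : (Q - 1) * (Qq - q) * z ≤ n * s) : False := by
  obtain ⟨r, rfl⟩ : ∃ r, q = r + 1 := ⟨q - 1, by omega⟩
  simp only [Nat.add_sub_cancel] at *
  have h' : (Q - 1) * (Qq - (r + 1)) * 2 * r + s ≤ (r + 1) ^ 2 * Q * s := by
    have h1 := (Nat.mul_le_mul_left _ hz).trans h
    calc (Q - 1) * (Qq - (r + 1)) * 2 * r + s ≤ n * s * r + s :=
          Nat.add_le_add_right (Nat.mul_le_mul_right _ h1) _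
      _ = (n * r + 1) * s := by ring
      _ ≤ _ := Nat.mul_le_mul_right _ hn.le
  obtain ⟨e, he⟩ : ∃ e, s = (r + 1) ^ 2 + e := ⟨s - (r + 1) ^ 2, by omega⟩
  -- pass to integers
  have hQ1 : 1 ≤ Q := by rw [← hs]; nlinarith
  have hQq1 : r + 1 ≤ Qq := by
    by_contra hlt
    have h1 := Nat.mul_le_mul hs2 hs2
    rw [hs, hQq] at h1
    nlinarith [Nat.mul_le_mul_left (r + 1) (show Qq ≤ r by omega)]
  zify [hQ1, hQq1] at h' hQq hs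
  have hQqv : ((r : ℤ) + 1) * (Qq : ℤ) = (s : ℤ) * s := by rw [hs, hQq]
  have hr2 : (2 : ℤ) ≤ r := by exact_mod_cast (by omega : 2 ≤ r)
  have hs' : ((r : ℤ) + 1) ^ 2 ≤ s := by exact_mod_cast hs2
  have hS : (0 : ℤ) < s := by nlinarith
  rw [← hs] at h'
  have h4 : ((s : ℤ) * s - 1) * ((s : ℤ) * s - ((r : ℤ) + 1) ^ 2) * 2 * r + ((r : ℤ) + 1) * s ≤
      ((r : ℤ) + 1) ^ 3 * (s * s) * s := by
    have := mul_le_mul_of_nonneg_left h' (by positivity : (0 : ℤ) ≤ (r : ℤ) + 1)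
    have he' : ((r : ℤ) + 1) * (((s : ℤ) * s - 1) * ((Qq : ℤ) - ((r : ℤ) + 1)) * 2 * r + s) =
        ((s : ℤ) * s - 1) * ((s : ℤ) * s - ((r : ℤ) + 1) ^ 2) * 2 * r + ((r : ℤ) + 1) * s := by
      linear_combination (((s : ℤ) * s - 1) * 2 * r) * hQqv
    rw [← he']
    exact this.trans (le_of_eq (by ring))
  have h5 : 2 * (r : ℤ) * ((s : ℤ) * s - ((r : ℤ) + 1) ^ 2 - 1) < ((r : ℤ) + 1) ^ 3 * s := by
    refine lt_of_mul_lt_mul_left (a := (s : ℤ) * s) ?_ (mul_nonneg hS.le hS.le)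
    nlinarith [mul_pos (by positivity : (0 : ℤ) < (r : ℤ) + 1) hS]
  have h9 : (9 : ℤ) ≤ s := by nlinarith
  have h6 : 1 ≤ ((r : ℤ) - 1) * s - 2 * r := by
    nlinarith [mul_le_mul_of_nonneg_left h9 (by linarith : (0 : ℤ) ≤ (r : ℤ) - 1)]
  nlinarith [mul_le_mul_of_nonneg_left h6 (sq_nonneg ((r : ℤ) + 1)),
    mul_le_mul_of_nonneg_left (mul_le_mul_of_nonneg_right hs' hS.le)
      (by linarith : (0 : ℤ) ≤ 2 * r)]

theorem false_line_eq {L : ℕ} (hq : 3 ≤ q) (hQ : q ^ 2 ≤ Q) (hn : n * (q - 1) + 1 < q ^ 2 * Q)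
    (h : C * (Q - 1) * L ≤ n * (q - 1)) (hL : (q + 2) * q ≤ C * L) : False := by
  have h1 : (q + 2) * q * (Q - 1) ≤ n * (q - 1) := by
    calc (q + 2) * q * (Q - 1) ≤ C * L * (Q - 1) := Nat.mul_le_mul_right _ hL
      _ = C * (Q - 1) * L := by ring
      _ ≤ _ := h
  obtain ⟨Q', rfl⟩ : ∃ Q', Q = Q' + 1 := ⟨Q - 1, by
    have : 0 < q ^ 2 := by positivity
    omega⟩
  simp only [Nat.add_sub_cancel] at *
  nlinarith

theorem false_four {M : ℕ} (hq : 3 ≤ q) (hn : n * (q - 1) + 1 < q ^ 2 * q ^ 2)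
    (h : M * (q * (q ^ 2 - 1)) ≤ n * (q - 1)) (hM : q + 1 ≤ M) : False := by
  obtain ⟨Q', hQ'⟩ : ∃ Q', q ^ 2 = Q' + 1 := ⟨q ^ 2 - 1, by
    have : 0 < q ^ 2 := by positivity
    omega⟩
  rw [hQ', Nat.add_sub_cancel] at h
  rw [hQ'] at hn
  nlinarith [Nat.mul_le_mul_right (q * Q') hM]

end CfsgLib.KnownA.MinIndexSymp
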