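import Cfsg.Agent.Lib.KnownA.MinIndexSymp.LineX

/-!
# The axes of a point form a subspace
-/

set_option autoImplicit false
set_option linter.unusedSectionVars false

open Module MulAction CfsgLib.Classical Finset

namespace CfsgLib.KnownA.MinIndexSymp

variable {F : Type*} [Field F] {V : Type*} [AddCommGroup V] [Module F V] [FiniteDimensional F V]
  {B : V →ₗ[F] V →ₗ[F] F} {Ω : Type*} [MulAction (isomGroup B) Ω] {hA : B.IsAlt}
  [Fintype F] [Fintype Ω] {u v : V}

theorem tv_zero_vec (c : F) : tv hA (0 : V) c = 1 := by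
  rw [show (0 : V) = (0 : F) • (0 : V) by simp, tv_smul, zero_mul, zero_mul, tv_zero]

theorem axis_zero (ω : Ω) : Axis hA ω (0 : V) := fun c => by rw [tv_zero_vec, one_smul]

/-- Two orthogonal axes give an axis at their sum. -/
theorem axis_add_orth (H : Small hA Ω) {ω : Ω} {a b : V} (hab : B a b = 0)
    (ha : Axis hA ω a) (hb : Axis hA ω b) (hli : LinearIndependent F ![a, b]) :
    Axis hA ω (a + b) := by
  by_contra hu
  set u := a + b with hu_def
  have hua : B u a = 0 := by simp [hu_def, hA a, alt_zero_symm hA hab]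
  have hba := alt_zero_symm hA hab
  have hu0 : u ≠ 0 := fun e => by
    have := (LinearIndependent.pair_iff.1 hli 1 1 (by rw [one_smul, one_smul]; exact e)).1
    exact one_ne_zero this
  have hat : ∀ t : F, a ≠ t • u := fun t e => by
    obtain ⟨h1, h2⟩ := LinearIndependent.pair_iff.1 hli (1 - t) (-t) (by
      rw [hu_def] at e
      linear_combination (norm := module) e)
    rw [neg_eq_zero] at h2
    rw [h2, sub_zero] at h1
    exact one_ne_zero h1
  have key : ∀ c : F, rad hA u (c • a) (-c) • ω = ω := by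
    intro c
    have e : rad hA u (c • a) (-c) = tv hA a c * tv hA b (-c) := by
      refine Subtype.ext (LinearEquiv.ext fun x => ?_)
      rw [rad_apply (by simp [hua])]
      simp only [Subgroup.coe_mul, LinearEquiv.mul_apply, tv_apply, hu_def, map_add, map_smul,
        LinearMap.add_apply, LinearMap.smul_apply, smul_eq_mul, hba, mul_zero, add_zero]
      module
    rw [e]
    exact mul_fix (ha c) (hb (-c))
  rcases kinds H hu0 hu with hR | ⟨h4, a', ha'u, ha't, hpure, hall⟩
  · obtain ⟨t, ht⟩ := hR a (-1) hua (by simpa using key 1)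
    exact hat t ht
  obtain ⟨s, t, e⟩ := hall a (-1) hua (by simpa using key 1)
  have hshift : ∀ c : F, -c - -(2 * (c * t)) ∈ Zf hA ω u := by
    intro c
    have h1 := hpure (c * s)
    have e1 : (c * s) • a' = c • a + (-(c * t)) • u := by rw [e]; module
    rw [e1, rad_shift (by simp [hua]), zero_add] at h1
    have := sub_mem_Zf (by simp [hua]) h1 (key c)
    convert this using 1
    ring
  by_cases h2 : (2 : F) = 0
  · refine hu (axis_iff.2 ((AddSubgroup.eq_top_iff' _).2 fun c => ?_))
    have := (Zf hA ω u).neg_mem (hshift c)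
    convert this using 1
    linear_combination (c * t) * h2
  have ht : 2 * t = 1 := by
    by_contra ht
    refine hu (axis_iff.2 (eq_top_of_mul (a := 2 * t - 1) (sub_ne_zero.2 ht) fun c => ?_))
    have := hshift c
    convert this using 1
    ring
  have hs : s ≠ 0 := fun e0 => hat t (by rw [e, e0, zero_smul, zero_add])
  have ha'0 : a' ≠ 0 := fun e0 => ha't 0 (by rw [e0, zero_smul])
  have hax' : Axis hA ω a' := by
    by_contra hna
    exact no_pure H h4 h2 ha'u hu hna ha't hu0 hpure
  have hd : Axis hA ω (a - b) := by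
    have e1 : a - b = (2 * s) • a' := by
      have e2 : (2 : F) • a = (2 * s) • a' + u := by
        conv_lhs => rw [e, smul_add, smul_smul, smul_smul, ht, one_smul]
      rw [hu_def] at e2
      linear_combination (norm := module) e2
    rw [e1]
    exact hax'.scale _
  refine hu fun w => ?_
  have e : tv hA u w = tv hA a (2 * w) * tv hA b (2 * w) * tv hA (a - b) (-w) := by
    refine Subtype.ext (LinearEquiv.ext fun x => ?_)
    simp only [Subgroup.coe_mul, LinearEquiv.mul_apply, tv_apply, hu_def, map_add, map_sub,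
      map_smul, LinearMap.add_apply, LinearMap.sub_apply, LinearMap.smul_apply, smul_eq_mul, hba,
      hab, hA a, hA b, sub_self, add_zero, mul_zero]
    module
  rw [e]
  exact mul_fix (mul_fix (ha _) (hb _)) (hd _)

theorem axis_add (H : Small hA Ω) {ω : Ω} {a b : V} (ha : Axis hA ω a) (hb : Axis hA ω b) :
    Axis hA ω (a + b) := by
  by_cases hba : B b a = 0
  · by_cases hli : LinearIndependent F ![a, b]
    · exact axis_add_orth H (alt_zero_symm hA hba) ha hb hli
    · by_cases ha0 : a = 0
      · rwa [ha0, zero_add]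
      · rw [LinearIndependent.pair_iff' ha0] at hli
        push Not at hli
        obtain ⟨t, rfl⟩ := hli
        rw [show a + t • a = (1 + t) • a by module]
        exact ha.scale _
  · have := (axis_iff_isAxis.1 ha).add (axis_iff_isAxis.1 hb) hba 1
    rw [one_smul, add_comm] at this
    exact axis_iff_isAxis.2 this

/-- The subspace of axes. -/
def axes (H : Small hA Ω) (ω : Ω) : Submodule F V where
  carrier := {v | Axis hA ω v}
  zero_mem' := axis_zero ω
  add_mem' ha hb := axis_add H ha hb
  smul_mem' a _ ha := ha.scale a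

theorem mem_axes (H : Small hA Ω) {ω : Ω} {a : V} : a ∈ axes H ω ↔ Axis hA ω a := Iff.rfl

theorem mem_axes_move (H : Small hA Ω) (g : isomGroup B) {ω : Ω} {a : V} :
    g.1 a ∈ axes H (g • ω) ↔ a ∈ axes H ω := axis_smul_iff g

theorem axes_move (H : Small hA Ω) (g : isomGroup B) (ω : Ω) :
    axes H (g • ω) = (axes H ω).map (g.1 : V →ₗ[F] V) := by
  ext x
  constructor
  · intro hx
    refine ⟨(g⁻¹ : isomGroup B).1 x, ?_, apply_inv_self g x⟩
    rw [SetLike.mem_coe, ← mem_axes_move H g, apply_inv_self]
    exact hx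
  · rintro ⟨y, hy, rfl⟩
    exact (mem_axes_move H g).2 hy

theorem axes_ne_top (H : Small hA Ω) [Nontrivial Ω] (ω : Ω) : axes H ω ≠ ⊤ := by
  intro htop
  have hst : stabilizer (isomGroup B) ω = ⊤ :=
    eq_top_of_isAxis hA H.nd fun x => axis_iff_isAxis.1
      ((mem_axes H).1 (htop ▸ Submodule.mem_top : x ∈ axes H ω))
  obtain ⟨ν, hν⟩ := exists_ne ω
  obtain ⟨g, hg⟩ := H.trans ω ν
  exact hν (hg.symm.trans (mem_stabilizer_iff.1 (hst ▸ Subgroup.mem_top g)))

theorem exists_not_axis (H : Small hA Ω) [Nontrivial Ω] (ω : Ω) :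
    ∃ u : V, u ≠ 0 ∧ ¬ Axis hA ω u := by
  obtain ⟨u, -, hu⟩ := SetLike.exists_of_lt (axes_ne_top H ω).lt_top
  exact ⟨u, fun e => hu (e ▸ (axes H ω).zero_mem), hu⟩

end CfsgLib.KnownA.MinIndexSymp
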