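import Cfsg.Agent.Lib.KnownA.MinIndexSymp.Perp

/-!
# Small actions of symplectic groups: first consequences
-/

set_option autoImplicit false
set_option linter.unusedSectionVars false

open Module MulAction CfsgLib.Classical Finset

namespace CfsgLib.KnownA.MinIndexSymp

variable {F : Type*} [Field F] {V : Type*} [AddCommGroup V] [Module F V] [FiniteDimensional F V]
  {B : V →ₗ[F] V →ₗ[F] F} {Ω : Type*} [MulAction (isomGroup B) Ω] {hA : B.IsAlt}
  [Fintype F] [Fintype Ω] {u v : V}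

theorem Small.one_lt (H : Small hA Ω) : 1 < Fintype.card F := by have := H.q3; omega

theorem Small.exists_map (H : Small hA Ω) {a b : V} (ha : a ≠ 0) (hb : b ≠ 0) :
    ∃ g : isomGroup B, g.1 a = b :=
  let ⟨g, _, hg⟩ := tv_transitive hA H.nd.1 ha hb
  ⟨g, hg⟩

theorem ne_zero_left (h : B u v = 1) : u ≠ 0 := by rintro rfl; simp at h

theorem Small.finrank_even (H : Small hA Ω) : Even (finrank F V) := by
  have key : ∀ (d : ℕ) {W : Type _} [AddCommGroup W] [Module F W] [FiniteDimensional F W]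
      {C : W →ₗ[F] W →ₗ[F] F}, C.IsAlt → C.Nondegenerate → finrank F W = d → Even d := by
    intro d
    induction d using Nat.strong_induction_on with
    | _ d ih =>
      intro W _ _ _ C hC hN hd
      by_cases hd0 : d = 0
      · simp [hd0]
      have : Nontrivial W := Module.nontrivial_of_finrank_pos (R := F) (by omega)
      obtain ⟨a, ha⟩ := exists_ne (0 : W)
      obtain ⟨b, hab⟩ := alt_exists_partner hN.1 ha
      have h2 := finrank_perp_pair_lt hC hab
      obtain ⟨k, hk⟩ := ih (finrank F (perp C (Submodule.span F ({a, b} : Set W)))) (by omega)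
        (restrictForm_isAlt hC _)
        (restrictForm_nondegenerate hC.isRefl (nondegOn_perp hN.2 (nondegOn_pair hC hab))) rfl
      exact ⟨k + 1, by omega⟩
  exact key _ hA H.nd rfl

theorem exists_prime_pow (F : Type*) [Field F] [Fintype F] :
    ∃ p f : ℕ, p.Prime ∧ 0 < f ∧ Fintype.card F = p ^ f := by
  obtain ⟨p, hp⟩ := CharP.exists F
  obtain ⟨n, hp', hn⟩ := FiniteField.card F p
  exact ⟨p, n, hp', n.pos, hn⟩

theorem two_mul_le_of_lt {x e : ℕ} (hx : x ∣ Fintype.card F ^ e) (hlt : x < Fintype.card F) :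
    2 * x ≤ Fintype.card F := by
  obtain ⟨p, f, hp, -, hq⟩ := exists_prime_pow F
  rw [hq, ← pow_mul] at hx
  obtain ⟨i, -, rfl⟩ := (Nat.dvd_prime_pow hp).1 hx
  rw [hq] at hlt ⊢
  have hi : i < f := (Nat.pow_lt_pow_iff_right hp.one_lt).1 hlt
  calc 2 * p ^ i ≤ p * p ^ i := Nat.mul_le_mul_right _ hp.two_le
    _ = p ^ (i + 1) := (pow_succ' p i).symm
    _ ≤ p ^ f := Nat.pow_le_pow_right hp.pos hi

/-- The size of the perpendicular space as a power of `q`. -/
theorem natCard_Wsp : Nat.card (Wsp B u v) = Fintype.card F ^ finrank F (Wsp B u v) := by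
  rw [Module.natCard_eq_pow_finrank (K := F), Nat.card_eq_fintype_card]

theorem Small.smallW (H : Small hA Ω) (h : B u v = 1) :
    Fintype.card Ω * (Fintype.card F - 1) + 1 < Fintype.card F ^ 2 * Nat.card (Wsp B u v) := by
  rw [mul_comm (Fintype.card F ^ 2), card_Wsp hA h]
  exact H.small

theorem Small.sq_le_W (H : Small hA Ω) (h : B u v = 1) :
    Fintype.card F ^ 2 ≤ Nat.card (Wsp B u v) := by
  rw [natCard_Wsp]
  refine Nat.pow_le_pow_right (by have := H.q3; omega) ?_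
  have := finrank_Wsp hA h
  have := H.dim
  omega

theorem Zf_ne_top_iff {ω : Ω} {a : V} : Zf hA ω a ≠ ⊤ ↔ ¬ Axis hA ω a := by
  rw [Ne, ← axis_iff]

theorem fix_rad_iff_Kbar (h : B u v = 1) {ω : Ω} {w : V} (hw : B u w = 0) {c : F}
    (hfix : rad hA u w c • ω = ω) : proj hA h w hw ∈ Kbar hA u v ω :=
  ⟨c + 2 * B w v, by rw [← rad_proj hA h hw]; exact hfix⟩

theorem Wsp_eq_zero_of_mem (hA : B.IsAlt) (h : B u v = 1) {w : Wsp B u v} {t : F} (e : (w : V) = t • u) :
    w = 0 := by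
  have h1 := Wsp_right w
  rw [e, map_smul, alt_swap hA v u, h, smul_eq_mul, mul_neg, mul_one, neg_eq_zero] at h1
  refine Subtype.ext ?_
  rw [e, h1, zero_smul]
  rfl

theorem reg_iff (h : B u v = 1) {ω : Ω} : Reg hA ω u ↔ Kbar hA u v ω = ⊥ := by
  constructor
  · intro hR
    refine (AddSubgroup.eq_bot_iff_forall _).2 fun w ⟨c, hc⟩ => ?_
    obtain ⟨t, ht⟩ := hR w c (Wsp_left w) hc
    exact Wsp_eq_zero_of_mem hA h ht
  · intro hK w c hw hfix
    have := fix_rad_iff_Kbar h hw hfix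
    rw [hK, AddSubgroup.mem_bot] at this
    refine ⟨B w v, ?_⟩
    conv_lhs => rw [proj_eq hA h w hw, this, Submodule.coe_zero, zero_add]

theorem full_iff (h : B u v = 1) {ω : Ω} : Full hA ω u ↔ Kbar hA u v ω = ⊤ := by
  constructor
  · intro hF
    exact (AddSubgroup.eq_top_iff' _).2 fun w => hF w (Wsp_left w)
  · intro hK w hw
    obtain ⟨c, hc⟩ := (AddSubgroup.eq_top_iff' _).1 hK (proj hA h w hw)
    refine ⟨c - 2 * B w v, ?_⟩
    rw [rad_proj hA h hw, sub_add_cancel]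
    exact hc

theorem eq_top_of_mul {Z : AddSubgroup F} {a : F} (ha : a ≠ 0) (h : ∀ x, x * a ∈ Z) : Z = ⊤ :=
  (AddSubgroup.eq_top_iff' _).2 fun y => by
    simpa [div_mul_cancel₀ _ ha] using h (y / a)

theorem mem_of_two_mul {Z : AddSubgroup F} (h2 : (2 : F) ≠ 0) {x : F} (hx : 2 * x ∈ Z) : x ∈ Z := by
  obtain ⟨p, hp⟩ := CharP.exists F
  obtain ⟨n, hp', -⟩ := FiniteField.card F p
  have hodd : p % 2 = 1 := hp'.eq_two_or_odd.resolve_left fun e => h2 (by
    have := CharP.cast_eq_zero F p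
    rw [e] at this
    exact_mod_cast this)
  have e : x = ((p + 1) / 2) • (2 * x) := by
    rw [nsmul_eq_mul, ← mul_assoc]
    have : (((p + 1) / 2 : ℕ) : F) * 2 = 1 := by
      rw [show (((p + 1) / 2 : ℕ) : F) * 2 = (((p + 1) / 2 * 2 : ℕ) : F) by push_cast; ring,
        show (p + 1) / 2 * 2 = p + 1 by omega]
      push_cast
      rw [CharP.cast_eq_zero F p, zero_add]
    rw [this, one_mul]
  rw [e]
  exact Z.nsmul_mem hx _

/-- In odd characteristic the image is isotropic modulo the transvection part. -/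
theorem form_mem_Zf (h2 : (2 : F) ≠ 0) {ω : Ω} {w w' : Wsp B u v} (hw : w ∈ Kbar hA u v ω)
    (hw' : w' ∈ Kbar hA u v ω) : B (w' : V) (w : V) ∈ Zf hA ω u := by
  obtain ⟨c, hc⟩ := hw
  obtain ⟨c', hc'⟩ := hw'
  refine mem_of_two_mul h2 ?_
  have h1 : rad hA u (w' : V) (c' + 2 * B (w' : V) (w : V)) • ω = ω := by
    rw [← rad_conj_rad (Wsp_left w) (Wsp_left w') c c']
    exact mul_fix (mul_fix hc hc') (inv_fix hc)
  have h3 : (rad hA u (w' : V) c')⁻¹ * rad hA u (w' : V) (c' + 2 * B (w' : V) (w : V)) =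
      tv hA u (2 * B (w' : V) (w : V)) := by
    rw [← rad_mul_tv (Wsp_left w'), inv_mul_cancel_left]
  rw [mem_Zf, ← h3]
  exact mul_fix (inv_fix hc') h1

theorem isotropic_card (hA : B.IsAlt) (hN : B.Nondegenerate) (h : B u v = 1) (h2 : (2 : F) ≠ 0)
    {ω : Ω} (hax : ¬ Axis hA ω u) :
    Nat.card (Kbar hA u v ω) * Nat.card (Kbar hA u v ω) ≤ Nat.card (Wsp B u v) := by
  obtain ⟨ψ, hψ, hψZ⟩ := exists_char (Zf_ne_top_iff.2 hax)
  have hle : Kbar hA u v ω ≤ charPerp ψ (Kbar hA u v ω) := fun w hw k hk =>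
    hψZ _ (form_mem_Zf h2 hk hw)
  rw [← card_charPerp hA hN h hψ (Kbar hA u v ω)]
  exact Nat.mul_le_mul_right _ (AddSubgroup.card_le_of_le hle)

theorem two_eq_zero_of_full (hA : B.IsAlt) (hN : B.Nondegenerate) (h : B u v = 1)
    (hd : 4 ≤ finrank F V) {ω : Ω} (hax : ¬ Axis hA ω u) (hF : Full hA ω u) : (2 : F) = 0 := by
  by_contra h2
  have hd' := finrank_Wsp hA h
  have : Nontrivial (Wsp B u v) := Module.nontrivial_of_finrank_pos (R := F) (by omega)
  obtain ⟨a, ha⟩ := exists_ne (0 : Wsp B u v)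
  obtain ⟨b, hb⟩ := alt_exists_partner (Wsp_nondeg hA hN h).1 ha
  refine (Zf_ne_top_iff.2 hax) (eq_top_of_mul one_ne_zero fun x => ?_)
  have hK := (full_iff h).1 hF
  have := form_mem_Zf h2 (ω := ω) (w := b) (w' := x • a) (by rw [hK]; trivial) (by rw [hK]; trivial)
  rw [restrictForm_apply] at hb
  simpa [hb] using this

/-- In characteristic two the radical is abelian. -/
theorem fix_orb_iff (h2 : (2 : F) = 0) {ω ν : Ω} (hν : ν ∈ orb hA u v ω) {w : V}
    (hw : B u w = 0) {c : F} : rad hA u w c • ν = ν ↔ rad hA u w c • ω = ω := by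
  obtain ⟨p, rfl⟩ := mem_orb.1 hν
  conv_rhs => rw [← fix_conj (X hA u v p)]
  rw [X, rad_conj_rad (Wsp_left p.1) hw, h2, zero_mul, add_zero]

/-- A transvection in the perpendicular space changes the stabiliser in the radical. -/
theorem exists_move_stab (h2 : (2 : F) = 0) (hq : 3 ≤ Fintype.card F) {ω : Ω}
    (hax : ¬ Axis hA ω u) {b k : Wsp B u v} (hb : ∀ t : F, t • b ∈ Kbar hA u v ω)
    (hk : ∀ t : F, t • k ∈ Kbar hA u v ω) (hbk : B (k : V) (b : V) ≠ 0) :
    ∃ c w d, B u w = 0 ∧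
      ¬ (rad hA u w d • tv hA (b : V) c • ω = tv hA (b : V) c • ω ↔ rad hA u w d • ω = ω) := by
  by_contra! hall
  classical
  refine Zf_ne_top_iff.2 hax ?_
  have key : ∀ μ ν : F, ν ≠ 0 → ∀ cμ, rad hA u (μ • (b : V)) cμ • ω = ω →
      cμ + ν * (μ * B (b : V) (k : V)) ∈ Zf hA ω u := by
    intro μ ν hν cμ hcμ
    obtain ⟨ck, hck⟩ := hk ν
    rw [Submodule.coe_smul] at hck
    set g := tv hA (b : V) (μ / (ν * B (k : V) (b : V)))
    have hgu : g.1 u = u := by simp [g, Wsp_left b]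
    have hgk : g.1 (ν • (k : V)) = ν • (k : V) + μ • (b : V) := by
      simp only [g, tv_apply, map_smul, LinearMap.smul_apply, smul_eq_mul]
      rw [smul_add, smul_smul]
      congr 2
      field_simp
    have h1 : rad hA u (g.1 (ν • (k : V))) ck • g • ω = g • ω := by
      have := (fix_rad_smul (hA := hA) g (u := u)).2 hck
      rwa [hgu] at this
    have hu1 : B u (g.1 (ν • (k : V))) = 0 := by
      rw [hgk]; simp [Wsp_left b, Wsp_left k]
    rw [hall _ _ _ hu1, hgk] at h1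
    have h2' : rad hA u (ν • (k : V)) ck * rad hA u (μ • (b : V)) cμ =
        rad hA u (ν • (k : V) + μ • (b : V)) ck * tv hA u (cμ + ν * (μ * B (b : V) (k : V))) := by
      rw [rad_mul (by simp [Wsp_left k]) (by simp [Wsp_left b]),
        rad_mul_tv (by simp [Wsp_left b, Wsp_left k])]
      simp [add_assoc]
    rw [mem_Zf]
    have h3 := congrArg (fun x : isomGroup B => x • ω) h2'
    simp only [mul_smul] at h3
    rw [hcμ, hck] at h3
    conv_lhs at h3 => rw [← h1]
    exact (smul_left_cancel _ h3).symm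
  obtain ⟨ν, -, hν⟩ : ∃ ν ∈ (Finset.univ : Finset F), ν ∉ ({0, 1} : Finset F) :=
    Finset.exists_mem_notMem_of_card_lt_card (by
      rw [Finset.card_univ]; exact lt_of_le_of_lt Finset.card_le_two (by omega))
  simp only [Finset.mem_insert, Finset.mem_singleton, not_or] at hν
  refine eq_top_of_mul (a := (ν - 1) * B (b : V) (k : V))
    (mul_ne_zero (sub_ne_zero.2 hν.2) fun e => hbk (alt_zero_symm hA e)) fun μ => ?_
  obtain ⟨cμ, hcμ⟩ := hb μ
  rw [Submodule.coe_smul] at hcμ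
  have := (Zf hA ω u).sub_mem (key μ ν hν.1 cμ hcμ) (key μ 1 one_ne_zero cμ hcμ)
  convert this using 1
  ring

/-- A transvection in the perpendicular space moves the orbit. -/
theorem exists_move_orbit (h2 : (2 : F) = 0) (hq : 3 ≤ Fintype.card F) {ω : Ω}
    (hax : ¬ Axis hA ω u) {b k : Wsp B u v} (hb : ∀ t : F, t • b ∈ Kbar hA u v ω)
    (hk : ∀ t : F, t • k ∈ Kbar hA u v ω) (hbk : B (k : V) (b : V) ≠ 0) :
    ∃ c, tv hA (b : V) c • ω ∉ orb hA u v ω := by
  obtain ⟨c, w, d, hw, hne⟩ := exists_move_stab h2 hq hax hb hk hbk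
  exact ⟨c, fun hmem => hne (fix_orb_iff h2 hmem hw)⟩

end CfsgLib.KnownA.MinIndexSymp
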