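import Cfsg.Agent.Lib.KnownA.MinIndexSymp.Fixed

/-!
# In dimension at least six some point has a hyperplane pair of axes
-/

set_option autoImplicit false
set_option linter.unusedSectionVars false

open Module MulAction CfsgLib.Classical Finset

namespace CfsgLib.KnownA.MinIndexSymp

variable {F : Type*} [Field F] {V : Type*} [AddCommGroup V] [Module F V] [FiniteDimensional F V]
  {B : V →ₗ[F] V →ₗ[F] F} {Ω : Type*} [MulAction (isomGroup B) Ω] {hA : B.IsAlt}
  [Fintype F] [Fintype Ω] {u v : V}

theorem Small.reg (H : Small hA Ω) (h6 : 6 ≤ finrank F V) {ω : Ω} {a : V} (ha : a ≠ 0)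
    (hax : ¬ Axis hA ω a) : Reg hA ω a :=
  (kinds H ha hax).resolve_right fun h => by omega

theorem sv_add {a b : V} (h : B a b = 0) (c d : F) :
    sv hA a b (c + d) = sv hA a b c * sv hA a b d := by
  have h' : B b a = 0 := alt_zero_symm hA h
  refine Subtype.ext (LinearEquiv.ext fun x => ?_)
  simp only [Subgroup.coe_mul, LinearEquiv.mul_apply, sv_apply hA h, map_add, map_smul,
    LinearMap.add_apply, LinearMap.smul_apply, smul_eq_mul, h, h', hA a, hA b, mul_zero, add_zero]
  module

theorem sv_smul_smul {a b : V} (h : B a b = 0) (r s c : F) :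
    sv hA (r • a) (s • b) c = sv hA a b (r * s * c) := by
  refine Subtype.ext (LinearEquiv.ext fun x => ?_)
  rw [sv_apply hA (by simp [h]), sv_apply hA h]
  simp only [map_smul, smul_eq_mul]
  module

theorem rad_eq_sv (a b : V) : rad hA a b 0 = sv hA a b 1 := by rw [rad, tv_zero, mul_one]

/-- Some point has all vectors perpendicular to a hyperbolic pair as axes. -/
theorem exists_big_axes (H : Small hA Ω) [Nontrivial Ω] (h6 : 6 ≤ finrank F V) :
    ∃ ξ : Ω, finrank F V ≤ finrank F (axes H ξ) + 2 := by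
  obtain ⟨ω₀⟩ : Nonempty Ω := inferInstance
  obtain ⟨u, hu0, hax⟩ := exists_not_axis H ω₀
  obtain ⟨v, h⟩ := alt_exists_partner H.nd.1 hu0
  have hW := nondegOn_pair hA h
  have hAW := restrictForm_isAlt hA (Wsp B u v)
  have hNW := Wsp_nondeg hA H.nd h
  obtain ⟨m, b, hb⟩ := exists_sympBasis hAW hNW
  have hm : 2 ≤ m := by
    have h1 := Module.finrank_eq_card_basis b
    have h2 := finrank_Wsp (v := v) hA h
    simp only [Fintype.card_sum, Fintype.card_fin] at h1
    omega
  obtain ⟨lam, hlam, hlam1⟩ := exists_ne_zero_one H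
  set coef : Fin m ⊕ Fin m → F := Sum.elim (fun _ => lam) (fun _ => lam⁻¹) with hcoef
  have hc0 : ∀ i, coef i ≠ 0 := by rintro (i | i) <;> simp [hcoef, hlam]
  have hc1 : ∀ i, coef i ≠ 1 := by rintro (i | i) <;> simp [hcoef, hlam1]
  set b' := b.unitsSMul fun i => Units.mk0 (coef i) (hc0 i) with hb'def
  have hb'a : ∀ i, b' i = coef i • b i := fun i => by
    rw [hb'def, Module.Basis.unitsSMul_apply]; rfl
  have hb' : IsSympFamily (restrictForm B (Wsp B u v)) b' := by
    refine ⟨fun i j => ?_, fun i j => ?_, fun i j => ?_⟩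
    · rw [hb'a, hb'a, map_smul, map_smul, LinearMap.smul_apply, hb.1]
      simp only [hcoef, Sum.elim_inl, Sum.elim_inr, smul_eq_mul]
      split <;> simp [hlam]
    · rw [hb'a, hb'a, map_smul, map_smul, LinearMap.smul_apply, hb.2.1, smul_zero, smul_zero]
    · rw [hb'a, hb'a, map_smul, map_smul, LinearMap.smul_apply, hb.2.2, smul_zero, smul_zero]
  set g₀ : isomGroup (restrictForm B (Wsp B u v)) :=
    ⟨b.equiv b' (Equiv.refl _), fun x y => IsSympFamily.basisEquiv_mem hAW hAW b b' hb hb' x y⟩
    with hg₀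
  have hgb : ∀ i, g₀.1 (b i) = coef i • b i := fun i => by
    rw [← hb'a]; exact Module.Basis.equiv_apply b i b' (Equiv.refl _)
  have hpow : ∀ (k : ℕ) i, (g₀ ^ k : isomGroup _).1 (b i) = coef i ^ k • b i := by
    intro k
    induction k with
    | zero => simp
    | succ k ih =>
      intro i
      rw [pow_succ, Subgroup.coe_mul, LinearEquiv.mul_apply, hgb, map_smul, ih, smul_smul,
        ← pow_succ']
  have hone : g₀ ^ (Fintype.card F - 1) = 1 := by
    refine Subtype.ext (LinearEquiv.ext fun x => ?_)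
    refine LinearMap.congr_fun (b.ext (f₁ := ((g₀ ^ (Fintype.card F - 1) : isomGroup _).1 :
      Wsp B u v →ₗ[F] Wsp B u v)) (f₂ := LinearMap.id) fun i => ?_) x
    show (g₀ ^ (Fintype.card F - 1) : isomGroup _).1 (b i) = b i
    rw [hpow, FiniteField.pow_card_sub_one_eq_one _ (hc0 i), one_smul]
  set s := perpIncl hA hW g₀ with hsdef
  have hsu : s.1 u = u :=
    perpIncl_apply_left hA hW g₀ ⟨u, Submodule.subset_span (Set.mem_insert _ _)⟩
  have hsv : s.1 v = v :=
    perpIncl_apply_left hA hW g₀ ⟨v, Submodule.subset_span (Set.mem_insert_of_mem _ rfl)⟩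
  have hsw : ∀ w : Wsp B u v, s.1 (w : V) = (g₀.1 w : V) := perpIncl_apply_right hA hW g₀
  have hsone : s ^ (Fintype.card F - 1) = 1 := by rw [hsdef, ← map_pow, hone, map_one]
  have hfree : ∀ w : Wsp B u v, onW s hsu hsv w = w → w = 0 := by
    intro w hw
    have hw' : g₀.1 w = w := Subtype.ext ((hsw w).symm.trans (congrArg Subtype.val hw))
    refine hNW.2 w fun x => LinearMap.congr_fun (b.ext (f₁ := (restrictForm B (Wsp B u v)).flip w)
      (f₂ := 0) fun i => ?_) x
    show restrictForm B (Wsp B u v) (b i) w = 0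
    have h1 := g₀.2 (b i) w
    rw [hgb, hw', map_smul, LinearMap.smul_apply, smul_eq_mul] at h1
    exact (mul_left_eq_self₀.1 h1).resolve_left (hc1 i)
  obtain ⟨ξ, hξ, hsξ⟩ := exists_fixed H h hax (H.reg h6 hu0 hax) s hsu hsv hsone hfree
  have haxξ : ¬ Axis hA ξ u := by rw [axis_iff, Zf_of_mem hξ, ← axis_iff]; exact hax
  have hRξ := H.reg h6 hu0 haxξ
  refine ⟨ξ, ?_⟩
  set E : Fin m → V := fun i => (b (.inl i) : V) with hE
  set G : Fin m → V := fun i => (b (.inr i) : V) with hG
  have hEG : ∀ i j, B (E i) (G j) = if i = j then 1 else 0 := fun i j => by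
    simpa [hE, hG] using hb.1 i j
  have hEE : ∀ i j, B (E i) (E j) = 0 := fun i j => by simpa [hE] using hb.2.1 i j
  have hGG : ∀ i j, B (G i) (G j) = 0 := fun i j => by simpa [hG] using hb.2.2 i j
  have hsE : ∀ i, s.1 (E i) = lam • E i := fun i => by
    rw [hE, hsw, hgb]; rfl
  have hsG : ∀ i, s.1 (G i) = lam⁻¹ • G i := fun i => by
    rw [hG, hsw, hgb]; rfl
  have hpair : ∀ i j, i ≠ j → Axis hA ξ (E i) ∧ Axis hA ξ (G j) := by
    intro i j hij
    have hii : B (E i) (G i) = 1 := by rw [hEG, if_pos rfl]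
    have hij' : B (E i) (G j) = 0 := by rw [hEG, if_neg hij]
    have hEu : B (E i) u = 0 := alt_zero_symm hA (Wsp_left _)
    have hEv : B (E i) v = 0 := alt_zero_symm hA (Wsp_right _)
    have hGu : B (G j) u = 0 := alt_zero_symm hA (Wsp_left _)
    have hGv : B (G j) v = 0 := alt_zero_symm hA (Wsp_right _)
    have hGiu : B u (G i) = 0 := Wsp_left _
    have hGiv : B v (G i) = 0 := Wsp_right _
    set t := tor hA hii hlam with ht
    have htu : t.1 u = u := tor_fix hii hlam hEu hGiu
    have htv : t.1 v = v := tor_fix hii hlam hEv hGiv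
    have htξ : t • ξ = ξ := centralizer_fix H h haxξ hRξ s hsu hsv hsξ hfree t htu htv
      (comm_tor s hii hlam hlam (hsE i) (hsG i)) (tor_pow_card hii hlam)
    have hfix := root_fix (ξ := ξ) (fun a => sv hA (E i) (G j) a) (sv_add hij') t htξ htu hlam1
      (fun a => by
        rw [conj_sv, ht, tor_left hii hlam, tor_fix hii hlam hij'
          (hGG j i)]
        conv_lhs => rw [← one_smul F (G j)]
        rw [sv_smul_smul hij', mul_one])
      (fun a => centralizer_fixed H h haxξ hRξ s hsu hsv hsξ hfree _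
        (by simp [sv_apply hA hij', alt_swap hA u (E i), alt_swap hA u (G j), hEu, hGu])
        (by simp [sv_apply hA hij', alt_swap hA v (E i), alt_swap hA v (G j), hEv, hGv])
        (by
          rw [← mul_inv_eq_iff_eq_mul, conj_sv, hsE, hsG, sv_smul_smul hij', mul_inv_cancel₀ hlam,
            one_mul]))
    have hr : rad hA (E i) (G j) 0 • ξ = ξ := by rw [rad_eq_sv]; exact hfix 1
    constructor
    · by_contra hna
      have hE0 : E i ≠ 0 := fun e => by rw [e] at hii; simp at hii
      obtain ⟨r, hr'⟩ := H.reg h6 hE0 hna (G j) 0 hij' hr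
      have := hEG j j
      rw [hr', map_smul, hEE, smul_zero, if_pos rfl] at this
      exact one_ne_zero this.symm
    · by_contra hna
      have hG0 : G j ≠ 0 := fun e => by
        have := hEG j j
        rw [e] at this; simp at this
      rw [rad_swap hij'] at hr
      obtain ⟨r, hr'⟩ := H.reg h6 hG0 hna (E i) 0 (alt_zero_symm hA hij') hr
      rw [hr', map_smul, LinearMap.smul_apply, hGG, smul_zero] at hii
      exact zero_ne_one hii
  have hall : ∀ k, (b k : V) ∈ axes H ξ := by
    have : Nontrivial (Fin m) := Fin.nontrivial_iff_two_le.2 hm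
    rintro (i | i) <;> obtain ⟨j, hj⟩ := exists_ne i
    · exact (mem_axes H).2 (hpair i j hj.symm).1
    · exact (mem_axes H).2 (hpair j i hj).2
  have hle : Wsp B u v ≤ axes H ξ := by
    intro w hw
    have e : ((⟨w, hw⟩ : Wsp B u v) : V) ∈ axes H ξ := by
      rw [← b.sum_repr ⟨w, hw⟩, Submodule.coe_sum]
      exact Submodule.sum_mem _ fun k _ => by
        rw [Submodule.coe_smul]; exact Submodule.smul_mem _ _ (hall k)
    exact e
  rw [← finrank_Wsp (v := v) hA h]
  exact Nat.add_le_add_right (Submodule.finrank_mono hle) 2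

end CfsgLib.KnownA.MinIndexSymp
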