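import Cfsg.Agent.Lib.KnownA.MinIndexSymp.Orbits

/-!
# Conjugates of the image of a stabiliser: covering and pair counting
-/

set_option autoImplicit false
set_option linter.unusedSectionVars false

open Module MulAction CfsgLib.Classical Finset

namespace CfsgLib.KnownA.MinIndexSymp

variable {F : Type*} [Field F] {V : Type*} [AddCommGroup V] [Module F V] [FiniteDimensional F V]
  {B : V →ₗ[F] V →ₗ[F] F} {Ω : Type*} [MulAction (isomGroup B) Ω] {hA : B.IsAlt}
  [Fintype F] [Fintype Ω] {u v : V}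

instance : Finite (Wsp B u v) := Module.finite_of_finite F

theorem Wsp_nondeg (hA : B.IsAlt) (hN : B.Nondegenerate) (h : B u v = 1) :
    (restrictForm B (Wsp B u v)).Nondegenerate :=
  restrictForm_nondegenerate hA.isRefl (nondegOn_perp hN.2 (nondegOn_pair hA h))

/-- An isometry of the perpendicular space, extended. -/
theorem exists_extend (hA : B.IsAlt) (h : B u v = 1) (g₀ : isomGroup (restrictForm B (Wsp B u v))) :
    ∃ g : isomGroup B, g.1 u = u ∧ g.1 v = v ∧ ∀ w : Wsp B u v, g.1 (w : V) = (g₀.1 w : V) := by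
  have hW := nondegOn_pair hA h
  exact ⟨perpIncl hA hW g₀,
    perpIncl_apply_left hA hW g₀ ⟨u, Submodule.subset_span (Set.mem_insert _ _)⟩,
    perpIncl_apply_left hA hW g₀ ⟨v, Submodule.subset_span (Set.mem_insert_of_mem _ rfl)⟩,
    perpIncl_apply_right hA hW g₀⟩

theorem exists_move_vec (hA : B.IsAlt) (hN : B.Nondegenerate) (h : B u v = 1) {w w' : Wsp B u v}
    (hw : w ≠ 0) (hw' : w' ≠ 0) :
    ∃ (g : isomGroup B) (hu : g.1 u = u) (hv : g.1 v = v), onW g hu hv w = w' := by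
  obtain ⟨g₀, -, hg₀⟩ := tv_transitive (restrictForm_isAlt hA _) (Wsp_nondeg hA hN h).1 hw hw'
  obtain ⟨g, hu, hv, hg⟩ := exists_extend hA h g₀
  exact ⟨g, hu, hv, Subtype.ext (by rw [← hg₀]; exact hg w)⟩

theorem exists_move_pair (hA : B.IsAlt) (hN : B.Nondegenerate) (h : B u v = 1)
    {x y x' y' : Wsp B u v} (hli : LinearIndependent F ![x, y]) (hli' : LinearIndependent F ![x', y'])
    (he : B (x : V) (y : V) = B (x' : V) (y' : V)) :
    ∃ (g : isomGroup B) (hu : g.1 u = u) (hv : g.1 v = v),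
      onW g hu hv x = x' ∧ onW g hu hv y = y' := by
  have hAW := restrictForm_isAlt hA (Wsp B u v)
  have hNW := Wsp_nondeg hA hN h
  suffices ∃ g₀ : isomGroup (restrictForm B (Wsp B u v)), g₀.1 x = x' ∧ g₀.1 y = y' by
    obtain ⟨g₀, hx, hy⟩ := this
    obtain ⟨g, hu, hv, hg⟩ := exists_extend hA h g₀
    exact ⟨g, hu, hv, Subtype.ext (by rw [← hx]; exact hg x), Subtype.ext (by rw [← hy]; exact hg y)⟩
  by_cases hc : B (x : V) (y : V) = 0
  · have hc' : B (x' : V) (y' : V) = 0 := by rw [← he, hc]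
    have h1 : ∀ i j, restrictForm B (Wsp B u v) (![x, y] i) (![x, y] j) = 0 := by
      intro i j
      fin_cases i <;> fin_cases j <;> simp [hA (x : V), hA (y : V), hc, alt_zero_symm hA hc]
    have h2 : ∀ i j, restrictForm B (Wsp B u v) (![x', y'] i) (![x', y'] j) = 0 := by
      intro i j
      fin_cases i <;> fin_cases j <;> simp [hA (x' : V), hA (y' : V), hc', alt_zero_symm hA hc']
    obtain ⟨g₀, hg₀⟩ := witt_family hAW hNW hli hli' h1 h2
    exact ⟨g₀, hg₀ 0, hg₀ 1⟩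
  · set c := B (x : V) (y : V) with hcdef
    obtain ⟨g₀, -, hx, hy⟩ := tv_transitive_pairs hAW hNW.1 (u := x) (v := c⁻¹ • y) (u' := x')
      (v' := c⁻¹ • y') (by simp [← hcdef, hc]) (by simp [← he, hc])
    refine ⟨g₀, hx, ?_⟩
    rw [map_smul] at hy
    exact smul_right_injective _ (inv_ne_zero hc) hy

/-- The invariant: the transvection part and the image. -/
noncomputable def inv2 (hA : B.IsAlt) (u v : V) (ω : Ω) :
    AddSubgroup F × AddSubgroup (Wsp B u v) :=
  (Zf hA ω u, Kbar hA u v ω)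

theorem inv2_of_mem {ω ν : Ω} (h : ν ∈ orb hA u v ω) : inv2 hA u v ν = inv2 hA u v ω := by
  rw [inv2, inv2, Zf_of_mem h, Kbar_of_mem h]

/-- The points whose image has a given order. -/
noncomputable def ofCard (hA : B.IsAlt) (u v : V) (k : ℕ) : Finset Ω := by
  classical exact (univ : Finset Ω).filter fun ω => Nat.card (Kbar hA u v ω) = k

theorem mem_ofCard {k : ℕ} {ω : Ω} : ω ∈ ofCard hA u v k ↔ Nat.card (Kbar hA u v ω) = k := by
  classical simp [ofCard]

theorem disjoint_ofCard {k k' : ℕ} (h : k ≠ k') :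
    Disjoint (ofCard (Ω := Ω) hA u v k) (ofCard hA u v k') := by
  rw [Finset.disjoint_left]
  exact fun ω h1 h2 => h ((mem_ofCard.1 h1).symm.trans (mem_ofCard.1 h2))

theorem onW_inv (g : isomGroup B) (hu : g.1 u = u) (hv : g.1 v = v) :
    ∃ (hu' : (g⁻¹ : isomGroup B).1 u = u) (hv' : (g⁻¹ : isomGroup B).1 v = v),
      ∀ w : Wsp B u v, onW g hu hv (onW g⁻¹ hu' hv' w) = w :=
  ⟨(congrArg _ hu.symm).trans (inv_apply_self g u), (congrArg _ hv.symm).trans (inv_apply_self g v),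
    fun w => Subtype.ext (apply_inv_self g w)⟩

/-- The invariant of a moved point only depends on the invariant. -/
theorem inv2_move (g : isomGroup B) (hu : g.1 u = u) (hv : g.1 v = v) {ω ω' : Ω}
    (h : inv2 hA u v ω' = inv2 hA u v ω) : inv2 hA u v (g • ω') = inv2 hA u v (g • ω) := by
  obtain ⟨hu', hv', hinv⟩ := onW_inv g hu hv
  simp only [inv2, Prod.mk.injEq] at h ⊢
  refine ⟨by rw [Zf_move g hu, Zf_move g hu, h.1], ?_⟩
  have key : ∀ {a b : Ω}, Kbar hA u v a = Kbar hA u v b →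
      Kbar hA u v (g • a) ≤ Kbar hA u v (g • b) := by
    intro a b e w hw
    have h1 := mem_Kbar_move g⁻¹ hu' hv' hw
    rw [inv_smul_smul, e] at h1
    rw [← hinv w]
    exact mem_Kbar_move g hu hv h1
  exact le_antisymm (key h.2) (key h.2.symm)

theorem inv2_tor (h : B u v = 1) {lam : F} (hl : lam ≠ 0) {ω ω' : Ω}
    (e : inv2 hA u v ω' = inv2 hA u v ω) :
    inv2 hA u v (tor hA h hl • ω') = inv2 hA u v (tor hA h hl • ω) := by
  simp only [inv2, Prod.mk.injEq] at e ⊢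
  refine ⟨by rw [Zf_tor h hl, Zf_tor h hl, e.1], ?_⟩
  have key : ∀ {a b : Ω}, Kbar hA u v a = Kbar hA u v b →
      Kbar hA u v (tor hA h hl • a) ≤ Kbar hA u v (tor hA h hl • b) := by
    rintro a b e w ⟨c, hc⟩
    have h1 : lam⁻¹ • w ∈ Kbar hA u v a := by
      refine ⟨lam⁻¹ * lam⁻¹ * c, (fix_tor_rad h hl).1 ?_⟩
      convert hc using 3
      · rw [Submodule.coe_smul, smul_smul, mul_inv_cancel₀ hl, one_smul]
      · field_simp
    rw [e] at h1
    have h2 := mem_Kbar_tor (hA := hA) h hl h1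
    rwa [smul_smul, mul_inv_cancel₀ hl, one_smul] at h2
  exact le_antisymm (key e.2) (key e.2.symm)

/-- `ω` is an image of `ω₀` under the normaliser of the radical fixing the pair up to scalars. -/
def Conj (hA : B.IsAlt) (u v : V) (ω₀ ω : Ω) : Prop :=
  ∃ (h : B u v = 1) (lam : F) (hl : lam ≠ 0) (g : isomGroup B),
    g.1 u = u ∧ g.1 v = v ∧ g • tor hA h hl • ω₀ = ω

theorem Conj.zf {ω₀ ω : Ω} (hc : Conj hA u v ω₀ ω) : Zf hA ω u ∈ scales (Zf hA ω₀ u) := by
  obtain ⟨h, lam, hl, g, hu, -, rfl⟩ := hc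
  rw [Zf_move g hu, Zf_tor h hl]
  exact mem_scales.2 ⟨lam, hl, rfl⟩

theorem Conj.card {ω₀ ω : Ω} (hc : Conj hA u v ω₀ ω) :
    Nat.card (Kbar hA u v ω) = Nat.card (Kbar hA u v ω₀) := by
  obtain ⟨h, lam, hl, g, hu, hv, rfl⟩ := hc
  rw [card_Kbar_move g hu hv, card_Kbar_tor h hl]

/-- The invariants of the conjugates of `ω₀`. -/
noncomputable def cls (hA : B.IsAlt) (u v : V) (ω₀ : Ω) :
    Finset (AddSubgroup F × AddSubgroup (Wsp B u v)) := by
  classical
  exact ((univ : Finset Ω).filter fun ω => Conj hA u v ω₀ ω).image (inv2 hA u v)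

theorem mem_cls {ω₀ : Ω} {τ : AddSubgroup F × AddSubgroup (Wsp B u v)} :
    τ ∈ cls hA u v ω₀ ↔ ∃ ω : Ω, Conj hA u v ω₀ ω ∧ inv2 hA u v ω = τ := by
  classical simp [cls]

/-- All fibres over a class are as large as the one of `ω₀`. -/
theorem fibre_cls {ω₀ : Ω} {τ : AddSubgroup F × AddSubgroup (Wsp B u v)}
    (hτ : τ ∈ cls hA u v ω₀) :
    (pts (inv2 (Ω := Ω) hA u v) {inv2 hA u v ω₀}).card ≤ (pts (inv2 (Ω := Ω) hA u v) {τ}).card := by
  obtain ⟨_, ⟨h, lam, hl, g, hu, hv, rfl⟩, rfl⟩ := mem_cls.1 hτ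
  refine Finset.card_le_card_of_injOn (fun x => g • tor hA h hl • x) (fun x hx => ?_) ?_
  · rw [Finset.mem_coe, mem_pts, mem_singleton] at hx ⊢
    exact inv2_move g hu hv (inv2_tor h hl hx)
  · intro x _ y _ e
    exact smul_left_cancel _ (smul_left_cancel _ e)

theorem pts_cls_subset (ω₀ : Ω) :
    pts (inv2 (Ω := Ω) hA u v) (cls hA u v ω₀) ⊆ ofCard hA u v (Nat.card (Kbar hA u v ω₀)) := by
  intro ω hω
  obtain ⟨ω', hc, he⟩ := mem_cls.1 (mem_pts.1 hω)
  have hk := hc.card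
  rw [mem_ofCard, ← hk]
  rw [inv2, inv2, Prod.mk.injEq] at he
  rw [he.2]

theorem exists_in_scales (h : B u v = 1) (ω₀ : Ω) {Z : AddSubgroup F}
    (hZ : Z ∈ scales (Zf hA ω₀ u)) :
    ∃ ω : Ω, Zf hA ω u = Z ∧ Conj hA u v ω₀ ω := by
  obtain ⟨a, ha, rfl⟩ := mem_scales.1 hZ
  exact ⟨tor hA h ha • ω₀, Zf_tor h ha ω₀, h, a, ha, 1, rfl, rfl, one_smul _ _⟩

theorem index_of_scales {Z Y : AddSubgroup F} (h : Y ∈ scales Z) : Y.index = Z.index := by
  obtain ⟨a, ha, rfl⟩ := mem_scales.1 h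
  have hc : Nat.card (scale (a * a) Z) = Nat.card Z := by
    rw [scale]
    exact (Nat.card_congr (Z.equivMapOfInjective _
      (mul_right_injective₀ (mul_ne_zero ha ha))).toEquiv).symm
  have h1 := index_mul_card (scale (a * a) Z)
  rw [hc, ← index_mul_card Z] at h1
  exact Nat.eq_of_mul_eq_mul_right Nat.card_pos h1

/-- Orbits in a class all have the same size. -/
theorem card_orb_cls {ω₀ ω : Ω} (hZ : Zf hA ω u ∈ scales (Zf hA ω₀ u))
    (hk : Nat.card (Kbar hA u v ω) = Nat.card (Kbar hA u v ω₀)) :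
    (orb hA u v ω).card = (orb hA u v ω₀).card := by
  have h1 := card_orb (hA := hA) (u := u) (v := v) ω
  rw [hk, index_of_scales hZ, ← card_orb ω₀] at h1
  exact Nat.eq_of_mul_eq_mul_right Nat.card_pos h1

theorem orb_le_fibre {ω₀ : Ω} {τ : AddSubgroup F × AddSubgroup (Wsp B u v)}
    (hτ : τ ∈ cls hA u v ω₀) : (orb hA u v ω₀).card ≤ (pts (inv2 (Ω := Ω) hA u v) {τ}).card := by
  obtain ⟨ω, hc, rfl⟩ := mem_cls.1 hτ
  have hZ := hc.zf
  have hk := hc.card
  rw [← card_orb_cls hZ hk]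
  exact Finset.card_le_card (orb_subset_pts inv2_of_mem rfl)

/-- A choice of a subgroup attached to the image, compatible with the isometries. -/
def Natural (S : AddSubgroup (Wsp B u v) → AddSubgroup (Wsp B u v)) : Prop :=
  ∀ (g : isomGroup B) (hu : g.1 u = u) (hv : g.1 v = v) (K K' : AddSubgroup (Wsp B u v)),
    (∀ w ∈ K, onW g hu hv w ∈ K') → Nat.card K' = Nat.card K → ∀ w ∈ S K, onW g hu hv w ∈ S K'

theorem natural_id : Natural (B := B) (u := u) (v := v) id :=
  fun _ _ _ _ _ h _ w hw => h w hw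

/-- Every non-zero vector and every multiple of the transvection part occur in the class. -/
theorem exists_covering (hA : B.IsAlt) (hN : B.Nondegenerate) (h : B u v = 1)
    {S : AddSubgroup (Wsp B u v) → AddSubgroup (Wsp B u v)} (hS : Natural S) {ω₀ : Ω} {m : ℕ}
    (hm : ∀ ω : Ω, Nat.card (Kbar hA u v ω) = Nat.card (Kbar hA u v ω₀) →
      Nat.card (S (Kbar hA u v ω)) = m) (hm2 : 2 ≤ m)
    {Z : AddSubgroup F} (hZ : Z ∈ scales (Zf hA ω₀ u)) {w : Wsp B u v} (hw : w ≠ 0) :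
    ∃ ω : Ω, Zf hA ω u = Z ∧ Conj hA u v ω₀ ω ∧ w ∈ S (Kbar hA u v ω) := by
  obtain ⟨ω, hωZ, hωc⟩ := exists_in_scales h ω₀ hZ
  have hωk := hωc.card
  obtain ⟨x, hx, hx0⟩ : ∃ x ∈ S (Kbar hA u v ω), x ≠ 0 := by
    refine (AddSubgroup.bot_or_exists_ne_zero _).resolve_left fun e => ?_
    have := hm ω hωk
    rw [e, AddSubgroup.card_bot] at this
    omega
  obtain ⟨g, hu, hv, rfl⟩ := exists_move_vec hA hN h hx0 hw
  refine ⟨g • ω, by rw [Zf_move g hu, hωZ], ?_, ?_⟩
  · obtain ⟨h', lam, hl, g', hu', hv', rfl⟩ := hωc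
    refine ⟨h', lam, hl, g * g', ?_, ?_, mul_smul _ _ _⟩
    · rw [Subgroup.coe_mul, LinearEquiv.mul_apply, hu', hu]
    · rw [Subgroup.coe_mul, LinearEquiv.mul_apply, hv', hv]
  exact hS g hu hv _ _ (fun z hz => mem_Kbar_move g hu hv hz) (card_Kbar_move g hu hv ω) x hx

/-- The covering inequality, with multiplicity `μ` and fibres of size at least `L`. -/
theorem cover_le (hA : B.IsAlt) {S : AddSubgroup (Wsp B u v) → AddSubgroup (Wsp B u v)}
    {ω₀ : Ω} {m μ L : ℕ}
    (hm : ∀ ω : Ω, Nat.card (Kbar hA u v ω) = Nat.card (Kbar hA u v ω₀) →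
      Nat.card (S (Kbar hA u v ω)) = m)
    (hcov : ∀ Z ∈ scales (Zf hA ω₀ u), ∀ w : Wsp B u v, w ≠ 0 → ∃ T' ⊆ cls hA u v ω₀,
      μ ≤ T'.card ∧ ∀ τ ∈ T', τ.1 = Z ∧ w ∈ S τ.2)
    (hL : ∀ τ ∈ cls hA u v ω₀, L ≤ (pts (inv2 (Ω := Ω) hA u v) {τ}).card) :
    μ * (scales (Zf hA ω₀ u)).card * (Nat.card (Wsp B u v) - 1) * L ≤
      (pts (inv2 (Ω := Ω) hA u v) (cls hA u v ω₀)).card * (m - 1) := by
  classical
  have := Fintype.ofFinite (Wsp B u v)
  set C := scales (Zf hA ω₀ u)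
  set T := cls hA u v ω₀
  let R := C ×ˢ (univ.erase (0 : Wsp B u v))
  have hR : R.card = C.card * (Nat.card (Wsp B u v) - 1) := by
    rw [Finset.card_product, Finset.card_erase_of_mem (mem_univ _), card_univ,
      Nat.card_eq_fintype_card]
  have h1 : μ * R.card ≤ T.card * (m - 1) := by
    refine le_trans ?_ (le_trans (le_of_eq (Finset.sum_card_bipartiteAbove_eq_sum_card_bipartiteBelow
      (fun (p : AddSubgroup F × Wsp B u v) (τ : AddSubgroup F × AddSubgroup (Wsp B u v)) =>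
        τ.1 = p.1 ∧ p.2 ∈ S τ.2) (s := R) (t := T))) ?_)
    · rw [mul_comm, ← smul_eq_mul, ← Finset.sum_const]
      refine Finset.sum_le_sum fun p hp => ?_
      obtain ⟨hpC, hp0⟩ := mem_product.1 hp
      obtain ⟨T', hsub, hμ, hT'⟩ := hcov p.1 hpC p.2 (mem_erase.1 hp0).1
      refine hμ.trans (Finset.card_le_card fun τ hτ => ?_)
      exact Finset.mem_filter.2 ⟨hsub hτ, hT' τ hτ⟩
    · rw [← smul_eq_mul, ← Finset.sum_const]
      refine Finset.sum_le_sum fun τ hτ => ?_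
      obtain ⟨ω, hc, rfl⟩ := mem_cls.1 hτ
      have hk := hc.card
      have hcard : ((univ.filter fun x => x ∈ S (Kbar hA u v ω)).erase (0 : Wsp B u v)).card =
          m - 1 := by
        rw [Finset.card_erase_of_mem (by simp), ← hm ω hk]
        congr 1
        rw [Nat.card_eq_fintype_card, Fintype.card_subtype]
      rw [← hcard]
      refine Finset.card_le_card_of_injOn Prod.snd (fun p hp => ?_) fun p hp p' hp' e => ?_
      · obtain ⟨hp, -, hpS⟩ := Finset.mem_filter.1 hp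
        exact Finset.mem_coe.2 (mem_erase.2 ⟨(mem_erase.1 (mem_product.1 hp).2).1,
          mem_filter.2 ⟨mem_univ _, hpS⟩⟩)
      · obtain ⟨-, e1, -⟩ := Finset.mem_filter.1 (Finset.mem_coe.1 hp)
        obtain ⟨-, e1', -⟩ := Finset.mem_filter.1 (Finset.mem_coe.1 hp')
        exact Prod.ext (e1.symm.trans e1') e
  calc μ * C.card * (Nat.card (Wsp B u v) - 1) * L = μ * R.card * L := by rw [hR]; ring
    _ ≤ T.card * (m - 1) * L := Nat.mul_le_mul_right _ h1
    _ = T.card * L * (m - 1) := by ring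
    _ ≤ _ := Nat.mul_le_mul_right _ (mul_le_pts _ _ _ hL)

/-- The covering inequality in its simplest form. -/
theorem cover_le_one (hA : B.IsAlt) (hN : B.Nondegenerate) (h : B u v = 1)
    {S : AddSubgroup (Wsp B u v) → AddSubgroup (Wsp B u v)} (hS : Natural S) {ω₀ : Ω} {m L : ℕ}
    (hm : ∀ ω : Ω, Nat.card (Kbar hA u v ω) = Nat.card (Kbar hA u v ω₀) →
      Nat.card (S (Kbar hA u v ω)) = m) (hm2 : 2 ≤ m)
    (hL : ∀ τ ∈ cls hA u v ω₀, L ≤ (pts (inv2 (Ω := Ω) hA u v) {τ}).card) :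
    (scales (Zf hA ω₀ u)).card * (Nat.card (Wsp B u v) - 1) * L ≤
      (pts (inv2 (Ω := Ω) hA u v) (cls hA u v ω₀)).card * (m - 1) := by
  have := cover_le hA (μ := 1) hm (fun Z hZ w hw => ?_) hL
  · rwa [one_mul] at this
  obtain ⟨ω, h1, h2, h3⟩ := exists_covering hA hN h hS hm hm2 hZ hw
  refine ⟨{inv2 hA u v ω}, Finset.singleton_subset_iff.2 (mem_cls.2 ⟨ω, h2, rfl⟩),
    le_of_eq (Finset.card_singleton _).symm, fun τ hτ => ?_⟩
  rw [Finset.mem_singleton.1 hτ]
  exact ⟨h1, h3⟩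

theorem not_mem_span_of_indep {x y : Wsp B u v} (h : LinearIndependent F ![x, y]) :
    ∀ t : F, y ≠ t • x := by
  intro t e
  rw [LinearIndependent.pair_iff] at h
  obtain ⟨-, h2⟩ := h t (-1) (by rw [e]; module)
  norm_num at h2

/-- The pair inequality. -/
theorem pairs_le (hA : B.IsAlt) (hN : B.Nondegenerate) (h : B u v = 1)
    {S : AddSubgroup (Wsp B u v) → AddSubgroup (Wsp B u v)} (hS : Natural S) {ω₀ : Ω} {m : ℕ}
    (hm : ∀ ω : Ω, Nat.card (Kbar hA u v ω) = Nat.card (Kbar hA u v ω₀) →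
      Nat.card (S (Kbar hA u v ω)) = m)
    {a b : Wsp B u v} (ha : a ∈ S (Kbar hA u v ω₀)) (hb : b ∈ S (Kbar hA u v ω₀))
    (hab : LinearIndependent F ![a, b]) :
    (Nat.card (Wsp B u v) - 1) *
        (Fintype.card F ^ (finrank F (Wsp B u v) - 1) - Fintype.card F) *
          (orb hA u v ω₀).card ≤ Fintype.card Ω * (m * m) := by
  classical
  have := Fintype.ofFinite (Wsp B u v)
  have hNW := Wsp_nondeg hA hN h
  set c := B (a : V) (b : V)
  set T := cls hA u v ω₀
  let P : Finset (Wsp B u v × Wsp B u v) :=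
    univ.filter fun p => LinearIndependent F ![p.1, p.2] ∧ B (p.1 : V) (p.2 : V) = c
  have hlow : (Nat.card (Wsp B u v) - 1) *
      (Fintype.card F ^ (finrank F (Wsp B u v) - 1) - Fintype.card F) ≤ P.card := by
    have e : Nat.card (Wsp B u v) - 1 = (univ.erase (0 : Wsp B u v)).card := by
      rw [Finset.card_erase_of_mem (mem_univ _), card_univ, Nat.card_eq_fintype_card]
    rw [e, ← smul_eq_mul, ← Finset.sum_const]
    calc ∑ _x ∈ univ.erase (0 : Wsp B u v),
          (Fintype.card F ^ (finrank F (Wsp B u v) - 1) - Fintype.card F)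
        ≤ ∑ x ∈ univ.erase (0 : Wsp B u v), (P.filter fun p => p.1 = x).card :=
          Finset.sum_le_sum fun x hx => ?_
      _ ≤ P.card := by
          rw [← Finset.card_biUnion]
          · exact Finset.card_le_card fun p hp => by
              obtain ⟨x, -, hp⟩ := Finset.mem_biUnion.1 hp
              exact (Finset.mem_filter.1 hp).1
          · intro x _ y _ hxy
            simp only [Finset.disjoint_left, mem_filter]
            exact fun p hp hp' => hxy (hp.2.symm.trans hp'.2)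
    have hx0 := (mem_erase.1 hx).1
    let f : Wsp B u v →ₗ[F] F := restrictForm B (Wsp B u v) x
    have hf : f ≠ 0 := fun e => hx0 (hNW.1 x fun y => by
      have := LinearMap.congr_fun e y
      exact this)
    rw [← card_linearMap_fibre f hf c, Nat.card_eq_fintype_card, Fintype.card_subtype]
    refine (Nat.sub_le_sub_left ?_ _).trans
      ((Finset.le_card_sdiff (univ.image fun t : F => t • x) _).trans ?_)
    · exact Finset.card_image_le.trans (le_of_eq card_univ)
    · refine Finset.card_le_card_of_injOn (fun y => (x, y)) (fun y hy => ?_)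
        fun y _ y' _ e => (Prod.ext_iff.1 e).2
      obtain ⟨hy1, hy2⟩ := Finset.mem_sdiff.1 hy
      refine Finset.mem_coe.2 (mem_filter.2 ⟨mem_filter.2 ⟨mem_univ _, ?_, ?_⟩, rfl⟩)
      · rw [LinearIndependent.pair_iff' hx0]
        exact fun t e => hy2 (mem_image.2 ⟨t, mem_univ _, e⟩)
      · exact (mem_filter.1 hy1).2
  have hup : P.card ≤ T.card * (m * m) := by
    refine (Finset.card_le_card (t := T.biUnion fun τ =>
      (univ.filter fun x => x ∈ S τ.2) ×ˢ (univ.filter fun y => y ∈ S τ.2)) fun p hp => ?_).trans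
      (Finset.card_biUnion_le_card_mul _ _ _ fun τ hτ => ?_)
    · obtain ⟨-, hli, hpc⟩ := mem_filter.1 hp
      obtain ⟨g, hu, hv, h1, h2⟩ := exists_move_pair hA hN h hab hli hpc.symm
      refine mem_biUnion.2 ⟨inv2 hA u v (g • ω₀), mem_cls.2 ⟨g • ω₀, ?_, rfl⟩, ?_⟩
      · refine ⟨h, 1, one_ne_zero, g, hu, hv, ?_⟩
        rw [show tor hA h (one_ne_zero : (1 : F) ≠ 0) = 1 from Subtype.ext (LinearEquiv.ext fun x => by
          rw [tor_apply]; simp), one_smul]
      · refine mem_product.2 ⟨mem_filter.2 ⟨mem_univ _, ?_⟩, mem_filter.2 ⟨mem_univ _, ?_⟩⟩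
        · rw [← h1]
          exact hS g hu hv _ _ (fun z hz => mem_Kbar_move g hu hv hz) (card_Kbar_move g hu hv ω₀) a ha
        · rw [← h2]
          exact hS g hu hv _ _ (fun z hz => mem_Kbar_move g hu hv hz) (card_Kbar_move g hu hv ω₀) b hb
    · obtain ⟨ω, hc, rfl⟩ := mem_cls.1 hτ
      have hk := hc.card
      rw [Finset.card_product]
      refine le_of_eq ?_
      have : (univ.filter fun x => x ∈ S (inv2 hA u v ω).2).card = m := by
        rw [← hm ω hk, Nat.card_eq_fintype_card, Fintype.card_subtype]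
        rfl
      rw [this]
  calc _ ≤ T.card * (m * m) * (orb hA u v ω₀).card := Nat.mul_le_mul_right _ (hlow.trans hup)
    _ = T.card * (orb hA u v ω₀).card * (m * m) := by ring
    _ ≤ _ := Nat.mul_le_mul_right _ (mul_le_card _ T _ fun τ hτ => orb_le_fibre hτ)

end CfsgLib.KnownA.MinIndexSymp
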