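import Cfsg.Agent.Lib.KnownA.MinIndexSymp.Levi

/-!
# Fixed points of a torus element in a regular orbit of the radical
-/

set_option autoImplicit false
set_option linter.unusedSectionVars false

open Module MulAction CfsgLib.Classical Finset

namespace CfsgLib.KnownA.MinIndexSymp

variable {F : Type*} [Field F] {V : Type*} [AddCommGroup V] [Module F V] [FiniteDimensional F V]
  {B : V →ₗ[F] V →ₗ[F] F} {Ω : Type*} [MulAction (isomGroup B) Ω] {hA : B.IsAlt}
  [Fintype F] [Fintype Ω] {u v : V}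

theorem comm_tv (g : isomGroup B) (hu : g.1 u = u) (c : F) :
    g * tv hA u c = tv hA u c * g := by
  rw [← mul_inv_eq_iff_eq_mul, conj_tv, hu]

theorem move_X (g : isomGroup B) (hu : g.1 u = u) (hv : g.1 v = v) (p : Wsp B u v × F) :
    g * X hA u v p = X hA u v (onW g hu hv p.1, p.2) * g := by
  rw [← mul_inv_eq_iff_eq_mul, X, rad_conj, hu]
  rfl

theorem eq_of_X_eq {ω : Ω} (h : B u v = 1) (hR : Reg hA ω u) {p p' : Wsp B u v × F}
    (e : X hA u v p • ω = X hA u v p' • ω) : p.1 = p'.1 := by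
  have h1 : ((X hA u v p)⁻¹ * X hA u v p') • ω = ω := by rw [mul_smul, ← e, inv_smul_smul]
  rw [X_inv, X_mul] at h1
  obtain ⟨t, ht⟩ := hR _ _ (Wsp_left _) h1
  exact neg_add_eq_zero.1 (Wsp_eq_zero_of_mem hA h ht)

theorem pow_drift {ω : Ω} (g : isomGroup B) (hu : g.1 u = u) {c : F}
    (hc : g • ω = tv hA u c • ω) (k : ℕ) : g ^ k • ω = tv hA u (k • c) • ω := by
  induction k with
  | zero => simp [tv_zero]
  | succ k ih =>
    rw [pow_succ, mul_smul, hc, ← mul_smul]
    have hk : g ^ k * tv hA u c = tv hA u c * g ^ k :=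
      (Commute.pow_left (comm_tv (hA := hA) g hu c) k).eq
    rw [hk, mul_smul, ih, ← mul_smul, tv_mul, succ_nsmul']

/-- An element of order dividing `q - 1` moving a point only inside its root group fixes it. -/
theorem fix_of_drift (H : Small hA Ω) {ω : Ω} (g : isomGroup B) (hu : g.1 u = u)
    (hg : g ^ (Fintype.card F - 1) = 1) {c : F} (hc : g • ω = tv hA u c • ω) : g • ω = ω := by
  have h1 := pow_drift g hu hc (Fintype.card F - 1)
  rw [hg, one_smul] at h1
  have e : (Fintype.card F - 1) • c = -c := by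
    rw [nsmul_eq_mul, Nat.cast_sub (by have := H.q3; omega), FiniteField.cast_card_eq_zero]
    simp
  rw [e] at h1
  have hm : c ∈ Zf hA ω u := by
    rw [← neg_neg c]
    exact (Zf hA ω u).neg_mem (mem_Zf.2 h1.symm)
  rw [hc, mem_Zf.1 hm]

/-- A fixed point in the orbit. -/
theorem exists_fixed (H : Small hA Ω) (h : B u v = 1) {ω : Ω} (hax : ¬ Axis hA ω u)
    (hR : Reg hA ω u) (s : isomGroup B) (hu : s.1 u = u) (hv : s.1 v = v)
    (hs : s ^ (Fintype.card F - 1) = 1) (hfree : ∀ w : Wsp B u v, onW s hu hv w = w → w = 0) :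
    ∃ ξ ∈ orb hA u v ω, s • ξ = ξ := by
  obtain ⟨⟨w₀, c₀⟩, hp⟩ := mem_orb.1 (levi_keeps_orb H h hax hR s hu hv)
  have hinj : Function.Injective fun w : Wsp B u v => w - onW s hu hv w := by
    intro a b e
    refine sub_eq_zero.1 (hfree (a - b) (Subtype.ext ?_))
    have e' : (a : V) - s.1 (a : V) = (b : V) - s.1 (b : V) := congrArg Subtype.val e
    show s.1 ((a : V) - (b : V)) = (a : V) - (b : V)
    rw [map_sub]
    linear_combination (norm := module) -e'
  obtain ⟨w, hw⟩ := Finite.injective_iff_surjective.1 hinj w₀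
  refine ⟨X hA u v (w, 0) • ω, mem_orb.2 ⟨_, rfl⟩, ?_⟩
  set d := c₀ + B (w₀ : V) (onW s hu hv w : V)
  have hstep : s • X hA u v (w, 0) • ω = tv hA u d • X hA u v (w, 0) • ω := by
    rw [← mul_smul, move_X s hu hv, mul_smul, ← hp, ← mul_smul, X_mul, ← mul_smul]
    congr 1
    rw [X, X, tv_mul_rad (Wsp_left _), show onW s hu hv w + w₀ = w by rw [← hw]; exact add_sub_cancel _ _]
    congr 1
    simp only [d]
    ring
  exact fix_of_drift H s hu hs hstep

/-- An isometry commuting with the torus element only moves a fixed point inside its root group. -/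
theorem centralizer_fixed (H : Small hA Ω) (h : B u v = 1) {ξ : Ω} (hax : ¬ Axis hA ξ u)
    (hR : Reg hA ξ u) (s : isomGroup B) (hu : s.1 u = u) (hv : s.1 v = v) (hsξ : s • ξ = ξ)
    (hfree : ∀ w : Wsp B u v, onW s hu hv w = w → w = 0) (g : isomGroup B) (hgu : g.1 u = u)
    (hgv : g.1 v = v) (hc : s * g = g * s) : ∃ c, g • ξ = tv hA u c • ξ := by
  obtain ⟨⟨w, c⟩, hp⟩ := mem_orb.1 (levi_keeps_orb H h hax hR g hgu hgv)
  have h1 : X hA u v (onW s hu hv w, c) • ξ = X hA u v (w, c) • ξ := by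
    calc X hA u v (onW s hu hv w, c) • ξ = X hA u v (onW s hu hv w, c) • s • ξ := by rw [hsξ]
      _ = (s * X hA u v (w, c)) • ξ := by rw [move_X s hu hv, mul_smul]
      _ = s • g • ξ := by rw [mul_smul, hp]
      _ = g • s • ξ := by rw [← mul_smul, hc, mul_smul]
      _ = X hA u v (w, c) • ξ := by rw [hsξ, hp]
  obtain rfl := hfree w (eq_of_X_eq h hR h1)
  exact ⟨c, by rw [← hp, X, Submodule.coe_zero, rad_zero]⟩

theorem centralizer_fix (H : Small hA Ω) (h : B u v = 1) {ξ : Ω} (hax : ¬ Axis hA ξ u)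
    (hR : Reg hA ξ u) (s : isomGroup B) (hu : s.1 u = u) (hv : s.1 v = v) (hsξ : s • ξ = ξ)
    (hfree : ∀ w : Wsp B u v, onW s hu hv w = w → w = 0) (g : isomGroup B) (hgu : g.1 u = u)
    (hgv : g.1 v = v) (hc : s * g = g * s) (hg : g ^ (Fintype.card F - 1) = 1) : g • ξ = ξ :=
  let ⟨_, hc'⟩ := centralizer_fixed H h hax hR s hu hv hsξ hfree g hgu hgv hc
  fix_of_drift H g hgu hg hc'

theorem root_fix {ξ : Ω} (G : F → isomGroup B) (hadd : ∀ a b, G (a + b) = G a * G b)
    (t : isomGroup B) (htξ : t • ξ = ξ) (htu : t.1 u = u) {κ : F} (hκ : κ ≠ 1)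
    (hconj : ∀ a, t * G a * t⁻¹ = G (κ * a)) (hG : ∀ a, ∃ c, G a • ξ = tv hA u c • ξ) :
    ∀ a, G a • ξ = ξ := by
  have key : ∀ a, G (κ * a) • ξ = G a • ξ := by
    intro a
    obtain ⟨c, hc⟩ := hG a
    rw [← hconj, mul_smul, mul_smul, inv_fix htξ, hc, ← mul_smul, comm_tv t htu, mul_smul, htξ]
  intro a
  have h1 := key (a / (κ - 1))
  rw [show κ * (a / (κ - 1)) = a / (κ - 1) + a by
    have : κ - 1 ≠ 0 := sub_ne_zero.2 hκ
    field_simp; ring, hadd, mul_smul] at h1
  exact smul_left_cancel _ h1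

theorem tor_mul {e f : V} (h : B e f = 1) {μ ν : F} (hμ : μ ≠ 0) (hν : ν ≠ 0) :
    tor hA h hμ * tor hA h hν = tor hA h (mul_ne_zero hμ hν) := by
  refine Subtype.ext (LinearEquiv.ext fun x => ?_)
  simp only [Subgroup.coe_mul, LinearEquiv.mul_apply, tor_apply, map_add, map_smul,
    LinearMap.add_apply, LinearMap.smul_apply, smul_eq_mul, h, hA e, hA f, alt_swap hA f e,
    mul_inv, mul_zero, add_zero]
  match_scalars <;> field_simp <;> ring

theorem tor_pow {e f : V} (h : B e f = 1) {μ : F} (hμ : μ ≠ 0) (k : ℕ) :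
    tor hA h hμ ^ k = tor hA h (pow_ne_zero k hμ) := by
  induction k with
  | zero => exact Subtype.ext (LinearEquiv.ext fun x => by simp [tor_apply])
  | succ k ih =>
    rw [pow_succ, ih, tor_mul h (pow_ne_zero k hμ) hμ]
    exact Subtype.ext (LinearEquiv.ext fun x => by simp [tor_apply, pow_succ])

theorem tor_pow_card {e f : V} (h : B e f = 1) {μ : F} (hμ : μ ≠ 0) :
    tor hA h hμ ^ (Fintype.card F - 1) = 1 := by
  rw [tor_pow]
  exact Subtype.ext (LinearEquiv.ext fun x => by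
    simp [tor_apply, FiniteField.pow_card_sub_one_eq_one μ hμ])

theorem comm_tor (g : isomGroup B) {e f : V} (h : B e f = 1) {μ : F} (hμ : μ ≠ 0) {a : F}
    (ha : a ≠ 0) (he : g.1 e = a • e) (hf : g.1 f = a⁻¹ • f) :
    g * tor hA h hμ = tor hA h hμ * g := by
  refine Subtype.ext (LinearEquiv.ext fun x => ?_)
  simp only [Subgroup.coe_mul, LinearEquiv.mul_apply, tor_apply, map_add, map_smul, he, hf]
  have h1 : B (g.1 x) f = a * B x f := by
    conv_lhs => rw [show f = a • g.1 f by rw [hf, smul_inv_smul₀ ha]]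
    rw [map_smul, isomGroup_apply, smul_eq_mul]
  have h2 : B e (g.1 x) = a⁻¹ * B e x := by
    conv_lhs => rw [show e = a⁻¹ • g.1 e by rw [he, inv_smul_smul₀ ha]]
    rw [map_smul, LinearMap.smul_apply, isomGroup_apply, smul_eq_mul]
  rw [h1, h2]
  module

theorem exists_ne_zero_one (H : Small hA Ω) : ∃ μ : F, μ ≠ 0 ∧ μ ≠ 1 := by
  classical
  obtain ⟨x, -, hx⟩ : ∃ x ∈ (Finset.univ : Finset F), x ∉ ({0, 1} : Finset F) :=
    Finset.exists_mem_notMem_of_card_lt_card (by
      rw [Finset.card_univ]; exact lt_of_le_of_lt Finset.card_le_two (by have := H.q3; omega))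
  simp only [Finset.mem_insert, Finset.mem_singleton, not_or] at hx
  exact ⟨x, hx⟩

end CfsgLib.KnownA.MinIndexSymp
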