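import Cfsg.Agent.Lib.KnownA.MinIndexSymp.NoAxes

/-!
# Small actions of symplectic groups are trivial
-/

set_option autoImplicit false
set_option linter.unusedSectionVars false

open Module MulAction CfsgLib.Classical Finset

namespace CfsgLib.KnownA.MinIndexSymp

variable {F : Type*} [Field F] {V : Type*} [AddCommGroup V] [Module F V] [FiniteDimensional F V]
  {B : V →ₗ[F] V →ₗ[F] F} {Ω : Type*} [MulAction (isomGroup B) Ω] {hA : B.IsAlt}
  [Fintype F] [Fintype Ω] {u v : V}

theorem natCard_Wsp_four (hA : B.IsAlt) (h : B u v = 1) (h4 : finrank F V = 4) :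
    Nat.card (Wsp B u v) = Fintype.card F ^ 2 := by
  rw [natCard_Wsp]
  congr 1
  have := finrank_Wsp (v := v) hA h
  omega

/-- A pure line gives a line of the image with full size. -/
theorem Line.kbar (h : B u v = 1) {ω : Ω} (hL : Line hA ω u) :
    ∃ a : Wsp B u v, a ≠ 0 ∧ (∀ x ∈ Kbar hA u v ω, ∃ t : F, x = t • a) ∧
      (∀ t : F, t • a ∈ Kbar hA u v ω) ∧ Nat.card (Kbar hA u v ω) = Fintype.card F ∧
      ((2 : F) = 0 → ∀ μ : F, rad hA u (μ • (a : V)) 0 • ω = ω) := by
  obtain ⟨a, hau, hat, hpure, hall⟩ := hL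
  set a₀ := proj hA h a hau with ha₀
  have ha0 : a₀ ≠ 0 := fun e => hat (B a v) (by
    conv_lhs => rw [proj_eq hA h a hau, ← ha₀, e, Submodule.coe_zero, zero_add])
  have hline : ∀ x ∈ Kbar hA u v ω, ∃ t : F, x = t • a₀ := by
    intro x ⟨c, hc⟩
    obtain ⟨s, t, e⟩ := hall _ c (Wsp_left x) hc
    refine ⟨s, sub_eq_zero.1 (Wsp_eq_zero_of_mem hA h (t := t + s * B a v) ?_)⟩
    rw [Submodule.coe_sub, Submodule.coe_smul, e]
    conv_lhs => rw [proj_eq hA h a hau]
    rw [← ha₀]
    module
  have hmem : ∀ t : F, t • a₀ ∈ Kbar hA u v ω := by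
    intro t
    have := fix_rad_iff_Kbar h (by simp [hau]) (hpure t)
    convert this using 1
    refine Subtype.ext ?_
    simp only [ha₀, proj, Submodule.coe_smul, map_smul, LinearMap.smul_apply, smul_eq_mul]
    module
  refine ⟨a₀, ha0, hline, hmem, le_antisymm (card_le_of_line hline) ?_, fun h2 μ => ?_⟩
  · rw [← Nat.card_eq_fintype_card]
    exact Nat.card_le_card_of_injective (fun t : F => (⟨_, hmem t⟩ : Kbar hA u v ω))
      fun s t e => smul_left_injective F ha0 (congrArg Subtype.val e)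
  · have h1 := hpure μ
    rwa [proj_eq hA h a hau, smul_add, smul_smul, rad_shift (by simp [Wsp_left]), h2, zero_mul,
      add_zero] at h1

set_option maxHeartbeats 1600000 in
/-- In characteristic two there are no lines without axes. -/
theorem no_line_two (H : Small hA Ω) [Nontrivial Ω] (h4 : finrank F V = 4) (h2 : (2 : F) = 0)
    {ω : Ω} (hu0 : u ≠ 0) : ¬ Line hA ω u := by
  classical
  intro hL
  obtain ⟨v, h⟩ := alt_exists_partner H.nd.1 hu0
  set q := Fintype.card F with hq
  have hq3 : 3 ≤ q := H.q3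
  have hn := H.smallW h
  rw [natCard_Wsp_four hA h h4, ← hq] at hn
  have hQ := natCard_Wsp_four hA h h4
  have hq2 : 1 ≤ q ^ 2 := Nat.one_le_pow _ _ (by omega)
  obtain ⟨Q', hQ'⟩ : ∃ Q', q ^ 2 = Q' + 1 := ⟨q ^ 2 - 1, by omega⟩
  obtain ⟨r, hr⟩ : ∃ r, q = r + 1 := ⟨q - 1, by omega⟩
  have key : ∀ ν : Ω, Line hA ν u → Zf hA ν u = ⊥ ∧ (∀ ν' : Ω, ¬ Reg hA ν' u) := by
    intro ν hν
    obtain ⟨a, -, -, -, hk, -⟩ := hν.kbar h
    have hzC : q ≤ (Zf hA ν u).index * (scales (Zf hA ν u)).card :=
      q_le_index_scales h2 (Zf_ne_top_iff.2 (no_axes H ν hu0))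
    have hc := cover_le_one hA H.nd h natural_id (ω₀ := ν) (m := q) (fun ω' e => e.trans hk)
      (by omega) (L := (orb hA u v ν).card) (fun τ hτ => orb_le_fibre hτ)
    rw [orb_eq_mul (hA := hA) (ω := ν) (r := q) (by rw [hk, hQ, sq]), hQ] at hc
    have hbig : ∀ M, M ≤ (Zf hA ν u).index * (scales (Zf hA ν u)).card →
        M * q * (q ^ 2 - 1) ≤ (ofCard (Ω := Ω) hA u v q).card * (q - 1) := fun M hM => by
      refine le_trans ?_ (hc.trans (Nat.mul_le_mul_right _ (cls_card_le ν hk)))
      calc _ ≤ (Zf hA ν u).index * (scales (Zf hA ν u)).card * q * (q ^ 2 - 1) :=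
            Nat.mul_le_mul_right _ (Nat.mul_le_mul_right _ hM)
        _ = _ := by ring
    constructor
    · by_contra hne
      have h1 := hbig (q + 2) (index_scales_of_two h2 (Zf_ne_top_iff.2 (no_axes H ν hu0)) hne)
      have h2' : (ofCard (Ω := Ω) hA u v q).card ≤ Fintype.card Ω := Finset.card_le_univ _
      have h3 := h1.trans (Nat.mul_le_mul_right _ h2')
      rw [hQ', Nat.add_sub_cancel] at h3
      rw [hQ'] at hn
      nlinarith
    · intro ν' hR
      have hk1 : Nat.card (Kbar hA u v ν') = 1 := by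
        rw [(reg_iff h).1 hR, AddSubgroup.card_bot]
      have hbigR : q * q ^ 2 ≤ (ofCard (Ω := Ω) hA u v 1).card := by
        refine le_trans ?_ (cls_card_le ν' hk1)
        refine le_trans ?_ (mul_le_pts _ _ _ fun τ hτ => orb_le_fibre hτ)
        rw [orb_eq_mul (hA := hA) (ω := ν') (r := q ^ 2) (by rw [hk1, mul_one, hQ])]
        calc q * q ^ 2 ≤ (Zf hA ν' u).index * (scales (Zf hA ν' u)).card * q ^ 2 :=
              Nat.mul_le_mul_right _
                (q_le_index_scales h2 (Zf_ne_top_iff.2 (no_axes H ν' hu0)))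
          _ ≤ (Zf hA ν' u).index * (cls hA u v ν').card * q ^ 2 :=
              Nat.mul_le_mul_right _ (Nat.mul_le_mul_left _ (scales_le_cls h ν'))
          _ = _ := by ring
      have h1 := hbig q hzC
      have htot : (ofCard (Ω := Ω) hA u v q).card + (ofCard (Ω := Ω) hA u v 1).card ≤
          Fintype.card Ω := by
        rw [← Finset.card_union_of_disjoint (disjoint_ofCard (by omega))]
        exact Finset.card_le_univ _
      have h3 := Nat.mul_le_mul_right (q - 1) htot
      have h5 := Nat.mul_le_mul_right (q - 1) hbigR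
      rw [hQ', Nat.add_sub_cancel] at h1
      rw [hQ'] at hn h5
      rw [Nat.add_mul] at h3
      have e1 : q * q * Q' + q * (Q' + 1) * (q - 1) ≤ Fintype.card Ω * (q - 1) := by omega
      rw [hr] at e1 hn hQ'
      rw [Nat.add_sub_cancel] at e1 hn
      have e2 : (Q' + 1) * (Q' + 1) = (r + 1) * (r + 1) * Q' + (r + 1) * (r + 1) := by
        conv_lhs => arg 1; rw [← hQ']
        ring
      have e3 := Nat.mul_le_mul_left (r + 1) (show r + 1 ≤ (Q' + 1) * r by nlinarith)
      nlinarith
  have hnoreg : ∀ (ν : Ω) (p : V), p ≠ 0 → Zf hA ν p = ⊥ := by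
    intro ν p hp
    obtain ⟨g, hg⟩ := H.exists_map hp hu0
    rcases kinds H hp (no_axes H ν hp) with hR | ⟨-, hL'⟩
    · exact absurd (hg ▸ hR.move g) ((key ω hL).2 (g • ν))
    · refine (AddSubgroup.eq_bot_iff_forall _).2 fun c hc => ?_
      have h1 := (fix_tv_smul (hA := hA) g (ω := ν) (u := p) (c := c)).2 (mem_Zf.1 hc)
      rw [hg, ← mem_Zf, ((key (g • ν) (hg ▸ hL'.move g)).1), AddSubgroup.mem_bot] at h1
      exact h1
  obtain ⟨a, ha0, hline, hmem, hk, hpure⟩ := hL.kbar h
  replace hpure := hpure h2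
  have hau : B u (a : V) = 0 := Wsp_left a
  set g := tv hA (a : V) 1 with hg
  have hgu : g.1 u = u := by simp [g, Wsp_left a]
  have hgv : g.1 v = v := by simp [g, Wsp_right a]
  have hst : ∀ w ∈ Kbar hA u v ω, onW g hgu hgv w ∈ Kbar hA u v ω := by
    intro w hw
    obtain ⟨t, rfl⟩ := hline w hw
    convert hw using 1
    exact Subtype.ext (by simp [onW, g, hA (a : V)])
  have hgorb : g • ω ∈ orb hA u v ω := by
    by_contra hout
    have hc := cover_le_one hA H.nd h natural_id (ω₀ := ω) (m := q) (fun ω' e => e.trans hk)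
      (by omega) (two_orb_le_fibre (inv2_eq_of_stable g hgu hgv hst) hout)
    have h3 := hc.trans (Nat.mul_le_mul_right _ (Finset.card_le_univ _))
    rw [orb_eq_mul (hA := hA) (ω := ω) (r := q) (by rw [hk, hQ, sq]), hQ,
      index_bot_scales _ (key ω hL).1, hQ', Nat.add_sub_cancel] at h3
    rw [hQ'] at hn
    have h4 := scales_card_pos (Zf hA ω u)
    have h5 : 1 * Q' * (2 * (q * q)) ≤ Fintype.card Ω * (q - 1) := by
      refine le_trans ?_ h3
      exact Nat.mul_le_mul_right _ (Nat.mul_le_mul_right _ h4)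
    nlinarith
  obtain ⟨⟨w, c⟩, hp⟩ := mem_orb.1 hgorb
  have hy : (rad hA u (-(w : V)) (-c) * g) • ω = ω := by
    rw [mul_smul, ← hp, X, ← rad_inv (Wsp_left w), inv_smul_smul]
  have hneg : ∀ x : F, -x = x := fun x => by linear_combination (-x) * h2
  by_cases hwa : B (a : V) (w : V) = 0
  · obtain ⟨t, ht⟩ := eq_smul_of_dim_two hA H.nd h h4 ha0 (x := w) (alt_zero_symm hA hwa)
    have h1 : (tv hA u (-c) * g) • ω = ω := by
      have hp' := inv_fix (hpure (-t))
      have := mul_fix hp' hy
      rw [← mul_assoc, rad_inv (by simp [hau]),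
        rad_mul (by simp [hau]) (by simp [Wsp_left w])] at this
      rw [ht, Submodule.coe_smul] at this
      simpa [hA (a : V), rad_zero] using this
    obtain ⟨p, hp2⟩ := sq_surjective h2 (-c)
    have e : tv hA (p • u + (a : V)) 1 = tv hA u (-c) * g * rad hA u (p • (a : V)) 0 := by
      refine Subtype.ext (LinearEquiv.ext fun x => ?_)
      rw [← hp2, hg]
      simp only [Subgroup.coe_mul, LinearEquiv.mul_apply, tv_apply,
        rad_apply (show B u (p • (a : V)) = 0 by simp [hau]), map_add, map_smul,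
        LinearMap.add_apply, LinearMap.smul_apply, smul_eq_mul, hau,
        alt_zero_symm hA hau, hA u, hA (a : V), mul_zero, add_zero, zero_mul]
      module
    have hfix : tv hA (p • u + (a : V)) 1 • ω = ω := by rw [e]; exact mul_fix h1 (hpure p)
    have hne : p • u + (a : V) ≠ 0 := fun e0 => ha0 (Wsp_eq_zero_of_mem hA h (t := -p) (by
      linear_combination (norm := module) e0))
    rw [← mem_Zf, hnoreg ω _ hne, AddSubgroup.mem_bot] at hfix
    exact one_ne_zero hfix
  · have h1 := mul_fix hy hy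
    set β := B (a : V) (w : V) with hβ
    have e : rad hA u (-(w : V)) (-c) * g * (rad hA u (-(w : V)) (-c) * g) =
        rad hA u (β • (a : V)) (β * β) := by
      have hgg : g * g = 1 := by
        rw [hg, tv_mul, show (1 : F) + 1 = 2 by norm_num, h2, tv_zero]
      have hgi : g⁻¹ = g := inv_eq_of_mul_eq_one_right hgg
      have e1 : rad hA u (-(w : V)) (-c) * g * (rad hA u (-(w : V)) (-c) * g) =
          rad hA u (-(w : V)) (-c) * (g * rad hA u (-(w : V)) (-c) * g⁻¹) := by
        rw [hgi]; group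
      rw [e1, rad_conj, hgu, rad_mul (show B u (-(w : V)) = 0 by rw [map_neg, Wsp_left w, neg_zero])
        (show B u (g.1 (-(w : V))) = 0 by
          rw [hg, tv_apply, map_add, map_smul, map_neg, Wsp_left w, hau]; simp)]
      have e2 : g.1 (-(w : V)) = -(w : V) + β • (a : V) := by
        simp only [hg, tv_apply, map_neg, LinearMap.neg_apply]
        rw [alt_swap hA (w : V) (a : V), ← hβ]
        module
      rw [e2]
      congr 1
      · have h2w : (2 : F) • (w : V) = 0 := by rw [h2, zero_smul]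
        linear_combination (norm := module) -h2w
      · simp only [map_add, map_neg, map_smul, LinearMap.add_apply, LinearMap.neg_apply,
          LinearMap.smul_apply, smul_eq_mul, hA (w : V), ← hβ]
        linear_combination (-c) * h2 - β * β * h2
    rw [e] at h1
    have h3 := sub_mem_Zf (by simp [hau]) (hpure β) h1
    rw [(key ω hL).1, AddSubgroup.mem_bot, sub_zero] at h3
    exact hwa (mul_self_eq_zero.1 h3)

/-- Without axes, all stabilisers meet the radical trivially. -/
theorem reg_four (H : Small hA Ω) [Nontrivial Ω] (h4 : finrank F V = 4) {ω : Ω} (hu0 : u ≠ 0) :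
    Reg hA ω u := by
  rcases kinds H hu0 (no_axes H ω hu0) with hR | ⟨-, hL⟩
  · exact hR
  exfalso
  by_cases h2 : (2 : F) = 0
  · exact no_line_two H h4 h2 hu0 hL
  · obtain ⟨a, hau, hat, hpure, -⟩ := hL
    have ha0 : a ≠ 0 := fun e => hat 0 (by rw [e, zero_smul])
    exact no_pure H h4 h2 hau (no_axes H ω hu0) (no_axes H ω ha0) hat hu0 hpure

/-- Dimension four is impossible. -/
theorem not_four (H : Small hA Ω) [Nontrivial Ω] (h4 : finrank F V = 4) : False := by
  classical
  obtain ⟨ω₀⟩ : Nonempty Ω := inferInstance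
  obtain ⟨u, hu0, hax⟩ := exists_not_axis H ω₀
  obtain ⟨v, h⟩ := alt_exists_partner H.nd.1 hu0
  have hd := finrank_Wsp (v := v) hA h
  have : Nontrivial (Wsp B u v) := Module.nontrivial_of_finrank_pos (R := F) (by omega)
  obtain ⟨e, he⟩ := exists_ne (0 : Wsp B u v)
  obtain ⟨f, hf⟩ := alt_exists_partner (Wsp_nondeg hA H.nd h).1 he
  rw [restrictForm_apply] at hf
  have hef : B (e : V) (f : V) = 1 := hf
  have he0 : (e : V) ≠ 0 := fun e' => he (Subtype.ext e')
  have htoru : ∀ {l : F} (hl : l ≠ 0), (tor hA hef hl).1 u = u := fun hl =>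
    tor_fix hef hl (alt_zero_symm hA (Wsp_left e)) (Wsp_left f)
  have htorv : ∀ {l : F} (hl : l ≠ 0), (tor hA hef hl).1 v = v := fun hl =>
    tor_fix hef hl (alt_zero_symm hA (Wsp_right e)) (Wsp_right f)
  obtain ⟨lam, hlam, hlam1, hodd⟩ : ∃ l : F, l ≠ 0 ∧ l ≠ 1 ∧ ((2 : F) ≠ 0 → l = -1) := by
    by_cases h2 : (2 : F) = 0
    · obtain ⟨l, h1, h1'⟩ := exists_ne_zero_one H
      exact ⟨l, h1, h1', fun e => absurd h2 e⟩
    · exact ⟨-1, neg_ne_zero.2 one_ne_zero, fun e' => h2 (by linear_combination -e'), fun _ => rfl⟩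
  set s := tor hA hef hlam with hs
  have hsu : s.1 u = u := htoru hlam
  have hsv : s.1 v = v := htorv hlam
  have hse : s.1 (e : V) = lam • (e : V) := tor_left hef hlam
  have hsf : s.1 (f : V) = lam⁻¹ • (f : V) := tor_right hef hlam
  have hfree : ∀ w : Wsp B u v, onW s hsu hsv w = w → w = 0 := by
    intro w hw
    have hw' : s.1 (w : V) = (w : V) := congrArg Subtype.val hw
    have h1 : B (w : V) (e : V) = 0 := by
      have := isomGroup_apply s (w : V) (e : V)
      rw [hw', hse, map_smul, smul_eq_mul] at this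
      exact (mul_left_eq_self₀.1 this).resolve_left hlam1
    have h1' : B (w : V) (f : V) = 0 := by
      have := isomGroup_apply s (w : V) (f : V)
      rw [hw', hsf, map_smul, smul_eq_mul] at this
      exact (mul_left_eq_self₀.1 this).resolve_left (fun e' => hlam1 (inv_eq_one.1 e'))
    obtain ⟨t, ht⟩ := eq_smul_of_dim_two hA H.nd h h4 he h1
    rw [ht, Submodule.coe_smul, map_smul, LinearMap.smul_apply, hef, smul_eq_mul, mul_one] at h1'
    rw [ht, h1', zero_smul]
  obtain ⟨ξ, hξ, hsξ⟩ := exists_fixed H h hax (reg_four H h4 hu0) s hsu hsv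
    (tor_pow_card hef hlam) hfree
  have haxξ : ¬ Axis hA ξ u := no_axes H ξ hu0
  have hRξ : Reg hA ξ u := reg_four H h4 hu0
  refine no_axes H ξ he0 fun c => ?_
  have hgu : ∀ c, (tv hA (e : V) c).1 u = u := fun c => by simp [Wsp_left e]
  have hgv : ∀ c, (tv hA (e : V) c).1 v = v := fun c => by simp [Wsp_right e]
  by_cases h2 : (2 : F) = 0
  · by_cases hc0 : c = 0
    · rw [hc0, tv_zero, one_smul]
    have hll : lam * lam + 1 ≠ 0 := fun e' => by
      have h0 : (lam - 1) * (lam - 1) = 0 := by linear_combination e' - lam * h2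
      exact hlam1 (sub_eq_zero.1 (mul_self_eq_zero.1 h0))
    have hneg : ∀ x : F, -x = x := fun x => by linear_combination (-x) * h2
    set x := c / (lam * lam + 1) with hx
    have hx0 : x ≠ 0 := div_ne_zero hc0 hll
    set g := tv hA (e : V) x with hg
    obtain ⟨⟨w, c₀⟩, hp⟩ := mem_orb.1 (levi_keeps_orb H h haxξ hRξ g (hgu x) (hgv x))
    have h1 : X hA u v (onW g (hgu x) (hgv x) w, c₀) • X hA u v (w, c₀) • ξ = ξ := by
      have hm : g * X hA u v (w, c₀) = X hA u v (onW g (hgu x) (hgv x) w, c₀) * g :=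
        move_X g (hgu x) (hgv x) (w, c₀)
      rw [hp, ← mul_smul, ← hm, mul_smul, hp, ← mul_smul, hg, tv_mul,
        show x + x = 0 by linear_combination x * h2, tv_zero, one_smul]
    rw [← mul_smul, X_mul] at h1
    obtain ⟨t, ht⟩ := hRξ _ _ (Wsp_left _) h1
    have hzero := Wsp_eq_zero_of_mem hA h ht
    have hwe : B (w : V) (e : V) = 0 := by
      have hV : g.1 (w : V) + (w : V) = 0 := congrArg Subtype.val hzero
      rw [hg, tv_apply] at hV
      have h3 : (x * B (w : V) (e : V)) • (e : V) = 0 := by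
        have h2w : (2 : F) • (w : V) = 0 := by rw [h2, zero_smul]
        linear_combination (norm := module) hV - h2w
      exact (mul_eq_zero.1 ((smul_eq_zero.1 h3).resolve_right he0)).resolve_left hx0
    obtain ⟨a, ha⟩ := eq_smul_of_dim_two hA H.nd h h4 he hwe
    have hy : (rad hA u (a • (e : V)) c₀ * g) • ξ = ξ := by
      rw [mul_smul, ← hp, ← mul_smul, X, ha, Submodule.coe_smul, rad_mul (by simp [Wsp_left e])
        (by simp [Wsp_left e]), show a • (e : V) + a • (e : V) = 0 by
          rw [← two_smul F (a • (e : V)), h2, zero_smul],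
        show c₀ + c₀ + B (a • (e : V)) (a • (e : V)) = 0 by
          rw [hA]; linear_combination c₀ * h2, rad_zero_zero, one_smul]
    have hy' : (rad hA u ((lam * a) • (e : V)) c₀ * tv hA (e : V) (lam * lam * x)) • ξ = ξ := by
      have e1 : s * (rad hA u (a • (e : V)) c₀ * g) * s⁻¹ =
          rad hA u ((lam * a) • (e : V)) c₀ * tv hA (e : V) (lam * lam * x) := by
        rw [show s * (rad hA u (a • (e : V)) c₀ * g) * s⁻¹ =
          (s * rad hA u (a • (e : V)) c₀ * s⁻¹) * (s * g * s⁻¹) by group, rad_conj, hg, conj_tv,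
          hsu, map_smul, hse, smul_smul, tv_smul, mul_comm a lam]
      rw [← e1]
      exact mul_fix (mul_fix hsξ hy) (inv_fix hsξ)
    have hy'' := mul_fix hy hy'
    have e2 : rad hA u (a • (e : V)) c₀ * g *
        (rad hA u ((lam * a) • (e : V)) c₀ * tv hA (e : V) (lam * lam * x)) =
        rad hA (e : V) ((a + lam * a) • u) c := by
      have e3 : g * rad hA u ((lam * a) • (e : V)) c₀ =
          rad hA u ((lam * a) • (e : V)) c₀ * g := by
        rw [← mul_inv_eq_iff_eq_mul, rad_conj, hgu]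
        simp [g, hA (e : V)]
      rw [show rad hA u (a • (e : V)) c₀ * g *
          (rad hA u ((lam * a) • (e : V)) c₀ * tv hA (e : V) (lam * lam * x)) =
          rad hA u (a • (e : V)) c₀ * (g * rad hA u ((lam * a) • (e : V)) c₀) *
            tv hA (e : V) (lam * lam * x) by group, e3, ← mul_assoc,
        rad_mul (by simp [Wsp_left e]) (by simp [Wsp_left e]), mul_assoc, hg, tv_mul, ← add_smul,
        show c₀ + c₀ + B ((lam * a) • (e : V)) (a • (e : V)) = 0 by
          simp only [map_smul, LinearMap.smul_apply, hA (e : V), smul_zero]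
          linear_combination c₀ * h2,
        rad_swap_smul (Wsp_left e), rad_mul_tv (by simp [alt_zero_symm hA (Wsp_left e)]), zero_add,
        show x + lam * lam * x = c by
          rw [show x + lam * lam * x = (lam * lam + 1) * x by ring, hx, mul_div_cancel₀ _ hll]]
    rw [e2] at hy''
    have hue : B (e : V) ((a + lam * a) • u) = 0 := by simp [alt_zero_symm hA (Wsp_left e)]
    obtain ⟨t', ht'⟩ := reg_four H h4 he0 _ _ hue hy''
    have ha' : a + lam * a = 0 := by
      have := congrArg (fun z => B z v) ht'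
      simpa [h, alt_zero_symm hA (Wsp_right e)] using this
    rw [ha', zero_smul, rad_zero] at hy''
    exact hy''
  · obtain ⟨μ, hμ, hμ1⟩ : ∃ μ : F, μ ≠ 0 ∧ μ * μ ≠ 1 := by
      obtain ⟨μ, -, hμ⟩ : ∃ μ ∈ (Finset.univ : Finset F), μ ∉ ({0, 1, -1} : Finset F) :=
        Finset.exists_mem_notMem_of_card_lt_card (by
          rw [Finset.card_univ]; exact lt_of_le_of_lt Finset.card_le_three (by
            have := H.exc h4; omega))
      simp only [Finset.mem_insert, Finset.mem_singleton, not_or] at hμ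
      exact ⟨μ, hμ.1, fun e' => (mul_self_eq_one_iff.1 e').elim hμ.2.1 hμ.2.2⟩
    have hl := hodd h2
    have htξ : tor hA hef hμ • ξ = ξ := centralizer_fix H h haxξ hRξ s hsu hsv hsξ hfree _
      (htoru hμ) (htorv hμ) (comm_tor s hef hμ hlam hse hsf) (tor_pow_card hef hμ)
    exact root_fix (ξ := ξ) (fun c => tv hA (e : V) c) (fun a b => (tv_mul hA _ a b).symm)
      (tor hA hef hμ) htξ (htoru hμ) hμ1
      (fun a => by rw [conj_tv, tor_left hef hμ, tv_smul])
      (fun a => centralizer_fixed H h haxξ hRξ s hsu hsv hsξ hfree _ (hgu a) (hgv a) (by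
        rw [← mul_inv_eq_iff_eq_mul, conj_tv, hse, tv_smul, hl, neg_mul_neg, one_mul, one_mul]))
      c

/-- A small transitive action is trivial. -/
theorem subsingleton_of_small (H : Small hA Ω) : Subsingleton Ω := by
  by_contra hns
  have : Nontrivial Ω := not_subsingleton_iff_nontrivial.1 hns
  by_cases h4 : finrank F V = 4
  · exact not_four H h4
  · have := H.dim
    obtain ⟨j, hj⟩ := H.finrank_even
    obtain ⟨ξ, hξ⟩ := exists_big_axes H (by omega)
    have hne : axes H ξ ≠ ⊥ := fun e => by rw [e, finrank_bot] at hξ; omega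
    obtain ⟨a, ha, ha0⟩ := Submodule.exists_mem_ne_zero_of_ne_bot hne
    exact no_axes H ξ ha0 ((mem_axes H).1 ha)

end CfsgLib.KnownA.MinIndexSymp
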