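import Cfsg.Agent.Lib.KnownA.MinIndexSymp.Axes

/-!
# Isometries fixing a hyperbolic pair keep the orbits of the radical
-/

set_option autoImplicit false
set_option linter.unusedSectionVars false

open Module MulAction CfsgLib.Classical Finset

namespace CfsgLib.KnownA.MinIndexSymp

variable {F : Type*} [Field F] {V : Type*} [AddCommGroup V] [Module F V] [FiniteDimensional F V]
  {B : V →ₗ[F] V →ₗ[F] F} {Ω : Type*} [MulAction (isomGroup B) Ω] {hA : B.IsAlt}
  [Fintype F] [Fintype Ω] {u v : V}

theorem Small.card_odd (H : Small hA Ω) (h2 : (2 : F) ≠ 0) : Fintype.card F % 2 = 1 := by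
  obtain ⟨p, f, hp, -, hqp⟩ := exists_prime_pow F
  rcases hp.eq_two_or_odd with rfl | hp2
  · refine absurd ?_ h2
    have : ((Fintype.card F : ℕ) : F) = 0 := FiniteField.cast_card_eq_zero F
    rw [hqp] at this
    push_cast at this
    exact pow_eq_zero_iff'.1 this |>.1
  · rw [hqp, Nat.pow_mod, hp2, one_pow, Nat.one_mod]

theorem Small.three_le_index (H : Small hA Ω) (h2 : (2 : F) ≠ 0) {Z : AddSubgroup F} (hZ : Z ≠ ⊤) :
    3 ≤ Z.index := by
  have h := two_le_index hZ
  have hdvd : Z.index ∣ Fintype.card F := by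
    rw [← Nat.card_eq_fintype_card, ← index_mul_card Z]; exact dvd_mul_right _ _
  by_contra hlt
  rw [show Z.index = 2 by omega] at hdvd
  have := H.card_odd h2
  omega

theorem mem_orb_move_iff (g : isomGroup B) (hu : g.1 u = u) (hv : g.1 v = v) {ω ν : Ω} :
    g • ν ∈ orb hA u v (g • ω) ↔ ν ∈ orb hA u v ω := by
  refine ⟨fun hm => ?_, orb_move_mem g hu hv⟩
  obtain ⟨hu', hv', -⟩ := onW_inv g hu hv
  have := orb_move_mem g⁻¹ hu' hv' hm
  rwa [inv_smul_smul, inv_smul_smul] at this

theorem orb_trans_mem {ω ν ξ : Ω} (h1 : ν ∈ orb hA u v ω) (h2 : ξ ∈ orb hA u v ν) :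
    ξ ∈ orb hA u v ω := by rwa [← orb_eq h1]

theorem orb_symm_mem {ω ν : Ω} (h1 : ν ∈ orb hA u v ω) : ω ∈ orb hA u v ν := by
  rw [orb_eq h1]; exact self_mem_orb ω

/-- The parameters of the transvections at `w` keeping the orbit. -/
def Hsub (hA : B.IsAlt) (u v : V) (w : Wsp B u v) (ω : Ω) : AddSubgroup F where
  carrier := {c | tv hA (w : V) c • ω ∈ orb hA u v ω}
  zero_mem' := by
    show tv hA (w : V) 0 • ω ∈ orb hA u v ω
    rw [tv_zero, one_smul]
    exact self_mem_orb ω
  add_mem' {a b} ha hb := by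
    show tv hA (w : V) (a + b) • ω ∈ orb hA u v ω
    rw [← tv_mul, mul_smul]
    exact orb_trans_mem ha ((mem_orb_move_iff (tv hA (w : V) a) (by simp [Wsp_left w])
      (by simp [Wsp_right w])).2 hb)
  neg_mem' {a} ha := by
    show tv hA (w : V) (-a) • ω ∈ orb hA u v ω
    refine orb_symm_mem ((mem_orb_move_iff (tv hA (w : V) a) (by simp [Wsp_left w])
      (by simp [Wsp_right w])).1 ?_)
    rw [← mul_smul (tv hA (w : V) a), tv_mul, add_neg_cancel, tv_zero, one_smul]
    exact ha

theorem mem_Hsub {w : Wsp B u v} {ω : Ω} {c : F} :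
    c ∈ Hsub hA u v w ω ↔ tv hA (w : V) c • ω ∈ orb hA u v ω := Iff.rfl

theorem Hsub_of_mem {w : Wsp B u v} {ω ν : Ω} (h : ν ∈ orb hA u v ω) :
    Hsub hA u v w ν = Hsub hA u v w ω := by
  have key : ∀ {ω ν : Ω}, ν ∈ orb hA u v ω → Hsub hA u v w ω ≤ Hsub hA u v w ν := by
    intro ω ν h c hc
    rw [mem_Hsub] at hc ⊢
    rw [orb_eq h]
    exact orb_trans_mem hc ((mem_orb_move_iff _ (by simp [Wsp_left w]) (by simp [Wsp_right w])).2 h)
  exact le_antisymm (key (orb_symm_mem h)) (key h)

theorem Hsub_tv {w : Wsp B u v} {ω : Ω} (d : F) :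
    Hsub hA u v w (tv hA (w : V) d • ω) = Hsub hA u v w ω := by
  ext c
  rw [mem_Hsub, mem_Hsub, ← mul_smul, tv_mul, add_comm, ← tv_mul, mul_smul,
    mem_orb_move_iff _ (by simp [Wsp_left w]) (by simp [Wsp_right w])]

/-- Under regularity a transvection of the perpendicular space keeps the orbit. -/
theorem tv_keeps_orb (H : Small hA Ω) (h : B u v = 1) {ω : Ω} (hax : ¬ Axis hA ω u)
    (hR : Reg hA ω u) (w : Wsp B u v) (c : F) : tv hA (w : V) c • ω ∈ orb hA u v ω := by
  classical
  by_contra hout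
  have hw0 : w ≠ 0 := fun e => hout (by
    rw [e, Submodule.coe_zero, tv_zero_vec, one_smul]; exact self_mem_orb ω)
  obtain ⟨w', hw'⟩ := alt_exists_partner (Wsp_nondeg hA H.nd h).1 hw0
  rw [restrictForm_apply] at hw'
  set K := Hsub hA u v w ω with hK
  have hKtop : K ≠ ⊤ := fun e => hout (mem_Hsub.1 (show c ∈ K by rw [e]; trivial))
  set z := (Zf hA ω u).index with hz
  set Q := Nat.card (Wsp B u v) with hQ
  have hbound := le_card_of_tags (univ : Finset Ω) (fun x => Hsub hA u v w x) (scales K)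
    (K.index * (Q * z)) ?_
  · have hn := H.smallW h
    rw [card_univ] at hbound
    rw [← hQ] at hn
    set q := Fintype.card F with hq
    have hq3 : 3 ≤ q := H.q3
    have hKC := two_mul_index_scales hKtop
    rw [← hq] at hKC
    have hlt : (scales K).card * K.index * z * (q - 1) < q ^ 2 := by
      refine lt_of_mul_lt_mul_right (a := Q) ?_ (Nat.zero_le _)
      calc (scales K).card * K.index * z * (q - 1) * Q
          = (scales K).card * (K.index * (Q * z)) * (q - 1) := by ring
        _ ≤ Fintype.card Ω * (q - 1) := Nat.mul_le_mul_right _ hbound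
        _ < q ^ 2 * Q := by omega
    obtain ⟨r, hr⟩ : ∃ r, q = r + 1 := ⟨q - 1, by omega⟩
    rw [hr] at hq3
    rw [hr, Nat.add_sub_cancel] at hlt
    rw [hr] at hKC
    by_cases h2 : (2 : F) = 0
    · have h3 := q_le_index_scales h2 hKtop
      have hz2 : 2 ≤ z := two_le_index (Zf_ne_top_iff.2 hax)
      rw [← hq, hr] at h3
      nlinarith [Nat.mul_le_mul h3 hz2]
    · have hz3 := H.three_le_index h2 (Zf_ne_top_iff.2 hax)
      nlinarith [Nat.mul_le_mul hKC hz3]
  intro τ hτ
  obtain ⟨a, ha, rfl⟩ := mem_scales.1 hτ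
  set g := tor hA hw' ha with hg
  have hgu : g.1 u = u := tor_fix hw' ha (alt_zero_symm hA (Wsp_left w)) (Wsp_left w')
  have hgv : g.1 v = v := tor_fix hw' ha (alt_zero_symm hA (Wsp_right w)) (Wsp_right w')
  have hgw : g.1 (w : V) = a • (w : V) := tor_left hw' ha
  have hνK : Hsub hA u v w (g • ω) = scale (a * a) K := by
    ext d
    rw [mem_scale (mul_ne_zero ha ha), hK, mem_Hsub, mem_Hsub,
      ← mem_orb_move_iff g hgu hgv (ω := ω) (ν := tv hA (w : V) _ • ω), ← mul_smul g,
      show g * tv hA (w : V) ((a * a)⁻¹ * d) = tv hA (w : V) d * g by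
        rw [← mul_inv_eq_iff_eq_mul, conj_tv, hgw, tv_smul,
          mul_inv_cancel_left₀ (mul_ne_zero ha ha)],
      mul_smul]
  set ν := g • ω with hν
  set O : Finset (Finset Ω) := (univ : Finset F).image fun d => orb hA u v (tv hA (w : V) d • ν)
    with hO
  refine ⟨O.biUnion id, subset_univ _, ?_, ?_⟩
  · have hi : O.card = K.index := by
      have h1 : O.card * Nat.card (scale (a * a) K) = Fintype.card F := by
        rw [← card_univ, Finset.card_eq_sum_card_fiberwise
          (f := fun d => orb hA u v (tv hA (w : V) d • ν)) (t := O)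
          (fun d _ => mem_image.2 ⟨d, mem_univ _, rfl⟩), ← smul_eq_mul, ← Finset.sum_const]
        refine Finset.sum_congr rfl fun o ho => ?_
        obtain ⟨d, -, rfl⟩ := mem_image.1 ho
        rw [Nat.card_eq_fintype_card, Fintype.card_subtype]
        refine Finset.card_bij' (fun r _ => d + r) (fun r _ => -d + r) ?_ ?_
          (fun r _ => neg_add_cancel_left d r) (fun r _ => add_neg_cancel_left d r)
        · intro r hr
          simp only [mem_filter, mem_univ, true_and] at hr ⊢
          rw [← hνK, mem_Hsub] at hr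
          refine orb_eq ?_
          rw [← tv_mul, mul_smul]
          exact (mem_orb_move_iff _ (by simp [Wsp_left w]) (by simp [Wsp_right w])).2 hr
        · intro r hr
          simp only [mem_filter, mem_univ, true_and] at hr ⊢
          rw [← hνK, mem_Hsub,
            ← mem_orb_move_iff (tv hA (w : V) d) (by simp [Wsp_left w]) (by simp [Wsp_right w]),
            ← mul_smul (tv hA (w : V) d) (tv hA (w : V) (-d + r)), tv_mul, add_neg_cancel_left, ← hr]
          exact self_mem_orb _
      rw [← index_of_scales hτ]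
      refine Nat.eq_of_mul_eq_mul_right (Nat.card_pos (α := scale (a * a) K)) (h1.trans ?_)
      rw [index_mul_card, Nat.card_eq_fintype_card]
    rw [Finset.card_biUnion, Finset.sum_congr rfl (g := fun _ => Q * z) (fun o ho => ?_),
      Finset.sum_const, smul_eq_mul, hi]
    · obtain ⟨d, -, rfl⟩ := mem_image.1 ho
      have hRd : Reg hA (tv hA (w : V) d • ν) u := by
        have h1 := (hR.move g).move (tv hA (w : V) d)
        rw [hgu, show (tv hA (w : V) d).1 u = u by simp [Wsp_left w]] at h1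
        exact h1
      show (orb hA u v (tv hA (w : V) d • ν)).card = Q * z
      rw [orb_eq_mul (r := Q) (by rw [(reg_iff h).1 hRd, AddSubgroup.card_bot, mul_one]),
        Zf_move _ (by simp [Wsp_left w]), hν, Zf_move g hgu]
    · intro o ho o' ho' hne'
      obtain ⟨d, -, rfl⟩ := mem_image.1 ho
      obtain ⟨d', -, rfl⟩ := mem_image.1 ho'
      rw [Function.onFun, Finset.disjoint_left]
      exact fun x hx hx' => hne' ((orb_eq hx).symm.trans (orb_eq hx'))
  · intro x hx
    obtain ⟨o, ho, hxo⟩ := mem_biUnion.1 hx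
    obtain ⟨d, -, rfl⟩ := mem_image.1 ho
    rw [Hsub_of_mem hxo, Hsub_tv, hνK]

/-- Under regularity all isometries fixing the pair keep the orbit. -/
theorem levi_keeps_orb (H : Small hA Ω) (h : B u v = 1) {ω : Ω} (hax : ¬ Axis hA ω u)
    (hR : Reg hA ω u) (g : isomGroup B) (hu : g.1 u = u) (hv : g.1 v = v) :
    g • ω ∈ orb hA u v ω := by
  have hW := nondegOn_pair hA h
  let f := perpIncl hA hW
  have hfu : ∀ k, (f k).1 u = u := fun k =>
    perpIncl_apply_left hA hW k ⟨u, Submodule.subset_span (Set.mem_insert _ _)⟩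
  have hfv : ∀ k, (f k).1 v = v := fun k =>
    perpIncl_apply_left hA hW k ⟨v, Submodule.subset_span (Set.mem_insert_of_mem _ rfl)⟩
  let S : Subgroup (isomGroup (restrictForm B (Wsp B u v))) :=
  { carrier := {k | f k • ω ∈ orb hA u v ω}
    one_mem' := by
      show f 1 • ω ∈ orb hA u v ω
      rw [map_one, one_smul]; exact self_mem_orb ω
    mul_mem' := fun {a b} ha hb => by
      show f (a * b) • ω ∈ orb hA u v ω
      rw [map_mul, mul_smul]
      exact orb_trans_mem ha ((mem_orb_move_iff _ (hfu a) (hfv a)).2 hb)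
    inv_mem' := fun {a} ha => by
      show f a⁻¹ • ω ∈ orb hA u v ω
      refine orb_symm_mem ((mem_orb_move_iff _ (hfu a) (hfv a)).1 ?_)
      rw [← mul_smul, ← map_mul, mul_inv_cancel, map_one, one_smul]
      exact ha }
  have hS : S = ⊤ := by
    rw [eq_top_iff, ← tvGroup_eq_top (restrictForm_isAlt hA _) (Wsp_nondeg hA H.nd h)]
    refine (Subgroup.closure_le _).2 ?_
    rintro _ ⟨w, c, rfl⟩
    show f _ • ω ∈ orb hA u v ω
    rw [perpIncl_tv]
    exact tv_keeps_orb H h hax hR w c
  obtain ⟨k, rfl⟩ := (mem_range_perpIncl hA hW g).2 (fun w hw => by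
    obtain ⟨a, b, rfl⟩ := Submodule.mem_span_pair.1 hw
    simp only [map_add, map_smul, hu, hv])
  have hk : k ∈ S := by rw [hS]; trivial
  exact hk

end CfsgLib.KnownA.MinIndexSymp
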