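import Cfsg.Agent.Lib.KnownA.MinIndexSymp.NoFull

/-!
# No pure lines in odd characteristic
-/

set_option autoImplicit false
set_option linter.unusedSectionVars false

open Module MulAction CfsgLib.Classical Finset

namespace CfsgLib.KnownA.MinIndexSymp

variable {F : Type*} [Field F] {V : Type*} [AddCommGroup V] [Module F V] [FiniteDimensional F V]
  {B : V →ₗ[F] V →ₗ[F] F} {Ω : Type*} [MulAction (isomGroup B) Ω] {hA : B.IsAlt}
  [Fintype F] [Fintype Ω] {u v : V}

/-- At every point the stabiliser contains an axis, meets the radical trivially, or in a line. -/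
theorem kinds (H : Small hA Ω) {ω : Ω} (hu0 : u ≠ 0) (hax : ¬ Axis hA ω u) :
    Reg hA ω u ∨ (finrank F V = 4 ∧ Line hA ω u) := by
  rcases trichotomy H hu0 hax with h | h | h
  · exact Or.inl h
  · exact absurd h (not_full H hu0 hax)
  · exact Or.inr h

/-- The points with a pure line through `u` and `a`. -/
noncomputable def pureSet (hA : B.IsAlt) (u a : V) : Finset Ω := by
  classical
  exact univ.filter fun ω =>
    ¬ Axis hA ω u ∧ ¬ Axis hA ω a ∧ ∀ μ : F, rad hA u (μ • a) 0 • ω = ω

theorem mem_pureSet {u a : V} {ω : Ω} : ω ∈ pureSet hA u a ↔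
    ¬ Axis hA ω u ∧ ¬ Axis hA ω a ∧ ∀ μ : F, rad hA u (μ • a) 0 • ω = ω := by
  classical simp [pureSet]

theorem pureSet_move (g : isomGroup B) {u a : V} {ω : Ω} (h : ω ∈ pureSet hA u a) :
    g • ω ∈ pureSet hA (g.1 u) (g.1 a) := by
  obtain ⟨h1, h2, h3⟩ := mem_pureSet.1 h
  exact mem_pureSet.2 ⟨fun e => h1 ((axis_smul_iff g).1 e), fun e => h2 ((axis_smul_iff g).1 e),
    fun μ => by rw [← map_smul]; exact (fix_rad_smul g).2 (h3 μ)⟩

theorem pureSet_scale {u a : V} (hua : B u a = 0) {s t : F} (hs : s ≠ 0) (ht : t ≠ 0) {ω : Ω}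
    (h : ω ∈ pureSet hA u a) : ω ∈ pureSet hA (s • u) (t • a) := by
  obtain ⟨h1, h2, h3⟩ := mem_pureSet.1 h
  refine mem_pureSet.2 ⟨fun e => h1 ((axis_smul_vec_iff hs).1 e),
    fun e => h2 ((axis_smul_vec_iff ht).1 e), fun μ => ?_⟩
  rw [rad_smul (by simp [hua]), mul_zero, smul_smul, smul_smul]
  exact h3 _

theorem card_pureSet_le (g : isomGroup B) (u a : V) :
    (pureSet (Ω := Ω) hA u a).card ≤ (pureSet (Ω := Ω) hA (g.1 u) (g.1 a)).card :=
  Finset.card_le_card_of_injOn (fun ω => g • ω) (fun _ hω => pureSet_move g hω)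
    fun _ _ _ _ e => smul_left_cancel _ e

/-- The partner of a point is unique. -/
theorem partner_unique (H : Small hA Ω) (h2 : (2 : F) ≠ 0) {ω : Ω} {u a a' : V} (hu0 : u ≠ 0)
    (hua : B u a = 0) (hua' : B u a' = 0) (hat : ∀ t : F, a ≠ t • u)
    (hω : ω ∈ pureSet hA u a) (hω' : ω ∈ pureSet hA u a') : ∃ s : F, a' = s • a := by
  obtain ⟨hax, -, hp⟩ := mem_pureSet.1 hω
  obtain ⟨-, -, hp'⟩ := mem_pureSet.1 hω'
  have h1 : rad hA u a 0 • ω = ω := by simpa using hp 1
  rcases kinds H hu0 hax with hR | ⟨-, b, hb, hbt, -, hall⟩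
  · obtain ⟨t, ht⟩ := hR a 0 hua h1
    exact absurd ht (hat t)
  obtain ⟨s₁, t₁, e₁⟩ := hall a 0 hua h1
  obtain ⟨s₂, t₂, e₂⟩ := hall a' 0 hua' (by simpa using hp' 1)
  have hs₁ : s₁ ≠ 0 := fun e => hat t₁ (by rw [e₁, e, zero_smul, zero_add])
  set s := s₂ / s₁
  set t := t₂ - s * t₁
  have e : a' = s • a + t • u := by
    rw [e₁, e₂]
    simp only [t, s]
    match_scalars <;> field_simp <;> ring
  refine ⟨s, ?_⟩
  by_cases ht : t = 0
  · rw [e, ht, zero_smul, add_zero]
  exfalso
  refine hax (axis_iff.2 (eq_top_of_mul (a := 2 * t) (mul_ne_zero h2 ht) fun μ => ?_))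
  have h3 := hp' μ
  rw [e, smul_add, smul_smul, smul_smul, rad_shift (by simp [hua])] at h3
  have := sub_mem_Zf (by simp [hua]) (hp (μ * s)) h3
  convert this using 1
  ring

/-- There are at most `q` points with a given pure line. -/
theorem pureSet_card_le (H : Small hA Ω) (h4 : finrank F V = 4) (h2 : (2 : F) ≠ 0) {u a : V}
    (hua : B u a = 0) (hli : LinearIndependent F ![u, a]) :
    (pureSet (Ω := Ω) hA u a).card ≤ Fintype.card F := by
  classical
  have : Finite V := Module.finite_of_finite F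
  have := Fintype.ofFinite V
  set q := Fintype.card F with hq
  have hq3 : 3 ≤ q := H.q3
  set P : Finset (V × V) :=
    univ.filter fun p => LinearIndependent F ![p.1, p.2] ∧ B p.1 p.2 = 0 with hP
  have hV : (univ.erase (0 : V)).card = q ^ 4 - 1 := by
    rw [Finset.card_erase_of_mem (mem_univ _), card_univ, Module.card_eq_pow_finrank (K := F), h4]
  have hlow : (q ^ 4 - 1) * (q ^ 3 - q) ≤ P.card := by
    rw [← hV, ← smul_eq_mul, ← Finset.sum_const,
      Finset.card_eq_sum_card_fiberwise (f := Prod.fst) (t := univ.erase (0 : V)) (fun p hp =>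
        mem_erase.2 ⟨(mem_filter.1 hp).2.1.ne_zero 0, mem_univ _⟩)]
    refine Finset.sum_le_sum fun x hx => ?_
    have hx0 := (mem_erase.1 hx).1
    have hf : B x ≠ 0 := fun e => hx0 (H.nd.1 x fun y => by simp [e])
    have e3 : q ^ 3 = Nat.card {y : V // B x y = 0} := by
      rw [card_linearMap_fibre (B x) hf 0, h4]
    rw [e3, Nat.card_eq_fintype_card, Fintype.card_subtype]
    refine (Nat.sub_le_sub_left ?_ _).trans
      ((Finset.le_card_sdiff (univ.image fun t : F => t • x) _).trans ?_)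
    · exact Finset.card_image_le.trans (le_of_eq card_univ)
    · refine Finset.card_le_card_of_injOn (fun y => (x, y)) (fun y hy => ?_)
        fun y _ y' _ e => (Prod.ext_iff.1 e).2
      obtain ⟨hy1, hy2⟩ := Finset.mem_sdiff.1 hy
      refine Finset.mem_coe.2 (mem_filter.2 ⟨mem_filter.2 ⟨mem_univ _, ?_, (mem_filter.1 hy1).2⟩, rfl⟩)
      exact (LinearIndependent.pair_iff' hx0).2 fun t e => hy2 (mem_image.2 ⟨t, mem_univ _, e⟩)
  have hdc : P.card * (pureSet (Ω := Ω) hA u a).card ≤
      Fintype.card Ω * ((q ^ 4 - 1) * (q - 1)) := by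
    refine le_trans ?_ (le_trans (le_of_eq
      (Finset.sum_card_bipartiteAbove_eq_sum_card_bipartiteBelow
        (fun (p : V × V) (ω : Ω) => ω ∈ pureSet hA p.1 p.2) (s := P) (t := univ))) ?_)
    · rw [← smul_eq_mul, ← Finset.sum_const]
      refine Finset.sum_le_sum fun p hp => ?_
      obtain ⟨hpli, hp0⟩ := (mem_filter.1 hp).2
      have h1 : ∀ i j, B (![u, a] i) (![u, a] j) = 0 := by
        intro i j
        fin_cases i <;> fin_cases j <;> simp [hA u, hA a, hua, alt_zero_symm hA hua]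
      have h3 : ∀ i j, B (![p.1, p.2] i) (![p.1, p.2] j) = 0 := by
        intro i j
        fin_cases i <;> fin_cases j <;> simp [hA p.1, hA p.2, hp0, alt_zero_symm hA hp0]
      obtain ⟨g, hg⟩ := witt_family hA H.nd hli hpli h1 h3
      refine (card_pureSet_le g u a).trans (Finset.card_le_card fun ω hω => ?_)
      have e0 : g.1 u = p.1 := hg 0
      have e1 : g.1 a = p.2 := hg 1
      rw [e0, e1] at hω
      exact mem_filter.2 ⟨mem_univ _, hω⟩
    · rw [← Finset.card_univ, ← smul_eq_mul, ← Finset.sum_const]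
      refine Finset.sum_le_sum fun ω _ => ?_
      rw [← hV, mul_comm]
      refine Finset.card_le_mul_card_image_of_maps_to (f := Prod.fst) (fun p hp =>
        mem_erase.2 ⟨((mem_filter.1 (mem_filter.1 hp).1).2.1).ne_zero 0, mem_univ _⟩) _ fun x hx => ?_
      by_cases he : ∃ p ∈ (P.bipartiteBelow (fun (p : V × V) (ω : Ω) => ω ∈ pureSet hA p.1 p.2) ω),
          p.1 = x
      · obtain ⟨⟨x', y⟩, hp, rfl⟩ := he
        obtain ⟨hpP, hpω⟩ := mem_filter.1 hp
        obtain ⟨hpli, hp0⟩ := (mem_filter.1 hpP).2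
        refine (Finset.card_le_card (t := ((univ : Finset F).erase 0).image fun t => (x', t • y))
          fun p' hp' => ?_).trans (Finset.card_image_le.trans (le_of_eq ?_))
        · obtain ⟨hp'', e⟩ := mem_filter.1 hp'
          obtain ⟨hpP', hpω'⟩ := mem_filter.1 hp''
          obtain ⟨hpli', hp0'⟩ := (mem_filter.1 hpP').2
          obtain ⟨x'', y'⟩ := p'
          dsimp only at e hpω' hp0' hpli' hpω hp0 hpli hx ⊢
          subst e
          have hx0 : x'' ≠ 0 := hpli.ne_zero 0
          obtain ⟨s, rfl⟩ := partner_unique H h2 hx0 hp0 hp0'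
            (fun t et => (LinearIndependent.pair_iff' hx0).1 hpli t et.symm) hpω hpω'
          exact mem_image.2 ⟨s, mem_erase.2 ⟨fun es => hpli'.ne_zero 1 (by simp [es]),
            mem_univ _⟩, rfl⟩
        · rw [Finset.card_erase_of_mem (mem_univ _), card_univ]
      · push Not at he
        rw [Finset.filter_eq_empty_iff.2 fun p hp => he p hp, Finset.card_empty]
        exact Nat.zero_le _
  by_contra hlt
  rw [not_le] at hlt
  have hn := H.small
  rw [h4, ← hq] at hn
  have h1 : (q ^ 4 - 1) * ((q ^ 3 - q) * (q + 1)) ≤ (q ^ 4 - 1) * (Fintype.card Ω * (q - 1)) := by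
    calc _ = (q ^ 4 - 1) * (q ^ 3 - q) * (q + 1) := by ring
      _ ≤ P.card * (pureSet (Ω := Ω) hA u a).card := Nat.mul_le_mul hlow hlt
      _ ≤ _ := hdc
      _ = _ := by ring
  have h5 : 1 < q ^ 4 := Nat.one_lt_pow (by norm_num) (by omega)
  have h6 := Nat.le_of_mul_le_mul_left h1 (by omega)
  obtain ⟨T, hT⟩ : ∃ T, q ^ 3 = q + T :=
    ⟨q ^ 3 - q, by have : q ≤ q ^ 3 := Nat.le_self_pow (by norm_num) q; omega⟩
  rw [hT, Nat.add_sub_cancel_left] at h6
  have e : q * (q + 1) + T * (q + 1) = q ^ 4 + q ^ 3 := by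
    rw [← add_mul, ← hT]; ring
  have e2 : q * (q + 1) ≤ q ^ 3 := by
    rw [show q ^ 3 = q * (q * q) by ring]; exact Nat.mul_le_mul_left _ (by nlinarith)
  omega

/-- The element with parameters `p` in the product of two commuting root groups. -/
def root2 (hA : B.IsAlt) (u a : V) (p : F × F) : isomGroup B := tv hA u p.1 * tv hA a p.2

theorem tv_comm {u a : V} (hua : B u a = 0) (x y : F) :
    tv hA u x * tv hA a y = tv hA a y * tv hA u x := by
  have h : (tv hA u x).1 a = a := by simp [alt_zero_symm hA hua]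
  rw [← mul_inv_eq_iff_eq_mul, conj_tv, h]

theorem root2_mul {u a : V} (hua : B u a = 0) (p p' : F × F) :
    root2 hA u a p * root2 hA u a p' = root2 hA u a (p + p') := by
  simp only [root2, Prod.fst_add, Prod.snd_add, ← tv_mul]
  rw [mul_assoc, ← mul_assoc (tv hA a p.2), ← tv_comm hua, mul_assoc, mul_assoc]

theorem root2_zero {u a : V} : root2 hA u a (0, 0) = 1 := by simp [root2, tv_zero]

/-- The parameters of the product of two root groups fixing `ω`. -/
def rootStab (hA : B.IsAlt) {u a : V} (hua : B u a = 0) (ω : Ω) : AddSubgroup (F × F) where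
  carrier := {p | root2 hA u a p • ω = ω}
  zero_mem' := by
    show root2 hA u a (0, 0) • ω = ω
    rw [root2_zero, one_smul]
  add_mem' {p p'} hp hp' := by
    show root2 hA u a (p + p') • ω = ω
    rw [← root2_mul hua]
    exact mul_fix hp hp'
  neg_mem' {p} hp := by
    show root2 hA u a (-p) • ω = ω
    have e : root2 hA u a p * root2 hA u a (-p) = 1 := by
      rw [root2_mul hua, add_neg_cancel]; exact root2_zero
    rw [← inv_eq_of_mul_eq_one_right e]
    exact inv_fix hp

theorem mem_rootStab {u a : V} {hua : B u a = 0} {ω : Ω} {p : F × F} :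
    p ∈ rootStab hA hua ω ↔ root2 hA u a p • ω = ω := Iff.rfl

/-- The orbit of the product of two root groups. -/
noncomputable def rootOrb (hA : B.IsAlt) (u a : V) (ω : Ω) : Finset Ω := by
  classical exact (univ : Finset (F × F)).image fun p => root2 hA u a p • ω

theorem card_rootOrb {u a : V} (hua : B u a = 0) (ω : Ω) :
    (rootOrb hA u a ω).card * Nat.card (rootStab hA hua ω) = Fintype.card F ^ 2 := by
  classical
  have e : Fintype.card F ^ 2 = (univ : Finset (F × F)).card := by
    rw [card_univ, Fintype.card_prod, sq]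
  rw [e, Finset.card_eq_sum_card_fiberwise (f := fun p => root2 hA u a p • ω)
    (t := rootOrb hA u a ω) (fun p _ => mem_image.2 ⟨p, mem_univ _, rfl⟩), ← smul_eq_mul,
    ← Finset.sum_const]
  refine Finset.sum_congr rfl fun ν hν => ?_
  obtain ⟨p, -, rfl⟩ := mem_image.1 hν
  rw [Nat.card_eq_fintype_card, Fintype.card_subtype]
  refine Finset.card_bij' (fun r _ => p + r) (fun r _ => -p + r) ?_ ?_
    (fun r _ => neg_add_cancel_left p r) (fun r _ => add_neg_cancel_left p r)
  · intro r hr
    simp only [mem_filter, mem_univ, true_and, mem_rootStab] at hr ⊢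
    rw [← root2_mul hua, mul_smul, hr]
  · intro r hr
    simp only [mem_filter, mem_univ, true_and, mem_rootStab] at hr ⊢
    rw [← root2_mul hua, mul_smul, hr, ← mul_smul, root2_mul hua, neg_add_cancel,
      show (0 : F × F) = (0, 0) from rfl, root2_zero, one_smul]

theorem rootStab_of_mem {u a : V} (hua : B u a = 0) {ω ν : Ω} (h : ν ∈ rootOrb hA u a ω) :
    rootStab hA hua ν = rootStab hA hua ω := by
  classical
  obtain ⟨p, -, rfl⟩ := mem_image.1 h
  ext r
  simp only [mem_rootStab]
  rw [← mul_smul, root2_mul hua, add_comm, ← root2_mul hua, mul_smul, smul_left_cancel_iff]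

theorem rootOrb_subset {u a : V} (hua : B u a = 0) {ω : Ω} (h : ω ∈ pureSet hA u a) :
    rootOrb hA u a ω ⊆ pureSet hA u a := by
  classical
  intro ν hν
  obtain ⟨p, -, rfl⟩ := mem_image.1 hν
  have hau := alt_zero_symm hA hua
  have := pureSet_move (root2 hA u a p) h
  rwa [show (root2 hA u a p).1 u = u by simp [root2, hA u, hua],
    show (root2 hA u a p).1 a = a by simp [root2, hA a, hau]] at this

theorem le_card_of_tags {β : Type*} (S : Finset Ω) (f : Ω → β) (T : Finset β) (L : ℕ)
    (h : ∀ τ ∈ T, ∃ O : Finset Ω, O ⊆ S ∧ L ≤ O.card ∧ ∀ x ∈ O, f x = τ) :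
    T.card * L ≤ S.card := by
  classical
  rw [← smul_eq_mul, ← Finset.sum_const]
  refine le_trans (Finset.sum_le_sum (g := fun τ => (S.filter fun x => f x = τ).card)
    fun τ hτ => ?_) ?_
  · obtain ⟨O, hO, hL, hf⟩ := h τ hτ
    exact hL.trans (Finset.card_le_card fun x hx => mem_filter.2 ⟨hO hx, hf x hx⟩)
  · rw [← Finset.card_biUnion]
    · exact Finset.card_le_card fun x hx => by
        obtain ⟨τ, -, hx⟩ := mem_biUnion.1 hx
        exact (mem_filter.1 hx).1
    · intro x _ y _ hxy
      simp only [Function.onFun, Finset.disjoint_left, mem_filter]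
      exact fun p hp hp' => hxy (hp.2.symm.trans hp'.2)

theorem exists_two_pairs (H : Small hA Ω) {u a : V} (hu0 : u ≠ 0) (hua : B u a = 0)
    (hat : ∀ t : F, a ≠ t • u) : ∃ u' a', B u u' = 1 ∧ B a a' = 1 ∧ B a u' = 0 ∧ B u a' = 0 ∧
      B u' a' = 0 := by
  obtain ⟨z, hz, haz⟩ := exists_perp_not_orth H.nd.2 (W := Submodule.span F ({u} : Set V))
    (x := a) (fun hmem => by
      obtain ⟨t, ht⟩ := Submodule.mem_span_singleton.1 hmem
      exact hat t ht.symm)
  have huz : B u z = 0 := mem_perp_span.1 hz u rfl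
  set a₂ := (B a z)⁻¹ • z
  have h1 : B u a₂ = 0 := by simp [a₂, huz]
  have h2 : B a a₂ = 1 := by simp [a₂, haz]
  obtain ⟨v, hv⟩ := alt_exists_partner H.nd.1 hu0
  refine ⟨v - B a v • a₂, a₂ + B (v - B a v • a₂) a₂ • u, ?_, ?_, ?_, ?_, ?_⟩
  · simp [hv, h1]
  · simp [h2, alt_zero_symm hA hua]
  · simp [h2]
  · simp [h1, hA u]
  · simp [h1, hA a₂, alt_swap hA v u, hv, alt_zero_symm hA h1]

theorem exists_torus_move (H : Small hA Ω) {u a : V} (hu0 : u ≠ 0) (hua : B u a = 0)
    (hat : ∀ t : F, a ≠ t • u) {l r : F} (hl : l ≠ 0) (hr : r ≠ 0) :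
    ∃ g : isomGroup B, g.1 u = l • u ∧ g.1 a = r • a := by
  obtain ⟨u', a', h1, h2, h3, h4, -⟩ := exists_two_pairs H hu0 hua hat
  refine ⟨tor hA h1 hl * tor hA h2 hr, ?_, ?_⟩
  · rw [Subgroup.coe_mul, LinearEquiv.mul_apply, tor_fix h2 hr (alt_zero_symm hA hua) h4,
      tor_left h1 hl]
  · rw [Subgroup.coe_mul, LinearEquiv.mul_apply, tor_left h2 hr, map_smul, tor_fix h1 hl hua h3]

/-- No pure lines between two non-axes in odd characteristic. -/
theorem no_pure (H : Small hA Ω) (h4 : finrank F V = 4) (h2 : (2 : F) ≠ 0) {ω : Ω} {u a : V}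
    (hua : B u a = 0) (hu : ¬ Axis hA ω u) (ha : ¬ Axis hA ω a) (hat : ∀ t : F, a ≠ t • u)
    (hu0 : u ≠ 0) : ¬ ∀ μ : F, rad hA u (μ • a) 0 • ω = ω := by
  classical
  intro hp
  have hω : ω ∈ pureSet hA u a := mem_pureSet.2 ⟨hu, ha, hp⟩
  have hli : LinearIndependent F ![u, a] :=
    (LinearIndependent.pair_iff' hu0).2 fun t e => hat t e.symm
  have hup := pureSet_card_le H h4 h2 (Ω := Ω) hua hli
  set q := Fintype.card F with hq
  have hq3 : 3 ≤ q := H.q3
  set P := rootStab hA hua ω with hPdef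
  have horb := card_rootOrb (hA := hA) hua ω
  rw [← hPdef, ← hq] at horb
  have hg_le := (Finset.card_le_card (rootOrb_subset hua hω)).trans hup
  have hPq : q ≤ Nat.card P := by
    by_contra hlt
    rw [not_le] at hlt
    nlinarith
  have hmemu : ∀ c, (c, (0 : F)) ∈ P ↔ c ∈ Zf hA ω u := fun c => by
    rw [hPdef, mem_rootStab, mem_Zf, root2, tv_zero, mul_one]
  have hmema : ∀ c, ((0 : F), c) ∈ P ↔ c ∈ Zf hA ω a := fun c => by
    rw [hPdef, mem_rootStab, mem_Zf, root2, tv_zero, one_mul]
  have moved : ∀ l r : F, ∀ (hl : l ≠ 0) (hr : r ≠ 0), ∃ ν : Ω, ν ∈ pureSet hA u a ∧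
      ∀ x y : F, (x, y) ∈ rootStab hA hua ν ↔ ((l * l)⁻¹ * x, (r * r)⁻¹ * y) ∈ P := by
    intro l r hl hr
    obtain ⟨g, hgu, hga⟩ := exists_torus_move H hu0 hua hat hl hr
    refine ⟨g • ω, ?_, fun x y => ?_⟩
    · have := pureSet_scale (by simp [hgu, hga, hua]) (inv_ne_zero hl) (inv_ne_zero hr)
        (pureSet_move g hω)
      rwa [hgu, hga, inv_smul_smul₀ hl, inv_smul_smul₀ hr] at this
    · have e : g * root2 hA u a ((l * l)⁻¹ * x, (r * r)⁻¹ * y) * g⁻¹ = root2 hA u a (x, y) := by
        rw [root2, show g * (tv hA u ((l * l)⁻¹ * x) * tv hA a ((r * r)⁻¹ * y)) * g⁻¹ =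
          (g * tv hA u ((l * l)⁻¹ * x) * g⁻¹) * (g * tv hA a ((r * r)⁻¹ * y) * g⁻¹) by group,
          conj_tv, conj_tv, hgu, hga, tv_smul, tv_smul, root2,
          mul_inv_cancel_left₀ (mul_ne_zero hl hl), mul_inv_cancel_left₀ (mul_ne_zero hr hr)]
      rw [mem_rootStab, ← e, hPdef, mem_rootStab, fix_conj]
  by_cases hprod : ∀ p ∈ P, p.2 ∈ Zf hA ω a
  · have hPeq : P = (Zf hA ω u).prod (Zf hA ω a) := by
      ext p
      rw [AddSubgroup.mem_prod]
      refine ⟨fun hp => ⟨(hmemu _).1 ?_, hprod p hp⟩, fun h => ?_⟩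
      · have := P.sub_mem hp ((hmema p.2).2 (hprod p hp))
        convert this using 1
        simp [Prod.ext_iff]
      · have := P.add_mem ((hmemu p.1).2 h.1) ((hmema p.2).2 h.2)
        convert this using 1
        simp
    set T := (scales (Zf hA ω u) ×ˢ scales (Zf hA ω a)).image
      fun p : AddSubgroup F × AddSubgroup F => p.1.prod p.2
    have hT : T.card = (scales (Zf hA ω u)).card * (scales (Zf hA ω a)).card := by
      rw [Finset.card_image_of_injective, Finset.card_product]
      rintro ⟨X, Y⟩ ⟨X', Y'⟩ e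
      dsimp only at e
      refine Prod.ext (AddSubgroup.ext fun x => ?_) (AddSubgroup.ext fun y => ?_)
      · simpa [AddSubgroup.mem_prod] using SetLike.ext_iff.1 e (x, 0)
      · simpa [AddSubgroup.mem_prod] using SetLike.ext_iff.1 e (0, y)
    have hz : (rootOrb hA u a ω).card = (Zf hA ω u).index * (Zf hA ω a).index := by
      refine Nat.eq_of_mul_eq_mul_right (Nat.card_pos (α := P)) (horb.trans ?_)
      rw [hPeq, Nat.card_congr ((Zf hA ω u).prodEquiv (Zf hA ω a)).toEquiv, Nat.card_prod,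
        mul_mul_mul_comm, index_mul_card, index_mul_card, Nat.card_eq_fintype_card, sq]
    have hbound := le_card_of_tags (pureSet (Ω := Ω) hA u a) (fun x => rootStab hA hua x) T
      ((Zf hA ω u).index * (Zf hA ω a).index) ?_
    · rw [hT] at hbound
      have hu' := two_mul_index_scales (Zf_ne_top_iff.2 hu)
      have ha' := two_mul_index_scales (Zf_ne_top_iff.2 ha)
      rw [← hq] at hu' ha'
      nlinarith [Nat.mul_le_mul hu' ha']
    · intro τ hτ
      obtain ⟨⟨X, Y⟩, hXY, rfl⟩ := mem_image.1 hτ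
      obtain ⟨hX, hY⟩ := mem_product.1 hXY
      obtain ⟨l, hl, rfl⟩ := mem_scales.1 hX
      obtain ⟨r, hr, rfl⟩ := mem_scales.1 hY
      obtain ⟨ν, hν, hνP⟩ := moved l r hl hr
      have hνeq : rootStab hA hua ν =
          (scale (l * l) (Zf hA ω u)).prod (scale (r * r) (Zf hA ω a)) := by
        ext ⟨x, y⟩
        rw [hνP, hPeq, AddSubgroup.mem_prod, AddSubgroup.mem_prod,
          mem_scale (mul_ne_zero hl hl), mem_scale (mul_ne_zero hr hr)]
      refine ⟨rootOrb hA u a ν, rootOrb_subset hua hν, le_of_eq ?_,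
        fun x hx => (rootStab_of_mem hua hx).trans hνeq⟩
      have := card_rootOrb (hA := hA) hua ν
      refine (Nat.eq_of_mul_eq_mul_right (Nat.card_pos (α := rootStab hA hua ν))
        (this.trans ?_)).symm
      rw [hνeq, Nat.card_congr (AddSubgroup.prodEquiv _ _).toEquiv, Nat.card_prod,
        mul_mul_mul_comm, ← index_of_scales hX, ← index_of_scales hY, index_mul_card,
        index_mul_card, Nat.card_eq_fintype_card, sq]
  · push Not at hprod
    obtain ⟨p₀, hp₀, hp₀a⟩ := hprod
    -- the parameter `r` is determined up to sign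
    set Sq := ((univ : Finset F).erase 0).image fun r => r * r with hSq
    have hmult : ∀ c : F, c ≠ 0 → (∀ x y : F, (x, y) ∈ P ↔ (x, c⁻¹ * y) ∈ P) → c = 1 := by
      intro c hc hcP
      by_contra hc1
      set R : AddSubgroup F := P.map (AddMonoidHom.snd F F)
      have hZR : Zf hA ω a ≤ R := fun y hy => ⟨(0, y), (hmema y).2 hy, rfl⟩
      have hsub : ∀ y ∈ R, (c⁻¹ - 1) * y ∈ Zf hA ω a := by
        rintro _ ⟨⟨x, y⟩, hxy, rfl⟩
        refine (hmema _).1 ?_
        have := P.sub_mem ((hcP x y).1 hxy) hxy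
        convert this using 1
        refine Prod.ext (sub_self x).symm ?_
        show (c⁻¹ - 1) * y = c⁻¹ * y - y
        ring
      have hle : Nat.card R ≤ Nat.card (Zf hA ω a) :=
        Nat.card_le_card_of_injective (fun y : R => (⟨_, hsub y y.2⟩ : Zf hA ω a)) fun y y' e =>
          Subtype.ext (mul_left_cancel₀ (sub_ne_zero.2 fun e' => hc1 (inv_eq_one.1 e'))
            (congrArg Subtype.val e))
      rw [AddSubgroup.eq_of_le_of_card_ge hZR hle] at hp₀a
      exact hp₀a ⟨p₀, hp₀, rfl⟩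
    have hgt : 1 < (rootOrb hA u a ω).card := by
      by_contra hle'
      have : (rootOrb hA u a ω).card = 1 := le_antisymm (by omega)
        (Finset.card_pos.2 ⟨ω, mem_image.2 ⟨(0, 0), mem_univ _, by rw [root2_zero, one_smul]⟩⟩)
      rw [this, one_mul] at horb
      have htop : P = ⊤ := AddSubgroup.eq_top_of_card_eq _ (by
        rw [horb, Nat.card_prod, Nat.card_eq_fintype_card, sq])
      exact hu (axis_iff.2 ((AddSubgroup.eq_top_iff' _).2 fun c =>
        (hmemu c).1 (htop ▸ AddSubgroup.mem_top _)))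
    have hg3 : 3 ≤ (rootOrb hA u a ω).card := by
      obtain ⟨p, f, hp, -, hqp⟩ := exists_prime_pow F
      have hodd : p ≠ 2 := by
        rintro rfl
        refine h2 ?_
        have : ((Fintype.card F : ℕ) : F) = 0 := FiniteField.cast_card_eq_zero F
        rw [hqp] at this
        push_cast at this
        exact pow_eq_zero_iff'.1 this |>.1
      have hdvd : (rootOrb hA u a ω).card ∣ p ^ (f * 2) := by
        rw [pow_mul, ← hqp, ← hq, ← horb]; exact dvd_mul_right _ _
      obtain ⟨i, -, hi⟩ := (Nat.dvd_prime_pow hp).1 hdvd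
      rw [hi] at hgt ⊢
      have hi0 : i ≠ 0 := fun e => by simp [e] at hgt
      have := Nat.le_self_pow hi0 p
      have := hp.two_le
      omega
    set T := Sq.image fun c => P.map ((AddMonoidHom.id F).prodMap (AddMonoidHom.mulLeft c)) with hT
    have hmemT : ∀ c : F, c ≠ 0 → ∀ x y : F,
        (x, y) ∈ P.map ((AddMonoidHom.id F).prodMap (AddMonoidHom.mulLeft c)) ↔
          (x, c⁻¹ * y) ∈ P := by
      intro c hc x y
      constructor
      · rintro ⟨⟨x', y'⟩, hxy, e⟩
        obtain ⟨rfl, rfl⟩ := Prod.ext_iff.1 e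
        simpa [hc] using hxy
      · intro hxy
        exact ⟨(x, c⁻¹ * y), hxy, by simp [hc]⟩
    have hTc : T.card = Sq.card := by
      rw [hT, Finset.card_image_of_injOn]
      intro c hc d hd e
      simp only at e
      obtain ⟨r, hr, rfl⟩ := mem_image.1 hc
      obtain ⟨s, hs, rfl⟩ := mem_image.1 hd
      have hr0 := mul_ne_zero (mem_erase.1 hr).1 (mem_erase.1 hr).1
      have hs0 := mul_ne_zero (mem_erase.1 hs).1 (mem_erase.1 hs).1
      have h1 := hmult (s * s / (r * r)) (div_ne_zero hs0 hr0) fun x y => by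
        have a1 := hmemT _ hr0 x (r * r * y)
        rw [inv_mul_cancel_left₀ hr0] at a1
        rw [← a1, e, hmemT _ hs0]
        constructor <;> intro hh <;> convert hh using 2 <;> field_simp
      exact (((div_eq_one_iff_eq hr0).1 h1)).symm
    have hSqc : q - 1 ≤ 2 * Sq.card := by
      rw [hq, ← Finset.card_univ, ← Finset.card_erase_of_mem (mem_univ (0 : F))]
      refine Finset.card_le_mul_card_image _ _ fun e _ => card_sqrt_le_two _ e fun r hr => ?_
      exact (mem_filter.1 hr).2
    have hbound := le_card_of_tags (pureSet (Ω := Ω) hA u a) (fun x => rootStab hA hua x) T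
      (rootOrb hA u a ω).card ?_
    · rw [hTc] at hbound
      have hq4 := H.exc h4
      have hqodd : q % 2 = 1 := by
        obtain ⟨p, f, hp, hf, hqp⟩ := exists_prime_pow F
        rcases hp.eq_two_or_odd with rfl | hp2
        · refine absurd ?_ h2
          have : ((Fintype.card F : ℕ) : F) = 0 := FiniteField.cast_card_eq_zero F
          rw [hqp] at this
          push_cast at this
          exact pow_eq_zero_iff'.1 this |>.1
        · rw [hq, hqp, Nat.pow_mod, hp2, one_pow, Nat.one_mod]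
      have := Nat.mul_le_mul_left Sq.card hg3
      omega
    · intro τ hτ
      obtain ⟨c, hc, rfl⟩ := mem_image.1 hτ
      obtain ⟨r, hr, rfl⟩ := mem_image.1 hc
      have hr0 := (mem_erase.1 hr).1
      obtain ⟨ν, hν, hνP⟩ := moved 1 r one_ne_zero hr0
      have hνeq : rootStab hA hua ν =
          P.map ((AddMonoidHom.id F).prodMap (AddMonoidHom.mulLeft (r * r))) := by
        ext ⟨x, y⟩
        rw [hνP, hmemT _ (mul_ne_zero hr0 hr0)]
        simp
      refine ⟨rootOrb hA u a ν, rootOrb_subset hua hν, le_of_eq ?_,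
        fun x hx => (rootStab_of_mem hua hx).trans hνeq⟩
      have h1 := card_rootOrb (hA := hA) hua ν
      have hc' : Nat.card (rootStab hA hua ν) = Nat.card P := by
        rw [hνeq]
        refine (Nat.card_congr (AddSubgroup.equivMapOfInjective _ _ fun p p' e => ?_).toEquiv).symm
        obtain ⟨e1, e2⟩ := Prod.ext_iff.1 e
        exact Prod.ext e1 (mul_left_cancel₀ (mul_ne_zero hr0 hr0) e2)
      rw [hc', ← horb] at h1
      exact (Nat.eq_of_mul_eq_mul_right Nat.card_pos h1).symm

end CfsgLib.KnownA.MinIndexSymp
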