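import Cfsg.Agent.Lib.KnownA.MinIndexSymp.Four
import Cfsg.Agent.Lib.Classical.SympMatrixSimple

/-!
# The minimal index of a proper subgroup of `PSp`
-/

set_option autoImplicit false

open Module MulAction CfsgLib.Classical

namespace CfsgLib.KnownA.MinIndexSymp

variable {F : Type*} [Field F] [Fintype F] {m : ℕ}

/-- The projection of the isometry group onto `PSp`. -/
noncomputable def toPSp (F : Type*) [Field F] (m : ℕ) : isomGroup (sympBil F m) →* Cfsg.PSp m F :=
  (QuotientGroup.mk' (Subgroup.center (Matrix.symplecticGroup (Fin m) F))).comp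
    (spEquiv m).symm.toMonoidHom

theorem toPSp_surjective : Function.Surjective (toPSp F m) :=
  (QuotientGroup.mk'_surjective _).comp (spEquiv m).symm.surjective

theorem finrank_symp : finrank F (Fin m ⊕ Fin m → F) = 2 * m := by
  rw [Module.finrank_fintype_fun_eq_card, Fintype.card_sum, Fintype.card_fin, two_mul]

/-- Every proper subgroup has index at least the number of points. -/
theorem index_ge (hm : 2 ≤ m) (hq : 3 ≤ Fintype.card F) (hexc : ¬ (m = 2 ∧ Fintype.card F = 3))
    (H : Subgroup (Cfsg.PSp m F)) (hH : H ≠ ⊤) :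
    (Fintype.card F ^ (2 * m) - 1) / (Fintype.card F - 1) ≤ H.index := by
  classical
  have : Finite (isomGroup (sympBil F m)) := Finite.of_equiv _ (spEquiv m).toEquiv
  have : Finite (Cfsg.PSp m F) := Finite.of_surjective _ (toPSp_surjective (F := F) (m := m))
  letI : Fintype (Cfsg.PSp m F ⧸ H) := Fintype.ofFinite _
  letI : MulAction (isomGroup (sympBil F m)) (Cfsg.PSp m F ⧸ H) :=
    MulAction.compHom _ (toPSp F m)
  by_contra hlt
  rw [not_le] at hlt
  have hsmall : Small (sympBil_isAlt (F := F) m) (Cfsg.PSp m F ⧸ H) := by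
    refine ⟨sympBil_nondegenerate m, hq, by rw [finrank_symp]; omega, fun h4 => ?_, ?_, ?_⟩
    · rw [finrank_symp] at h4
      omega
    · rw [finrank_symp, ← Nat.card_eq_fintype_card, ← Subgroup.index_eq_card]
      have h1 := (Nat.le_div_iff_mul_le (by omega)).1 (Nat.succ_le_of_lt hlt)
      rw [Nat.succ_mul] at h1
      have h2 : 1 ≤ Fintype.card F ^ (2 * m) := Nat.one_le_pow _ _ (by omega)
      omega
    · intro ω ν
      obtain ⟨g, hg⟩ := MulAction.exists_smul_eq (Cfsg.PSp m F) ω ν
      obtain ⟨k, rfl⟩ := toPSp_surjective (F := F) (m := m) g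
      exact ⟨k, hg⟩
  exact hH (QuotientGroup.subgroup_eq_top_of_subsingleton H (subsingleton_of_small hsmall))

/-- The stabiliser of a point attains the bound. -/
theorem exists_index (hm : 1 ≤ m) :
    ∃ H : Subgroup (Cfsg.PSp m F),
      H.index = (Fintype.card F ^ (2 * m) - 1) / (Fintype.card F - 1) := by
  classical
  have : Finite (isomGroup (sympBil F m)) := Finite.of_equiv _ (spEquiv m).toEquiv
  let p : Projectivization F (Fin m ⊕ Fin m → F) :=
    Projectivization.mk F (Pi.single (Sum.inl ⟨0, by omega⟩) (1 : F)) (by simp)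
  have := isom_pretransitive (sympBil_isAlt (F := F) m) (sympBil_nondegenerate m)
  refine ⟨(stabilizer (isomGroup (sympBil F m)) p).map (toPSp F m), ?_⟩
  rw [Subgroup.index_map_eq _ toPSp_surjective, MulAction.index_stabilizer_of_transitive,
    Projectivization.card_of_finrank F _ (finrank_symp (F := F) (m := m)),
    Nat.card_eq_fintype_card, Nat.geomSum_eq Fintype.one_lt_card]
  intro g hg
  rw [MonoidHom.mem_ker, toPSp, MonoidHom.comp_apply, QuotientGroup.mk'_apply,
    QuotientGroup.eq_one_iff] at hg
  have hc : g ∈ Subgroup.center (isomGroup (sympBil F m)) := by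
    refine Subgroup.mem_center_iff.2 fun k => (spEquiv m).symm.injective ?_
    rw [map_mul, map_mul]
    exact Subgroup.mem_center_iff.1 hg _
  rw [mem_stabilizer_iff]
  show g • Projectivization.mk F _ _ = _
  rw [isom_smul_mk, Projectivization.mk_eq_mk_iff']
  rcases center_isom_apply (sympBil_isAlt m) (sympBil_nondegenerate m).1 hc with h | h
  · exact ⟨1, by rw [h, one_smul]⟩
  · exact ⟨-1, by rw [h, neg_one_smul]⟩

end CfsgLib.KnownA.MinIndexSymp
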