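import Cfsg.Agent.Lib.KnownA.MinIndexSymp.Basic
import Cfsg.Agent.Lib.KnownA.MinIndexSymp.Arith

/-!
# The image of a stabiliser is trivial, everything, or a pure line in dimension four
-/

set_option autoImplicit false
set_option linter.unusedSectionVars false

open Module MulAction CfsgLib.Classical Finset

namespace CfsgLib.KnownA.MinIndexSymp

variable {F : Type*} [Field F] {V : Type*} [AddCommGroup V] [Module F V] [FiniteDimensional F V]
  {B : V →ₗ[F] V →ₗ[F] F} {Ω : Type*} [MulAction (isomGroup B) Ω] {hA : B.IsAlt}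
  [Fintype F] [Fintype Ω] {u v : V}

theorem orb_eq_mul {ω : Ω} {r : ℕ}
    (hr : r * Nat.card (Kbar hA u v ω) = Nat.card (Wsp B u v)) :
    (orb hA u v ω).card = r * (Zf hA ω u).index := by
  have h1 := card_orb (hA := hA) (u := u) (v := v) ω
  rw [← hr, mul_right_comm] at h1
  exact Nat.eq_of_mul_eq_mul_right Nat.card_pos h1

theorem card_Kbar_dvd (ω : Ω) :
    Nat.card (Kbar hA u v ω) ∣ Fintype.card F ^ finrank F (Wsp B u v) := by
  rw [← natCard_Wsp (B := B)]
  exact AddSubgroup.card_addSubgroup_dvd_card _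

theorem exists_indep_or_line (K : AddSubgroup (Wsp B u v)) :
    (∃ a ∈ K, ∃ b ∈ K, LinearIndependent F ![a, b]) ∨ ∃ a, ∀ x ∈ K, ∃ t : F, x = t • a := by
  rcases AddSubgroup.bot_or_exists_ne_zero K with hK | ⟨a, ha, ha0⟩
  · exact Or.inr ⟨0, fun x hx => ⟨0, by rw [hK, AddSubgroup.mem_bot] at hx; rw [hx, smul_zero]⟩⟩
  · by_cases hl : ∀ x ∈ K, ∃ t : F, x = t • a
    · exact Or.inr ⟨a, hl⟩
    · push Not at hl
      obtain ⟨b, hb, hne⟩ := hl
      exact Or.inl ⟨a, ha, b, hb, (LinearIndependent.pair_iff' ha0).2 fun t e => hne t e.symm⟩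

theorem card_le_of_line {K : AddSubgroup (Wsp B u v)} {a : Wsp B u v}
    (hl : ∀ x ∈ K, ∃ t : F, x = t • a) : Nat.card K ≤ Fintype.card F := by
  rw [← Nat.card_eq_fintype_card]
  choose t ht using fun x : K => hl x x.2
  exact Nat.card_le_card_of_injective t fun x y e => Subtype.ext (by rw [ht x, ht y, e])

theorem smul_mem_of_line {K : AddSubgroup (Wsp B u v)} {a : Wsp B u v}
    (hl : ∀ x ∈ K, ∃ t : F, x = t • a) (hc : Nat.card K = Fintype.card F) (s : F) :
    s • a ∈ K := by
  choose t ht using fun x : K => hl x x.2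
  have hb : Function.Bijective t := (Nat.bijective_iff_injective_and_card t).2
    ⟨fun x y e => Subtype.ext (by rw [ht x, ht y, e]), by rw [hc, Nat.card_eq_fintype_card]⟩
  obtain ⟨x, hx⟩ := hb.2 s
  rw [← hx, ← ht x]
  exact x.2

theorem eq_smul_of_dim_two (hA : B.IsAlt) (hN : B.Nondegenerate) (h : B u v = 1)
    (h4 : finrank F V = 4) {w : Wsp B u v} (hw : w ≠ 0) {x : Wsp B u v}
    (hx : B (x : V) (w : V) = 0) : ∃ t : F, x = t • w := by
  have hAW := restrictForm_isAlt hA (Wsp B u v)
  obtain ⟨w', hw'⟩ := alt_exists_partner (Wsp_nondeg hA hN h).1 hw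
  have hd := finrank_Wsp (v := v) hA h
  have htop : Submodule.span F ({w, w'} : Set (Wsp B u v)) = ⊤ :=
    Submodule.eq_top_of_finrank_eq (by rw [finrank_pair hAW hw']; omega)
  obtain ⟨s, t, rfl⟩ := Submodule.mem_span_pair.1 (htop ▸ Submodule.mem_top : x ∈ _)
  rw [restrictForm_apply] at hw'
  refine ⟨s, ?_⟩
  have ht : t = 0 := by
    have hx' := alt_zero_symm hA hx
    simpa [hA (w : V), hw'] using hx'
  rw [ht, zero_smul, add_zero]

/-- An isometry preserving the image keeps the invariant. -/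
theorem inv2_eq_of_stable (g : isomGroup B) (hu : g.1 u = u) (hv : g.1 v = v) {ω : Ω}
    (hst : ∀ w ∈ Kbar hA u v ω, onW g hu hv w ∈ Kbar hA u v ω) :
    inv2 hA u v (g • ω) = inv2 hA u v ω := by
  refine Prod.ext (Zf_move g hu ω) ?_
  show Kbar hA u v (g • ω) = Kbar hA u v ω
  have hb : Function.Bijective (fun w : Kbar hA u v ω => (⟨_, hst w w.2⟩ : Kbar hA u v ω)) := by
    refine Finite.injective_iff_bijective.1 fun a b e => ?_
    have e' : g.1 ((a : Wsp B u v) : V) = g.1 ((b : Wsp B u v) : V) :=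
      congrArg (fun z : Kbar hA u v ω => ((z : Wsp B u v) : V)) e
    exact Subtype.ext (Subtype.ext (g.1.injective e'))
  refine (AddSubgroup.eq_of_le_of_card_ge (fun w hw => ?_)
    (le_of_eq (card_Kbar_move g hu hv ω))).symm
  obtain ⟨w₀, hw₀⟩ := hb.2 ⟨w, hw⟩
  rw [← show onW g hu hv (w₀ : Wsp B u v) = w from congrArg Subtype.val hw₀]
  exact mem_Kbar_move g hu hv w₀.2

/-- A second orbit with the same invariant doubles all fibres. -/
theorem two_orb_le_fibre {ω ω' : Ω} (e : inv2 hA u v ω' = inv2 hA u v ω)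
    (hne : ω' ∉ orb hA u v ω) :
    ∀ τ ∈ cls hA u v ω, 2 * (orb hA u v ω).card ≤ (pts (inv2 (Ω := Ω) hA u v) {τ}).card := by
  intro τ hτ
  refine le_trans ?_ (fibre_cls hτ)
  have h1 := orb_add_orb_le (f := inv2 (Ω := Ω) hA u v) (τ := inv2 hA u v ω) inv2_of_mem rfl e hne
  rw [inv2, inv2, Prod.mk.injEq] at e
  rw [card_orb_cls (ω₀ := ω) (ω := ω') (by rw [e.1]; exact self_mem_scales _) (by rw [e.2])] at h1
  omega

theorem sub_mem_Zf {ω : Ω} {w : V} (hw : B u w = 0) {c c' : F}
    (h1 : rad hA u w c • ω = ω) (h2 : rad hA u w c' • ω = ω) : c' - c ∈ Zf hA ω u := by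
  rw [show c' = c + (c' - c) by ring, ← rad_mul_tv hw, mul_smul] at h2
  rw [mem_Zf]
  exact smul_left_cancel _ (h2.trans h1.symm)

theorem fix_add_Zf {ω : Ω} {w : V} (hw : B u w = 0) {c z : F}
    (h1 : rad hA u w c • ω = ω) (hz : z ∈ Zf hA ω u) : rad hA u w (c + z) • ω = ω := by
  rw [← rad_mul_tv hw, mul_smul, mem_Zf.1 hz, h1]

theorem fix_of_X {ω : Ω} {p : Wsp B u v × F} {w : V} (hw : B u w = 0) {c : F}
    (h : rad hA u w c • X hA u v p • ω = X hA u v p • ω) :
    rad hA u w (c - 2 * B w (p.1 : V)) • ω = ω := by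
  rw [← fix_conj (X hA u v p), X, rad_conj_rad (Wsp_left p.1) hw, sub_add_cancel]
  exact h

theorem Conj.step {ω₀ ω : Ω} (hc : Conj hA u v ω₀ ω) (g : isomGroup B) (hu : g.1 u = u)
    (hv : g.1 v = v) : Conj hA u v ω₀ (g • ω) := by
  obtain ⟨h, lam, hl, g', hu', hv', rfl⟩ := hc
  refine ⟨h, lam, hl, g * g', ?_, ?_, mul_smul _ _ _⟩
  · rw [Subgroup.coe_mul, LinearEquiv.mul_apply, hu', hu]
  · rw [Subgroup.coe_mul, LinearEquiv.mul_apply, hv', hv]

theorem Conj.line {ω₀ ω : Ω} (hc : Conj hA u v ω₀ ω) {a : Wsp B u v}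
    (hl : ∀ x ∈ Kbar hA u v ω, ∃ t : F, x = t • a) :
    ∃ b : Wsp B u v, ∀ x ∈ Kbar hA u v ω₀, ∃ t : F, x = t • b := by
  obtain ⟨h, lam, hlam, g, hu, hv, rfl⟩ := hc
  obtain ⟨hu', hv', -⟩ := onW_inv g hu hv
  refine ⟨onW g⁻¹ hu' hv' a, fun x hx => ?_⟩
  obtain ⟨t, ht⟩ := hl _ (mem_Kbar_move g hu hv (mem_Kbar_tor h hlam hx))
  refine ⟨lam⁻¹ * t, Subtype.ext ?_⟩
  have ht' : g.1 (lam • (x : V)) = t • (a : V) := congrArg Subtype.val ht
  have h2 : lam • (x : V) = t • (g⁻¹ : isomGroup B).1 (a : V) := by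
    rw [← map_smul (g⁻¹ : isomGroup B).1, ← ht', inv_apply_self]
  show (x : V) = (lam⁻¹ * t) • (g⁻¹ : isomGroup B).1 (a : V)
  rw [← smul_smul, ← h2, inv_smul_smul₀ hlam]

/-- In characteristic two the transvection count is large. -/
theorem hz_two (h2 : (2 : F) = 0) {ω : Ω} (hax : ¬ Axis hA ω u) :
    Fintype.card F + 2 ≤ (Zf hA ω u).index * (scales (Zf hA ω u)).card ∨
      (Fintype.card F ≤ (Zf hA ω u).index * (scales (Zf hA ω u)).card ∧
        (Zf hA ω u).index = Fintype.card F) := by
  have hne := Zf_ne_top_iff.2 hax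
  by_cases hZ : Zf hA ω u = ⊥
  · exact Or.inr ⟨q_le_index_scales h2 hne, index_bot_scales _ hZ⟩
  · exact Or.inl (index_scales_of_two h2 hne hZ)

theorem not_small_perp (H : Small hA Ω) (h : B u v = 1) {ω : Ω} (hax : ¬ Axis hA ω u)
    {ψ : AddChar F ℂ} (hψ : ∃ x, ψ x ≠ 1)
    (h2r : 2 ≤ Nat.card (charPerp ψ (Kbar hA u v ω)))
    (hlt : Nat.card (charPerp ψ (Kbar hA u v ω)) < Fintype.card F) : False := by
  set r := Nat.card (charPerp ψ (Kbar hA u v ω)) with hr
  have hrk := card_charPerp hA H.nd h hψ (Kbar hA u v ω)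
  rw [← hr] at hrk
  have hq2 := H.sq_le_W h
  have h2 : (2 : F) = 0 := by
    by_contra h2
    have hiso := isotropic_card hA H.nd h h2 hax
    rw [← hrk] at hiso
    have hkr : Nat.card (Kbar hA u v ω) ≤ r := Nat.le_of_mul_le_mul_right hiso Nat.card_pos
    rw [← hrk] at hq2
    nlinarith
  have hdvd : r ∣ Fintype.card F ^ finrank F (Wsp B u v) := by
    rw [← natCard_Wsp, ← hrk]; exact dvd_mul_right _ _
  have hcov := cover_le_one hA H.nd h (natural_charPerp ψ) (ω₀ := ω) (m := r)
    (fun ω' e => Nat.eq_of_mul_eq_mul_right (Nat.card_pos (α := Kbar hA u v ω))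
      (by rw [hrk, ← e, card_charPerp hA H.nd h hψ])) h2r
    (L := (orb hA u v ω).card) (fun τ hτ => orb_le_fibre hτ)
  rw [orb_eq_mul hrk] at hcov
  refine false_perp (C := (scales (Zf hA ω u)).card) H.q3 hq2 (H.smallW h) h2r
    (hcov.trans (Nat.mul_le_mul_right _ (Finset.card_le_univ _))) ?_
  exact (hz_two h2 hax).imp_right fun h' => ⟨h'.1, two_mul_le_of_lt hdvd hlt⟩

theorem not_mid_big (H : Small hA Ω) (h : B u v = 1) {ω : Ω} (hax : ¬ Axis hA ω u)
    {ψ : AddChar F ℂ} (hψ : ∃ x, ψ x ≠ 1) (h6 : 6 ≤ finrank F V)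
    (hk2 : 2 ≤ Nat.card (Kbar hA u v ω))
    (hr : Fintype.card F ≤ Nat.card (charPerp ψ (Kbar hA u v ω))) : False := by
  classical
  set q := Fintype.card F with hqdef
  have hq3 : 3 ≤ q := H.q3
  set K := Kbar hA u v ω with hK
  set k := Nat.card K with hk
  set r := Nat.card (charPerp ψ K) with hr'
  have hrk : r * k = Nat.card (Wsp B u v) := card_charPerp hA H.nd h hψ K
  have hd := finrank_Wsp (v := v) hA h
  obtain ⟨e, he⟩ : ∃ e, finrank F (Wsp B u v) = e + e := by
    obtain ⟨j, hj⟩ := H.finrank_even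
    exact ⟨j - 1, by omega⟩
  have he2 : 2 ≤ e := by omega
  have hQ : Nat.card (Wsp B u v) = q ^ e * q ^ e := by rw [natCard_Wsp, he, pow_add]
  have hQ4 : q ^ 4 ≤ Nat.card (Wsp B u v) := by
    rw [natCard_Wsp, he]; exact Nat.pow_le_pow_right (by have := H.q3; omega) (by omega)
  have hQq : Nat.card (Wsp B u v) = q * q ^ (finrank F (Wsp B u v) - 1) := by
    rw [natCard_Wsp, ← pow_succ']; congr 1; omega
  have hse : q ^ 2 ≤ q ^ e := Nat.pow_le_pow_right (by have := H.q3; omega) he2
  have hne := Zf_ne_top_iff.2 hax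
  have hz2 := two_le_index hne
  have hn := H.smallW h
  have hL := orb_eq_mul (hA := hA) hrk
  have hz := two_mul_index_scales hne
  have hcard : ∀ ω' : Ω, Nat.card (Kbar hA u v ω') = k →
      Nat.card (charPerp ψ (Kbar hA u v ω')) = r := fun ω' e' =>
    Nat.eq_of_mul_eq_mul_right (by omega : 0 < k) (by
      rw [hrk, ← e', card_charPerp hA H.nd h hψ])
  by_cases hks : k ≤ q ^ e
  · rcases exists_indep_or_line K with ⟨a, ha, b, hb, hab⟩ | ⟨a, hline⟩
    · have hp := pairs_le hA H.nd h natural_id (ω₀ := ω) (m := k) (fun ω' e' => e') ha hb hab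
      refine false_pairs H.q3 hn hz2 hQq hQ.symm hse ?_
      refine (Nat.mul_le_mul_right_iff (Nat.card_pos (α := Wsp B u v))).1 ?_
      have h1 := Nat.mul_le_mul_right k hp
      have h3 : k * k * k ≤ q ^ e * Nat.card (Wsp B u v) := by
        rw [hQ, ← mul_assoc]; exact Nat.mul_le_mul (Nat.mul_le_mul hks hks) hks
      rw [hL] at h1
      calc _ = (Nat.card (Wsp B u v) - 1) * (q ^ (finrank F (Wsp B u v) - 1) - q) *
            (r * (Zf hA ω u).index) * k := by rw [← hrk]; ring
        _ ≤ Fintype.card Ω * (k * k) * k := h1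
        _ = Fintype.card Ω * (k * k * k) := by ring
        _ ≤ Fintype.card Ω * (q ^ e * Nat.card (Wsp B u v)) := Nat.mul_le_mul_left _ h3
        _ = _ := by ring
    · have hkq := card_le_of_line hline
      have hc := cover_le_one hA H.nd h natural_id (ω₀ := ω) (m := k) (fun ω' e' => e') hk2
        (L := (orb hA u v ω).card) (fun τ hτ => orb_le_fibre hτ)
      refine false_line_big (C := (scales (Zf hA ω u)).card) (z := (Zf hA ω u).index)
        H.q3 hQ4 hn hkq ?_ hz
      have h1 := Nat.mul_le_mul_right k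
        (hc.trans (Nat.mul_le_mul_right _ (Finset.card_le_univ _)))
      rw [hL] at h1
      calc _ = (scales (Zf hA ω u)).card * (Nat.card (Wsp B u v) - 1) *
            (r * (Zf hA ω u).index) * k := by rw [← hrk]; ring
        _ ≤ _ := h1
        _ = _ := by ring
  · have hrs : r < q ^ e := by
      by_contra hge
      have := Nat.mul_lt_mul_of_le_of_lt (not_lt.1 hge) (not_le.1 hks) (by omega)
      rw [hrk, hQ] at this
      exact lt_irrefl _ this
    rcases exists_indep_or_line (charPerp ψ K) with ⟨a, ha, b, hb, hab⟩ | ⟨a, hline⟩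
    · have hp := pairs_le hA H.nd h (natural_charPerp ψ) (ω₀ := ω) (m := r) hcard ha hb hab
      rw [hL] at hp
      refine false_pairs H.q3 hn hz2 hQq hQ.symm hse ?_
      refine (Nat.mul_le_mul_right_iff (show 0 < r by omega)).1 ?_
      calc _ = (Nat.card (Wsp B u v) - 1) * (q ^ (finrank F (Wsp B u v) - 1) - q) *
            (r * (Zf hA ω u).index) := by ring
        _ ≤ Fintype.card Ω * (r * r) := hp
        _ ≤ Fintype.card Ω * (q ^ e * r) :=
            Nat.mul_le_mul_left _ (Nat.mul_le_mul_right _ hrs.le)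
        _ = _ := by ring
    · have hrq : r = q := le_antisymm (card_le_of_line hline) hr
      have h2 : (2 : F) = 0 := by
        by_contra h2
        exact absurd (isotropic_card hA H.nd h h2 hax) (not_le.2 (by
          rw [hQ]; exact Nat.mul_lt_mul_of_lt_of_lt (not_le.1 hks) (not_le.1 hks)))
      have hc := fun L => cover_le_one hA H.nd h (natural_charPerp ψ) (ω₀ := ω) (m := r) hcard (by omega)
        (L := L)
      have hQ2 := H.sq_le_W h
      rcases hz_two h2 hax with hz' | ⟨-, hz'⟩
      · have hc' := hc (orb hA u v ω).card (fun τ hτ => orb_le_fibre hτ)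
        refine false_line_eq (C := (scales (Zf hA ω u)).card) (L := (orb hA u v ω).card)
          H.q3 hQ2 hn ?_ ?_
        · exact (hc'.trans (Nat.mul_le_mul_right _ (Finset.card_le_univ _))).trans
            (le_of_eq (by rw [hrq]))
        · rw [hL, hrq]
          calc (q + 2) * q ≤ (Zf hA ω u).index * (scales (Zf hA ω u)).card * q :=
                Nat.mul_le_mul_right _ hz'
            _ = _ := by ring
      · -- the image is the orthogonal of a point
        have ha0 : a ≠ 0 := by
          rintro rfl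
          have : Nat.card (charPerp ψ K) ≤ 1 := Finite.card_le_one_iff_subsingleton.2
            ⟨fun x y => Subtype.ext (by
              obtain ⟨t, ht⟩ := hline x x.2
              obtain ⟨s, hs⟩ := hline y y.2
              rw [ht, hs, smul_zero, smul_zero])⟩
          omega
        have hta := smul_mem_of_line hline (by rw [← hr']; exact hrq)
        have hperp : ∀ w ∈ K, B (a : V) (w : V) = 0 := by
          intro w hw
          by_contra hne'
          obtain ⟨x, hx⟩ := hψ
          refine hx ?_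
          have := hta (x / B (a : V) (w : V)) w hw
          rwa [Submodule.coe_smul, map_smul, LinearMap.smul_apply, smul_eq_mul,
            div_mul_cancel₀ _ hne'] at this
        have hKeq : ∀ w : Wsp B u v, B (a : V) (w : V) = 0 → w ∈ K := by
          intro w hw
          let f : Wsp B u v →ₗ[F] F := restrictForm B (Wsp B u v) a
          have hsub : K ≤ (LinearMap.ker f).toAddSubgroup := fun x hx => hperp x hx
          have hf : f ≠ 0 := fun e => ha0 ((Wsp_nondeg hA H.nd h).1 a fun y => by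
            exact LinearMap.congr_fun e y)
          have hcK : Nat.card (LinearMap.ker f).toAddSubgroup ≤ k := by
            have h1 := LinearMap.finrank_range_add_finrank_ker f
            rw [LinearMap.range_eq_top.2 (LinearMap.surjective_iff_ne_zero.2 hf), finrank_top,
              Module.finrank_self] at h1
            show Nat.card (LinearMap.ker f) ≤ k
            rw [Module.natCard_eq_pow_finrank (K := F), Nat.card_eq_fintype_card]
            refine le_of_eq (Nat.eq_of_mul_eq_mul_left (show 0 < q by omega) ?_)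
            rw [← pow_succ', ← hrq, hrk, natCard_Wsp, hrq, ← h1, add_comm]
          rw [AddSubgroup.eq_of_le_of_card_ge hsub hcK]
          exact hw
        obtain ⟨b, hba, hb⟩ : ∃ b : Wsp B u v, B (a : V) (b : V) = 0 ∧ ∀ t : F, b ≠ t • a := by
          by_contra hno
          push Not at hno
          have := card_le_of_line (K := K) (a := a) fun x hx => hno x (hperp x hx)
          have h3 : q ^ 4 ≤ q * q := hQ4.trans (by rw [← hrk, hrq]; exact Nat.mul_le_mul_left _ this)
          have h4 := H.q3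
          have : q ^ 3 ≤ q ^ 4 := Nat.pow_le_pow_right (by omega) (by omega)
          nlinarith
        obtain ⟨c₀, hc₀, hbc⟩ := exists_perp_not_orth (Wsp_nondeg hA H.nd h).2
          (W := Submodule.span F ({a} : Set (Wsp B u v))) (x := b) (fun hmem => by
            obtain ⟨t, ht⟩ := Submodule.mem_span_singleton.1 hmem
            exact hb t ht.symm)
        have hac : B (a : V) (c₀ : V) = 0 := mem_perp_span.1 hc₀ a rfl
        obtain ⟨c, hmove⟩ := exists_move_orbit (ω := ω) h2 H.q3 hax (b := b) (k := c₀)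
          (fun t => hKeq _ (by rw [Submodule.coe_smul, map_smul, hba, smul_zero]))
          (fun t => hKeq _ (by rw [Submodule.coe_smul, map_smul, hac, smul_zero]))
          (fun e' => hbc (alt_zero_symm hA e'))
        set g := tv hA (b : V) c with hg
        have hgu : g.1 u = u := by simp [g, Wsp_left b]
        have hgv : g.1 v = v := by simp [g, Wsp_right b]
        have hstab : ∀ w ∈ K, onW g hgu hgv w ∈ K := fun w hw => hKeq _ (by
          show B (a : V) (g.1 (w : V)) = 0
          simp [g, hperp w hw, hba])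
        have hc' := hc (2 * (orb hA u v ω).card)
          (two_orb_le_fibre (inv2_eq_of_stable g hgu hgv hstab) hmove)
        refine false_line_eq (C := (scales (Zf hA ω u)).card) (L := 2 * (orb hA u v ω).card)
          H.q3 hQ2 hn ?_ ?_
        · exact (hc'.trans (Nat.mul_le_mul_right _ (Finset.card_le_univ _))).trans
            (le_of_eq (by rw [hrq]))
        · rw [hL, hrq, hz']
          have := scales_card_pos (Zf hA ω u)
          calc (q + 2) * q ≤ 1 * (2 * (q * q)) := by
                rw [one_mul, ← mul_assoc]; exact Nat.mul_le_mul_right _ (by have := H.q3; omega)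
            _ ≤ _ := Nat.mul_le_mul_right _ this

theorem pure_line_of_shift (h : B u v = 1) {ω : Ω} {a : Wsp B u v} (ha : a ≠ 0)
    (hline : ∀ x ∈ Kbar hA u v ω, ∃ t : F, x = t • a) {τ : F}
    (hpure : ∀ μ : F, rad hA u (μ • ((a : V) + τ • u)) 0 • ω = ω) : Line hA ω u := by
  refine ⟨(a : V) + τ • u, by simp [Wsp_left a, hA u], fun t e => ha ?_, hpure, fun w c hw hfix => ?_⟩
  · exact Wsp_eq_zero_of_mem hA h (t := t - τ)
      (by rw [sub_smul]; exact eq_sub_of_add_eq e)
  · obtain ⟨s, hs⟩ := hline _ (fix_rad_iff_Kbar h hw hfix)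
    refine ⟨s, B w v - s * τ, ?_⟩
    conv_lhs => rw [proj_eq hA h w hw, hs]
    rw [Submodule.coe_smul]
    module

theorem line_four (H : Small hA Ω) (h : B u v = 1) {ω : Ω} (hax : ¬ Axis hA ω u)
    (h4 : finrank F V = 4) (hk : Nat.card (Kbar hA u v ω) = Fintype.card F) : Line hA ω u := by
  classical
  set q := Fintype.card F with hqdef
  have hq3 : 3 ≤ q := H.q3
  set K := Kbar hA u v ω with hK
  have hd := finrank_Wsp (v := v) hA h
  have hQ : Nat.card (Wsp B u v) = q ^ 2 := by rw [natCard_Wsp]; congr 1; omega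
  have hne := Zf_ne_top_iff.2 hax
  have hn := H.smallW h
  rw [hQ] at hn
  have hz := two_mul_index_scales hne
  have hrk : q * Nat.card K = Nat.card (Wsp B u v) := by rw [hk, hQ, sq]
  have hL := orb_eq_mul (hA := hA) hrk
  have dbl : ∀ (g : isomGroup B) (hu : g.1 u = u) (hv : g.1 v = v),
      (∀ w ∈ K, onW g hu hv w ∈ K) → g • ω ∈ orb hA u v ω := by
    intro g hu hv hst
    by_contra hout
    have hc := cover_le_one hA H.nd h natural_id (ω₀ := ω) (m := q) (fun ω' e => e.trans hk)
      (by have := H.q3; omega) (two_orb_le_fibre (inv2_eq_of_stable g hu hv hst) hout)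
    refine false_four H.q3 hn (M := 2 * ((Zf hA ω u).index * (scales (Zf hA ω u)).card)) ?_ hz
    rw [hL, hQ] at hc
    calc _ = (scales (Zf hA ω u)).card * (q ^ 2 - 1) * (2 * (q * (Zf hA ω u).index)) := by ring
      _ ≤ _ := hc.trans (Nat.mul_le_mul_right _ (Finset.card_le_univ _))
  rcases exists_indep_or_line K with ⟨x, hx, y, hy, hxy⟩ | ⟨a, hline⟩
  · exfalso
    have hnl : ∀ ω', Conj hA u v ω ω' → ∀ a, ∃ z ∈ Kbar hA u v ω', ∀ t : F, z ≠ t • a := by
      intro ω' hc a
      by_contra hno
      push Not at hno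
      obtain ⟨b, hb⟩ := hc.line hno
      obtain ⟨s, rfl⟩ := hb x hx
      obtain ⟨t, rfl⟩ := hb y hy
      rw [LinearIndependent.pair_iff] at hxy
      by_cases hs : s = 0
      · exact one_ne_zero (hxy 1 0 (by rw [hs]; module)).1
      · exact hs (neg_eq_zero.1 (hxy t (-s) (by module)).2)
    have hc := cover_le hA (S := id) (ω₀ := ω) (m := q) (μ := 2) (fun ω' e => e.trans hk)
      (fun Z hZ w hw => ?_) (fun τ hτ => orb_le_fibre hτ)
    · refine false_four H.q3 hn (M := 2 * ((Zf hA ω u).index * (scales (Zf hA ω u)).card)) ?_ hz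
      rw [hL, hQ] at hc
      calc _ = 2 * (scales (Zf hA ω u)).card * (q ^ 2 - 1) * (q * (Zf hA ω u).index) := by ring
        _ ≤ _ := hc.trans (Nat.mul_le_mul_right _ (Finset.card_le_univ _))
    obtain ⟨ω₁, hZ₁, hc₁, hw₁⟩ := exists_covering hA H.nd h natural_id (ω₀ := ω) (m := q)
      (fun ω' e => e.trans hk) (by have := H.q3; omega) hZ hw
    change w ∈ Kbar hA u v ω₁ at hw₁
    have hk₁ : Nat.card (Kbar hA u v ω₁) = q := hc₁.card.trans hk
    obtain ⟨z, hz₁, hzw⟩ : ∃ z ∈ Kbar hA u v ω₁, B (z : V) (w : V) ≠ 0 := by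
      by_contra hno
      push Not at hno
      obtain ⟨z, hz₁, hzt⟩ := hnl ω₁ hc₁ w
      obtain ⟨t, ht⟩ := eq_smul_of_dim_two hA H.nd h h4 hw (hno z hz₁)
      exact hzt t ht
    obtain ⟨c, hne₁⟩ : ∃ c, Kbar hA u v (tv hA (w : V) c • ω₁) ≠ Kbar hA u v ω₁ := by
      by_contra hall
      push Not at hall
      have hF : ∀ t : F, t • w ∈ Kbar hA u v ω₁ := fun t => by
        set c := t / B (z : V) (w : V)
        have := mem_Kbar_move (hA := hA) (tv hA (w : V) c) (by simp [Wsp_left w])
          (by simp [Wsp_right w]) hz₁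
        rw [hall c] at this
        have h1 := (Kbar hA u v ω₁).sub_mem this hz₁
        convert h1 using 1
        refine Subtype.ext ?_
        simp [onW, c, div_mul_cancel₀ _ hzw]
      obtain ⟨z', hz', hzt⟩ := hnl ω₁ hc₁ w
      have hb : Function.Bijective (fun t : F => (⟨t • w, hF t⟩ : Kbar hA u v ω₁)) :=
        (Nat.bijective_iff_injective_and_card _).2
          ⟨fun s t e => smul_left_injective F hw (congrArg Subtype.val e),
            by rw [hk₁, Nat.card_eq_fintype_card]⟩
      obtain ⟨t, ht⟩ := hb.2 ⟨z', hz'⟩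
      exact hzt t (congrArg Subtype.val ht).symm
    set g := tv hA (w : V) c
    have hgu : g.1 u = u := by simp [g, Wsp_left w]
    have hgv : g.1 v = v := by simp [g, Wsp_right w]
    refine ⟨{inv2 hA u v ω₁, inv2 hA u v (g • ω₁)}, ?_, ?_, ?_⟩
    · intro τ hτ
      rcases Finset.mem_insert.1 hτ with rfl | hτ
      · exact mem_cls.2 ⟨ω₁, hc₁, rfl⟩
      · rw [Finset.mem_singleton.1 hτ]
        exact mem_cls.2 ⟨_, hc₁.step g hgu hgv, rfl⟩
    · rw [Finset.card_pair]
      intro e
      exact hne₁ (congrArg Prod.snd e).symm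
    · intro τ hτ
      rcases Finset.mem_insert.1 hτ with rfl | hτ
      · exact ⟨hZ₁, hw₁⟩
      · rw [Finset.mem_singleton.1 hτ]
        refine ⟨(Zf_move g hgu ω₁).trans hZ₁, ?_⟩
        show w ∈ Kbar hA u v (g • ω₁)
        convert mem_Kbar_move g hgu hgv hw₁ using 1
        exact Subtype.ext (by simp [onW, g, hA (w : V)])
  · have ha : a ≠ 0 := by
      rintro rfl
      have : Nat.card K ≤ 1 := Finite.card_le_one_iff_subsingleton.2 ⟨fun x y => Subtype.ext (by
        obtain ⟨t, ht⟩ := hline x x.2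
        obtain ⟨s, hs⟩ := hline y y.2
        rw [ht, hs, smul_zero, smul_zero])⟩
      have := H.q3
      omega
    choose c hc using fun μ : F => smul_mem_of_line hline hk μ
    obtain ⟨a', ha'⟩ := alt_exists_partner (Wsp_nondeg hA H.nd h).1 ha
    rw [restrictForm_apply] at ha'
    have hfix : ∀ l : F, ∀ hl : l ≠ 0, ∃ p : Wsp B u v × F, ∀ μ : F,
        rad hA u (((l * μ) • a : Wsp B u v) : V)
          (c μ - 2 * ((l * μ) * B (a : V) (p.1 : V))) • ω = ω := by
      intro l hl
      set g := tor hA ha' hl with hg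
      have hgu : g.1 u = u := tor_fix ha' hl (alt_zero_symm hA (Wsp_left a)) (Wsp_left a')
      have hgv : g.1 v = v := tor_fix ha' hl (alt_zero_symm hA (Wsp_right a)) (Wsp_right a')
      have hga : g.1 (a : V) = l • (a : V) := tor_left ha' hl
      have hst : ∀ w ∈ K, onW g hgu hgv w ∈ K := by
        intro w hw
        obtain ⟨t, rfl⟩ := hline w hw
        convert smul_mem_of_line hline hk (t * l) using 1
        exact Subtype.ext (by simp [onW, hga, smul_smul])
      obtain ⟨p, hp⟩ := mem_orb.1 (dbl g hgu hgv hst)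
      refine ⟨p, fun μ => ?_⟩
      have h1 := (fix_rad_smul g).2 (hc μ)
      rw [hgu, ← hp, Submodule.coe_smul, map_smul, hga, smul_smul μ l (a : V), mul_comm μ l] at h1
      have h2 := fix_of_X (by simp [Wsp_left a]) h1
      rw [map_smul, LinearMap.smul_apply, smul_eq_mul] at h2
      rw [Submodule.coe_smul]
      exact h2
    by_cases h2 : (2 : F) = 0
    · refine pure_line_of_shift h ha hline (τ := 0) fun μ => ?_
      have hd1 : ∀ l : F, l ≠ 0 → c 1 - c l ∈ Zf hA ω u := by
        intro l hl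
        obtain ⟨p, hp⟩ := hfix l hl
        have h1 := hp 1
        rw [h2, zero_mul, sub_zero, mul_one] at h1
        exact sub_mem_Zf (by simp [Wsp_left a]) (hc l) h1
      obtain ⟨x, -, hx⟩ : ∃ x ∈ (Finset.univ : Finset F), x ∉ ({0, 1} : Finset F) :=
        Finset.exists_mem_notMem_of_card_lt_card (by
          rw [Finset.card_univ]; exact lt_of_le_of_lt Finset.card_le_two (by have := H.q3; omega))
      simp only [Finset.mem_insert, Finset.mem_singleton, not_or] at hx
      have hone : (1 : F) + x ≠ 0 := fun e => hx.2 (by linear_combination e - h2)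
      have hadd : c 1 + c x - c (1 + x) ∈ Zf hA ω u := by
        refine sub_mem_Zf (by simp [Wsp_left a]) (hc (1 + x)) ?_
        have h1 := mul_fix (hc 1) (hc x)
        rw [rad_mul (Wsp_left _) (Wsp_left _), ← Submodule.coe_add, ← add_smul] at h1
        simp only [Submodule.coe_smul, map_smul, LinearMap.smul_apply, hA (a : V), smul_zero,
          add_zero] at h1
        rw [Submodule.coe_smul]
        exact h1
      have h10 : c 1 ∈ Zf hA ω u := by
        have := (Zf hA ω u).sub_mem ((Zf hA ω u).add_mem hadd (hd1 x hx.1)) (hd1 _ hone)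
        convert this using 1
        ring
      have hall : c μ ∈ Zf hA ω u ∨ μ = 0 := by
        by_cases hμ : μ = 0
        · exact Or.inr hμ
        · exact Or.inl (by simpa using (Zf hA ω u).sub_mem h10 (hd1 μ hμ))
      rw [zero_smul, add_zero]
      rcases hall with hall | rfl
      · have := fix_add_Zf (by simp [Wsp_left a]) (hc μ) ((Zf hA ω u).neg_mem hall)
        rwa [add_neg_cancel, Submodule.coe_smul] at this
      · rw [zero_smul, rad_zero_zero, one_smul]
    · obtain ⟨p, hp⟩ := hfix (-1) (neg_ne_zero.2 one_ne_zero)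
      set t := B (a : V) (p.1 : V)
      refine pure_line_of_shift h ha hline (τ := -(t / 2)) fun μ => ?_
      have h1 := inv_fix (hc μ)
      rw [rad_inv (Wsp_left _)] at h1
      have h3 := hp μ
      simp only [Submodule.coe_smul, neg_one_mul, neg_smul] at h1 h3
      have hm : c μ + μ * t ∈ Zf hA ω u := by
        refine mem_of_two_mul h2 ?_
        have h5 := sub_mem_Zf (by simp [Wsp_left a]) h1 h3
        convert h5 using 1
        ring
      have h4' := fix_add_Zf (Wsp_left _) (hc μ) ((Zf hA ω u).neg_mem hm)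
      rw [smul_add, smul_smul, rad_shift (by simp [Wsp_left a])]
      rw [Submodule.coe_smul] at h4'
      convert h4' using 3
      field_simp
      ring

/-- The image is trivial, everything, or a pure line in dimension four. -/
theorem trichotomy (H : Small hA Ω) {ω : Ω} (hu0 : u ≠ 0) (hax : ¬ Axis hA ω u) :
    Reg hA ω u ∨ Full hA ω u ∨ (finrank F V = 4 ∧ Line hA ω u) := by
  obtain ⟨v, h⟩ := alt_exists_partner H.nd.1 hu0
  rw [reg_iff h, full_iff h]
  set K := Kbar hA u v ω
  by_cases hk1 : K = ⊥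
  · exact Or.inl hk1
  by_cases hk2 : K = ⊤
  · exact Or.inr (Or.inl hk2)
  refine Or.inr (Or.inr ?_)
  have hk : 2 ≤ Nat.card K := by
    have h1 : Nat.card K ≠ 1 := fun e => hk1 (AddSubgroup.eq_bot_of_card_eq _ e)
    have := Nat.card_pos (α := K)
    omega
  obtain ⟨ψ, hψ, -⟩ := exists_char (Zf_ne_top_iff.2 hax)
  have hrk := card_charPerp hA H.nd h hψ K
  have hr : 2 ≤ Nat.card (charPerp ψ K) := by
    have hpos := Nat.card_pos (α := charPerp ψ K)
    by_contra hlt
    rw [show Nat.card (charPerp ψ K) = 1 by omega, one_mul] at hrk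
    exact hk2 (AddSubgroup.eq_top_of_card_eq _ hrk)
  have hrq : Fintype.card F ≤ Nat.card (charPerp ψ K) :=
    not_lt.1 fun hlt => not_small_perp H h hax hψ hr hlt
  have h4 : finrank F V = 4 := by
    by_contra hne
    have := H.dim
    obtain ⟨j, hj⟩ := H.finrank_even
    exact not_mid_big H h hax hψ (by omega) hk hrq
  refine ⟨h4, line_four H h hax h4 ?_⟩
  have hd := finrank_Wsp (v := v) hA h
  have hQ : Nat.card (Wsp B u v) = Fintype.card F ^ 2 := by rw [natCard_Wsp]; congr 1; omega
  have hle : Nat.card K ≤ Fintype.card F := by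
    rw [hQ, sq] at hrk
    exact Nat.le_of_mul_le_mul_left ((Nat.mul_le_mul_right _ hrq).trans (le_of_eq hrk))
      (by have := H.q3; omega)
  refine le_antisymm hle (not_lt.1 fun hlt => ?_)
  have hn := H.smallW h
  rw [hQ] at hn
  have h2k := two_mul_le_of_lt (card_Kbar_dvd (hA := hA) (u := u) (v := v) ω) hlt
  have hc := cover_le_one hA H.nd h natural_id (ω₀ := ω) (m := Nat.card K) (fun ω' e => e) hk
    (L := (orb hA u v ω).card) (fun τ hτ => orb_le_fibre hτ)
  have hL := orb_eq_mul (hA := hA) hrk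
  refine false_small (C := (scales (Zf hA ω u)).card) (z := (Zf hA ω u).index) H.q3 hn h2k ?_
    (two_mul_index_scales (Zf_ne_top_iff.2 hax))
  have h1 := Nat.mul_le_mul_right (Nat.card K)
    (hc.trans (Nat.mul_le_mul_right _ (Finset.card_le_univ _)))
  rw [hL] at h1
  calc _ = (scales (Zf hA ω u)).card * (Nat.card (Wsp B u v) - 1) *
        (Nat.card (charPerp ψ K) * (Zf hA ω u).index) * Nat.card K := by
          rw [← hQ, ← hrk]; ring
    _ ≤ _ := h1
    _ = _ := by ring

end CfsgLib.KnownA.MinIndexSymp
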