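import Cfsg.Agent.Lib.KnownA.MinIndexSymp.Big

/-!
# A small action has no axes
-/

set_option autoImplicit false
set_option linter.unusedSectionVars false

open Module MulAction CfsgLib.Classical Finset

namespace CfsgLib.KnownA.MinIndexSymp

variable {F : Type*} [Field F] {V : Type*} [AddCommGroup V] [Module F V] [FiniteDimensional F V]
  {B : V →ₗ[F] V →ₗ[F] F} {Ω : Type*} [MulAction (isomGroup B) Ω] {hA : B.IsAlt}
  [Fintype F] [Fintype Ω] {u v : V}

theorem finrank_perp_add_le (hN : B.Nondegenerate) (X : Submodule F V) :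
    finrank F (perp B X) + finrank F X ≤ finrank F V := by
  rw [← Subspace.finrank_add_finrank_dualAnnihilator_eq X, add_comm]
  refine Nat.add_le_add_left ?_ _
  refine LinearMap.finrank_le_finrank_of_injective
    (f := (B.flip.comp (perp B X).subtype).codRestrict X.dualAnnihilator fun y =>
      (Submodule.mem_dualAnnihilator _).2 fun x hx => mem_perp.1 y.2 x hx) fun y y' e => ?_
  refine Subtype.ext (sub_eq_zero.1 (hN.2 _ fun x => ?_))
  have h1 := LinearMap.congr_fun (congrArg Subtype.val e) x
  simp only [LinearMap.codRestrict_apply, LinearMap.comp_apply, Submodule.coe_subtype,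
    LinearMap.flip_apply] at h1
  rw [map_sub, h1, sub_self]

theorem perp_ne_bot (hA : B.IsAlt) (hN : B.Nondegenerate) {X : Submodule F V} (hX : X ≠ ⊤) :
    perp B X ≠ ⊥ := by
  intro e
  refine hX ?_
  rw [← perp_perp_eq hA.isRefl hN.2 X, e, eq_top_iff]
  exact fun x _ => mem_perp.2 fun w hw => by rw [(Submodule.mem_bot F).1 hw]; simp

/-- The number of members of a family through a vector. -/
noncomputable def thru (Y : Ω → Submodule F V) (v : V) : Finset Ω := by
  classical exact univ.filter fun ω => v ∈ Y ω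

theorem mem_thru {Y : Ω → Submodule F V} {v : V} {ω : Ω} : ω ∈ thru Y v ↔ v ∈ Y ω := by
  classical simp [thru]

/-- An equivariant assignment of small subspaces contradicts smallness. -/
theorem no_field (H : Small hA Ω) [Nonempty Ω] (Y : Ω → Submodule F V)
    (hY : ∀ (g : isomGroup B) ω, Y (g • ω) = (Y ω).map (g.1 : V →ₗ[F] V))
    (h1 : ∀ ω, 1 ≤ finrank F (Y ω)) (h2 : ∀ ω, finrank F (Y ω) ≤ 2) : False := by
  classical
  have : Finite V := Module.finite_of_finite F
  have := Fintype.ofFinite V
  obtain ⟨ω₀⟩ : Nonempty Ω := inferInstance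
  set q := Fintype.card F with hq
  set d := finrank F V with hd
  have hq3 : 3 ≤ q := H.q3
  have hn := H.small
  rw [← hq, ← hd] at hn
  set j := finrank F (Y ω₀) with hj
  have hjall : ∀ ω, finrank F (Y ω) = j := by
    intro ω
    obtain ⟨g, hg⟩ := H.trans ω₀ ω
    rw [← hg, hY, LinearEquiv.finrank_map_eq]
  have hmove : ∀ (g : isomGroup B) (x : V), (thru Y x).card ≤ (thru Y (g.1 x)).card := by
    intro g x
    refine Finset.card_le_card_of_injOn (fun ω => g • ω) (fun ω hω => ?_)
      fun _ _ _ _ e => smul_left_cancel _ e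
    rw [Finset.mem_coe, mem_thru] at hω ⊢
    rw [hY]
    exact Submodule.mem_map_of_mem hω
  have hconst : ∀ x y : V, x ≠ 0 → y ≠ 0 → (thru Y x).card ≤ (thru Y y).card := by
    intro x y hx hy
    obtain ⟨g, hg⟩ := H.exists_map hx hy
    exact hg ▸ hmove g x
  obtain ⟨u, huY, hu0⟩ : ∃ u ∈ Y ω₀, u ≠ 0 := by
    refine Submodule.exists_mem_ne_zero_of_ne_bot fun e => ?_
    have := h1 ω₀
    rw [e, finrank_bot] at this
    omega
  set K := (thru Y u).card with hK
  have hdc : K * (q ^ d - 1) ≤ Fintype.card Ω * (q ^ j - 1) := by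
    have e : q ^ d - 1 = (univ.erase (0 : V)).card := by
      rw [Finset.card_erase_of_mem (mem_univ _), card_univ, Module.card_eq_pow_finrank (K := F)]
    rw [e, mul_comm, ← smul_eq_mul, ← Finset.sum_const]
    refine (Finset.sum_le_sum fun x hx => hconst u x hu0 (mem_erase.1 hx).1).trans ?_
    have e2 : ∀ x : V, thru Y x = univ.filter fun ω => x ∈ Y ω := fun x => by
      ext; simp [mem_thru]
    simp only [e2]
    refine (le_of_eq (Finset.sum_card_bipartiteAbove_eq_sum_card_bipartiteBelow
      (fun (x : V) (ω : Ω) => x ∈ Y ω) (s := univ.erase (0 : V)) (t := univ))).trans ?_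
    rw [← Finset.card_univ, ← smul_eq_mul, ← Finset.sum_const]
    refine Finset.sum_le_sum fun ω _ => le_of_eq ?_
    have e3 : (univ.erase (0 : V)).bipartiteBelow (fun (x : V) (ω : Ω) => x ∈ Y ω) ω =
        (univ.filter fun x => x ∈ Y ω).erase 0 := by
      ext x; simp [Finset.bipartiteBelow, and_comm]
    rw [e3, Finset.card_erase_of_mem (mem_filter.2 ⟨mem_univ _, (Y ω).zero_mem⟩), ← hjall ω, hq,
      ← Module.card_eq_pow_finrank (K := F) (V := Y ω), Fintype.card_subtype]
  have hKpos : 1 ≤ K := Finset.card_pos.2 ⟨ω₀, mem_thru.2 huY⟩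
  have hd1 : 1 ≤ q ^ d := Nat.one_le_pow _ _ (by omega)
  have hj12 : j = 1 ∨ j = 2 := by
    have := h1 ω₀
    have := h2 ω₀
    omega
  rcases hj12 with hj1 | hj2
  · rw [hj1, pow_one] at hdc
    have := (Nat.mul_le_mul_right (q ^ d - 1) hKpos).trans hdc
    omega
  suffices hKq : q + 1 ≤ K by
    rw [hj2] at hdc
    have h3 := (Nat.mul_le_mul_right (q ^ d - 1) hKq).trans hdc
    have e : q ^ 2 - 1 = (q - 1) * (q + 1) := by
      rw [show q ^ 2 - 1 = q ^ 2 - 1 ^ 2 by norm_num, Nat.sq_sub_sq, mul_comm]
    rw [e, ← mul_assoc, mul_comm (q + 1)] at h3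
    have := Nat.le_of_mul_le_mul_right h3 (by omega)
    omega
  obtain ⟨v, h⟩ := alt_exists_partner H.nd.1 hu0
  have := Fintype.ofFinite (Wsp B u v)
  set Q := Nat.card (Wsp B u v) with hQ
  have hQ2 : q ^ 2 ≤ Q := H.sq_le_W h
  obtain ⟨w, hwY, hw⟩ : ∃ w ∈ Y ω₀, ∀ t : F, w ≠ t • u := by
    by_contra! hall
    have hle : Y ω₀ ≤ Submodule.span F {u} := fun x hx => by
      obtain ⟨t, rfl⟩ := hall x hx
      exact Submodule.smul_mem _ _ (Submodule.mem_span_singleton_self u)
    have := Submodule.finrank_mono hle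
    rw [finrank_span_singleton hu0] at this
    omega
  have hspan : ∀ x ∈ Y ω₀, ∃ a b : F, x = a • u + b • w := by
    intro x hx
    have hli : LinearIndependent F ![u, w] :=
      (LinearIndependent.pair_iff' hu0).2 fun t e => hw t e.symm
    have heq : Submodule.span F ({u, w} : Set V) = Y ω₀ := by
      refine Submodule.eq_of_le_of_finrank_eq (Submodule.span_le.2 ?_) ?_
      · rintro y (rfl | rfl)
        · exact huY
        · exact hwY
      · have := finrank_span_eq_card hli
        rw [Matrix.range_cons_cons_empty, Fintype.card_fin] at this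
        rw [this]; exact hj2.symm
    rw [← heq] at hx
    obtain ⟨a, b, e⟩ := Submodule.mem_span_pair.1 hx
    exact ⟨a, b, e.symm⟩
  by_cases hperp : B u w = 0
  · set w₀ := proj hA h w hperp
    have hw₀ : w₀ ≠ 0 := fun e => hw (B w v) (by
      have e' := proj_eq hA h w hperp
      rw [show proj hA h w hperp = 0 from e, Submodule.coe_zero, zero_add] at e'
      exact e')
    have hex : ∀ x : Wsp B u v, x ≠ 0 → ∃ g : isomGroup B, g.1 u = u ∧
        g.1 w = (x : V) + B w v • u := by
      intro x hx
      obtain ⟨g, hu, hv, e⟩ := exists_move_vec hA H.nd h hw₀ hx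
      refine ⟨g, hu, ?_⟩
      conv_lhs => rw [proj_eq hA h w hperp, map_add, map_smul, hu]
      rw [← show g.1 (w₀ : V) = (x : V) from congrArg Subtype.val e]
    choose g hgu hgw using hex
    set S := (univ.erase (0 : Wsp B u v)).attach.image fun x =>
      Y (g x.1 (mem_erase.1 x.2).1 • ω₀)
    have h4 : Q - 1 ≤ S.card * (q - 1) := by
      rw [hQ, Nat.card_eq_fintype_card, ← Finset.card_univ,
        ← Finset.card_erase_of_mem (mem_univ (0 : Wsp B u v)), ← Finset.card_attach, mul_comm]
      refine Finset.card_le_mul_card_image _ _ fun o ho => ?_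
      obtain ⟨x₀, -, rfl⟩ := mem_image.1 ho
      refine le_trans (Finset.card_le_card_of_injOn (t := ((univ : Finset F).erase 0).image
        fun t => t • x₀.1) (fun x => x.1) (fun x hx => ?_) fun _ _ _ _ e => Subtype.ext e) ?_
      · obtain ⟨-, e⟩ := mem_filter.1 (Finset.mem_coe.1 hx)
        have hmem : (x.1 : V) + B w v • u ∈ Y (g x₀.1 (mem_erase.1 x₀.2).1 • ω₀) := by
          rw [← e, hY, ← hgw x.1 (mem_erase.1 x.2).1]
          exact Submodule.mem_map_of_mem hwY
        rw [hY] at hmem
        obtain ⟨y, hy, ey⟩ := hmem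
        obtain ⟨a, b, rfl⟩ := hspan y hy
        rw [LinearEquiv.coe_coe, map_add, map_smul, map_smul, hgu, hgw] at ey
        have e0 : (x.1 : Wsp B u v) - b • x₀.1 = 0 := Wsp_eq_zero_of_mem hA h
          (t := a + b * B w v - B w v) (by
            rw [Submodule.coe_sub, Submodule.coe_smul]
            linear_combination (norm := module) -ey)
        have hb : b ≠ 0 := fun e' => (mem_erase.1 x.2).1 (by simpa [e'] using e0)
        exact Finset.mem_coe.2 (mem_image.2 ⟨b, mem_erase.2 ⟨hb, mem_univ _⟩,
          (sub_eq_zero.1 e0).symm⟩)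
      · refine Finset.card_image_le.trans (le_of_eq ?_)
        rw [Finset.card_erase_of_mem (mem_univ _), card_univ]
    have h5 : S.card ≤ K := by
      refine le_trans (Finset.card_le_card (t := (thru Y u).image Y) fun o ho => ?_)
        Finset.card_image_le
      obtain ⟨x, -, rfl⟩ := mem_image.1 ho
      refine mem_image.2 ⟨_, mem_thru.2 ?_, rfl⟩
      rw [hY]
      exact ⟨u, huY, hgu x.1 (mem_erase.1 x.2).1⟩
    by_contra hlt
    have h6 := Nat.mul_le_mul_right (q - 1) (h5.trans (Nat.le_of_lt_succ (not_le.1 hlt)))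
    have h7 := Nat.mul_sub_one q q
    have h8 : q ≤ q * q := Nat.le_mul_self q
    rw [sq] at hQ2
    omega
  · set a := B u w with ha
    set y := a⁻¹ • w with hy
    have huy : B u y = 1 := by rw [hy, map_smul, ← ha, smul_eq_mul, inv_mul_cancel₀ hperp]
    have := Fintype.ofFinite (Wsp B u y)
    have hQy : q ^ 2 ≤ Fintype.card (Wsp B u y) := by
      rw [← Nat.card_eq_fintype_card]; exact H.sq_le_W huy
    set f : Wsp B u y → Submodule F V := fun x => Y (X hA u y (x, 0) • ω₀)
    have hfix : ∀ x : Wsp B u y, (X hA u y (x, 0)).1 u = u := fun x => by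
      rw [X, rad_apply (Wsp_left x)]; simp [hA u, Wsp_left x]
    have hinj : Function.Injective f := by
      intro x x' e
      have hmem : (X hA u y (x, 0)).1 y ∈ Y (X hA u y (x', 0) • ω₀) := by
        show _ ∈ f x'
        rw [← e]
        show _ ∈ Y (X hA u y (x, 0) • ω₀)
        rw [hY]
        exact Submodule.mem_map_of_mem (Submodule.smul_mem _ _ hwY)
      rw [hY] at hmem
      obtain ⟨z, hz, ez⟩ := hmem
      obtain ⟨s, t, rfl⟩ := hspan z hz
      rw [show w = a • y by rw [hy, smul_inv_smul₀ hperp]] at ez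
      rw [LinearEquiv.coe_coe, map_add, map_smul, map_smul, map_smul, hfix, X, X,
        rad_apply (Wsp_left x'), rad_apply (Wsp_left x)] at ez
      have hyu : B y u = -1 := by rw [alt_swap hA, huy]
      simp only [hyu, Wsp_right, zero_mul, add_zero, zero_smul] at ez
      have e1 := congrArg (B u) ez
      simp only [map_add, map_smul, smul_eq_mul, hA u, huy, Wsp_left, mul_zero, zero_add,
        add_zero] at e1
      have hta : t * a = 1 := by linear_combination e1
      have e0 : x - x' = 0 := Wsp_eq_zero_of_mem hA huy (t := -s) (by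
        rw [smul_smul, hta, one_smul] at ez
        rw [Submodule.coe_sub]
        linear_combination (norm := module) ez)
      exact sub_eq_zero.1 e0
    have h5 : Fintype.card (Wsp B u y) ≤ K := by
      rw [← Finset.card_univ, ← Finset.card_image_of_injective _ hinj]
      refine le_trans (Finset.card_le_card (t := (thru Y u).image Y) fun o ho => ?_)
        Finset.card_image_le
      obtain ⟨x, -, rfl⟩ := mem_image.1 ho
      refine mem_image.2 ⟨_, mem_thru.2 ?_, rfl⟩
      rw [hY]
      exact ⟨u, huY, hfix x⟩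
    nlinarith

/-- No transvection group fixes a point. -/
theorem no_axes (H : Small hA Ω) [Nontrivial Ω] (ω : Ω) {a : V} (ha : a ≠ 0) :
    ¬ Axis hA ω a := by
  intro hax
  have hdim : ∀ ν : Ω, finrank F (axes H ν) = finrank F (axes H ω) := fun ν => by
    obtain ⟨g, hg⟩ := H.trans ω ν
    rw [← hg, axes_move, LinearEquiv.finrank_map_eq]
  have hne : axes H ω ≠ ⊥ := fun e =>
    ha ((Submodule.mem_bot F).1 (e ▸ (mem_axes H).2 hax : a ∈ (⊥ : Submodule F V)))
  by_cases hsmall : finrank F (axes H ω) ≤ 2
  · exact no_field H (axes H) (axes_move H)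
      (fun ν => by rw [hdim]; exact Submodule.one_le_finrank_iff.2 hne)
      (fun ν => by rw [hdim]; exact hsmall)
  · refine no_field H (fun ν => perp B (axes H ν)) (fun g ν => ?_)
      (fun ν => Submodule.one_le_finrank_iff.2 (perp_ne_bot hA H.nd (axes_ne_top H ν)))
      (fun ν => ?_)
    · rw [map_perp g.2, axes_move]
    · have h1 := finrank_perp_add_le (B := B) H.nd (axes H ν)
      rw [hdim ν] at h1
      by_cases h4 : finrank F V = 4
      · omega
      · have := H.dim
        obtain ⟨j, hj⟩ := H.finrank_even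
        obtain ⟨ξ, hξ⟩ := exists_big_axes H (by omega)
        rw [hdim ξ] at hξ
        omega

end CfsgLib.KnownA.MinIndexSymp
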