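import Cfsg.Agent.Lib.KnownA.MinIndexSymp.Mid

/-!
# The stabiliser never covers the whole radical modulo transvections
-/

set_option autoImplicit false
set_option linter.unusedSectionVars false

open Module MulAction CfsgLib.Classical Finset

namespace CfsgLib.KnownA.MinIndexSymp

variable {F : Type*} [Field F] {V : Type*} [AddCommGroup V] [Module F V] [FiniteDimensional F V]
  {B : V →ₗ[F] V →ₗ[F] F} {Ω : Type*} [MulAction (isomGroup B) Ω] {hA : B.IsAlt}
  [Fintype F] [Fintype Ω] {u v : V}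

theorem mul_le_pts_mul {β : Type*} (f : Ω → β) (T : Finset β) (M d : ℕ)
    (h : ∀ τ ∈ T, M ≤ (pts f {τ}).card * d) : T.card * M ≤ (pts f T).card * d := by
  classical
  calc T.card * M = ∑ _τ ∈ T, M := by rw [Finset.sum_const, smul_eq_mul]
    _ ≤ ∑ τ ∈ T, (pts f {τ}).card * d := Finset.sum_le_sum h
    _ = _ := by
      rw [← Finset.sum_mul, ← Finset.card_biUnion]
      · congr 2
        ext ω
        simp [mem_pts]
      · intro a _ b _ hab
        simp only [Finset.disjoint_left, mem_pts, mem_singleton]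
        exact fun ω h1 h2 => hab (h1.symm.trans h2)

theorem scales_le_cls (h : B u v = 1) (ω : Ω) :
    (scales (Zf hA ω u)).card ≤ (cls hA u v ω).card := by
  classical
  refine (Finset.card_le_card fun Z hZ => ?_).trans (Finset.card_image_le (f := Prod.fst))
  obtain ⟨ν, hν, hc⟩ := exists_in_scales h ω hZ
  exact mem_image.2 ⟨_, mem_cls.2 ⟨ν, hc, rfl⟩, hν⟩

/-- The points of one kind, counted from below. -/
theorem cls_card_le (ω : Ω) {k : ℕ} (hk : Nat.card (Kbar hA u v ω) = k) :
    (pts (inv2 (Ω := Ω) hA u v) (cls hA u v ω)).card ≤ (ofCard (Ω := Ω) hA u v k).card :=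
  Finset.card_le_card (hk ▸ pts_cls_subset ω)

theorem stab_le_of_Full {ω ν : Ω} (hw' : Zf hA ν u = Zf hA ω u) (hF : Full hA ω u)
    (hle : ∀ w c, B u w = 0 → rad hA u w c • ω = ω → rad hA u w c • ν = ν) {w : V} {c : F}
    (hw : B u w = 0) : rad hA u w c • ν = ν ↔ rad hA u w c • ω = ω := by
  refine ⟨fun hν => ?_, hle w c hw⟩
  obtain ⟨c', hc'⟩ := hF w hw
  have := sub_mem_Zf hw (hle w c' hw hc') hν
  rw [hw'] at this
  simpa using fix_add_Zf hw hc' this

/-- A point with full image shares its invariant with many orbits. -/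
theorem full_fibre (H : Small hA Ω) (h : B u v = 1) {ω : Ω} (hax : ¬ Axis hA ω u)
    (hF : Full hA ω u) : (Zf hA ω u).index * (Nat.card (Wsp B u v) + Fintype.card F - 2) ≤
      (pts (inv2 (Ω := Ω) hA u v) {inv2 hA u v ω}).card * (Fintype.card F - 1) := by
  classical
  have := Fintype.ofFinite (Wsp B u v)
  have h2 := two_eq_zero_of_full hA H.nd h H.dim hax hF
  have hK := (full_iff h).1 hF
  have hNW := Wsp_nondeg hA H.nd h
  have hex : ∀ b : Wsp B u v, b ≠ 0 → ∃ c w d, B u w = 0 ∧
      ¬ (rad hA u w d • tv hA (b : V) c • ω = tv hA (b : V) c • ω ↔ rad hA u w d • ω = ω) := by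
    intro b hb
    obtain ⟨k, hk⟩ := alt_exists_partner hNW.1 hb
    rw [restrictForm_apply] at hk
    exact exists_move_stab h2 H.q3 hax (fun t => by rw [hK]; trivial) (k := k)
      (fun t => by rw [hK]; trivial) (fun e => one_ne_zero (hk.symm.trans (alt_zero_symm hA e)))
  choose c wb db hwb hne using hex
  let ξ : Wsp B u v → Ω := fun b => if hb : b = 0 then ω else tv hA (b : V) (c b hb) • ω
  have hξ : ∀ b (hb : b ≠ 0), ξ b = tv hA (b : V) (c b hb) • ω := fun b hb => by simp [ξ, hb]
  have hfix : ∀ (b : Wsp B u v) (hb : b ≠ 0) w d, B u w = 0 → B (b : V) w = 0 →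
      (rad hA u w d • ξ b = ξ b ↔ rad hA u w d • ω = ω) := by
    intro b hb w d hw hbw
    have := fix_rad_smul (hA := hA) (tv hA (b : V) (c b hb)) (u := u) (w := w) (c := d) (ω := ω)
    rw [show (tv hA (b : V) (c b hb)).1 u = u by simp [Wsp_left b],
      show (tv hA (b : V) (c b hb)).1 w = w by simp [alt_zero_symm hA hbw]] at this
    rw [hξ b hb]
    exact this
  have hinv : ∀ b (hb : b ≠ 0), inv2 hA u v (ξ b) = inv2 hA u v ω := fun b hb => by
    rw [hξ b hb]
    exact inv2_eq_of_stable _ (by simp [Wsp_left b]) (by simp [Wsp_right b])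
      (fun w _ => by rw [hK]; trivial)
  have hout : ∀ b (hb : b ≠ 0), orb hA u v (ξ b) ≠ orb hA u v ω := by
    intro b hb e
    have hm : ξ b ∈ orb hA u v ω := e ▸ self_mem_orb (ξ b)
    rw [hξ b hb] at hm
    exact hne b hb (fix_orb_iff h2 hm (hwb b hb))
  have hdep : ∀ b (hb : b ≠ 0) b' (hb' : b' ≠ 0), orb hA u v (ξ b') = orb hA u v (ξ b) →
      ∃ t : F, b' = t • b := by
    intro b hb b' hb' e
    by_contra hind
    push Not at hind
    have hm : ξ b' ∈ orb hA u v (ξ b) := e ▸ self_mem_orb (ξ b')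
    obtain ⟨z, hz, hz'⟩ := exists_perp_not_orth hNW.2
      (W := Submodule.span F ({b} : Set (Wsp B u v))) (x := b') (fun hmem => by
        obtain ⟨t, ht⟩ := Submodule.mem_span_singleton.1 hmem
        exact hind t ht.symm)
    have hbz : B (b : V) (z : V) = 0 := mem_perp_span.1 hz b rfl
    rw [restrictForm_apply] at hz'
    have hle : ∀ w d, B u w = 0 → rad hA u w d • ω = ω → rad hA u w d • ξ b = ξ b := by
      intro x d hx hd
      have hzu : B u (z : V) = 0 := Wsp_left z
      set s := B (b' : V) (x - B x v • u) / B (b' : V) (z : V) with hs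
      set x₁ := x - B x v • u with hx₁
      have hbu : ∀ b : Wsp B u v, B (b : V) u = 0 := fun b => alt_zero_symm hA (Wsp_left b)
      have e1 : x = s • (z : V) + (x - s • (z : V)) := by abel
      have h2' : B (b' : V) (x - s • (z : V)) = 0 := by
        have : B (b' : V) x₁ = B (b' : V) x := by simp [hx₁, hbu]
        rw [map_sub, map_smul, smul_eq_mul, hs, div_mul_cancel₀ _ hz', this, sub_self]
      obtain ⟨d₁, hd₁⟩ := hF (s • (z : V)) (by simp [hzu])
      obtain ⟨d₂, hd₂⟩ := hF (x - s • (z : V)) (by simp [hx, hzu])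
      have a1 := (hfix b hb (s • (z : V)) d₁ (by simp [hzu]) (by simp [hbz])).2 hd₁
      have a2 := (hfix b' hb' (x - s • (z : V)) d₂ (by simp [hx, hzu]) h2').2 hd₂
      rw [fix_orb_iff h2 hm (by simp [hx, hzu])] at a2
      have p1 := mul_fix hd₁ hd₂
      have p2 := mul_fix a1 a2
      rw [rad_mul (by simp [hzu]) (by simp [hx, hzu]), ← e1] at p1 p2
      have hZ : Zf hA (ξ b) u = Zf hA ω u := congrArg Prod.fst (hinv b hb)
      have p3 := fix_add_Zf hx p2 (hZ.symm ▸ sub_mem_Zf hx p1 hd)
      rwa [add_sub_cancel] at p3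
    refine hne b hb ?_
    have := stab_le_of_Full (congrArg Prod.fst (hinv b hb)) hF hle (c := db b hb) (hwb b hb)
    rwa [hξ b hb] at this
  set O : Finset (Finset Ω) := (univ.erase (0 : Wsp B u v)).image fun b => orb hA u v (ξ b)
  set z := (Zf hA ω u).index
  have hN : Nat.card (Wsp B u v) - 1 ≤ O.card * (Fintype.card F - 1) := by
    rw [Nat.card_eq_fintype_card, ← Finset.card_univ,
      ← Finset.card_erase_of_mem (mem_univ (0 : Wsp B u v)), mul_comm]
    refine Finset.card_le_mul_card_image _ _ fun o ho => ?_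
    obtain ⟨b, hb, rfl⟩ := mem_image.1 ho
    have hb0 := (mem_erase.1 hb).1
    refine (Finset.card_le_card (t := ((univ : Finset F).erase 0).image fun t => t • b)
      fun b' hb' => ?_).trans (Finset.card_image_le.trans ?_)
    · obtain ⟨hb'm, e⟩ := mem_filter.1 hb'
      obtain ⟨t, rfl⟩ := hdep b hb0 b' (mem_erase.1 hb'm).1 e
      exact mem_image.2 ⟨t, mem_erase.2 ⟨fun e0 => (mem_erase.1 hb'm).1 (by rw [e0, zero_smul]),
        mem_univ _⟩, rfl⟩
    · rw [Finset.card_erase_of_mem (mem_univ _), card_univ]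
  have hsub : ((insert (orb hA u v ω) O).biUnion id) ⊆
      pts (inv2 (Ω := Ω) hA u v) {inv2 hA u v ω} := by
    intro ν hν
    obtain ⟨o, ho, hνo⟩ := mem_biUnion.1 hν
    rcases mem_insert.1 ho with rfl | ho
    · exact orb_subset_pts inv2_of_mem rfl hνo
    · obtain ⟨b, hb, rfl⟩ := mem_image.1 ho
      exact orb_subset_pts inv2_of_mem (hinv b (mem_erase.1 hb).1) hνo
  have hcard : ((insert (orb hA u v ω) O).biUnion id).card = (O.card + 1) * z := by
    have horb : ∀ o ∈ insert (orb hA u v ω) O, ∃ ν, Nat.card (Kbar hA u v ν) =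
        Nat.card (Wsp B u v) ∧ Zf hA ν u = Zf hA ω u ∧ o = orb hA u v ν := by
      intro o ho
      rcases mem_insert.1 ho with rfl | ho
      · exact ⟨ω, by rw [hK, AddSubgroup.card_top], rfl, rfl⟩
      · obtain ⟨b, hb, rfl⟩ := mem_image.1 ho
        have e := hinv b (mem_erase.1 hb).1
        exact ⟨ξ b, by rw [show Kbar hA u v (ξ b) = Kbar hA u v ω from congrArg Prod.snd e, hK,
          AddSubgroup.card_top], congrArg Prod.fst e, rfl⟩
    rw [Finset.card_biUnion]
    · rw [Finset.sum_congr rfl (fun o ho => ?_), Finset.sum_const, smul_eq_mul,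
        Finset.card_insert_of_notMem]
      · intro hmem
        obtain ⟨b, hb, e⟩ := mem_image.1 hmem
        exact hout b (mem_erase.1 hb).1 e
      · obtain ⟨ν, hν, hZ, rfl⟩ := horb o ho
        show (orb hA u v ν).card = z
        rw [orb_eq_mul (r := 1) (by rw [one_mul, hν]), one_mul, hZ]
    · intro o ho o' ho' hne'
      obtain ⟨ν, -, -, rfl⟩ := horb o ho
      obtain ⟨ν', -, -, rfl⟩ := horb o' ho'
      rw [Function.onFun, Finset.disjoint_left]
      exact fun x hx hx' => hne' ((orb_eq hx).symm.trans (orb_eq hx'))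
  have h1 := Finset.card_le_card hsub
  rw [hcard] at h1
  calc z * (Nat.card (Wsp B u v) + Fintype.card F - 2)
      ≤ z * (O.card * (Fintype.card F - 1) + (Fintype.card F - 1)) := by
        refine Nat.mul_le_mul_left _ ?_
        have := Nat.card_pos (α := Wsp B u v)
        have := H.q3
        omega
    _ = (O.card + 1) * z * (Fintype.card F - 1) := by ring
    _ ≤ _ := Nat.mul_le_mul_right _ h1

/-- Points of another kind leave no room for a full image. -/
theorem not_full_and_other (H : Small hA Ω) (h : B u v = 1) {ω : Ω} (hax : ¬ Axis hA ω u)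
    (hF : Full hA ω u) {ν : Ω} (hax' : ¬ Axis hA ν u)
    (hν : Reg hA ν u ∨ (finrank F V = 4 ∧ Line hA ν u)) : False := by
  classical
  set q := Fintype.card F with hq
  set Q := Nat.card (Wsp B u v) with hQdef
  have hq3 : 3 ≤ q := H.q3
  have hQ2 : q ^ 2 ≤ Q := H.sq_le_W h
  have hn := H.smallW h
  rw [← hq, ← hQdef] at hn
  have h2 := two_eq_zero_of_full hA H.nd h H.dim hax hF
  have hzC := q_le_index_scales h2 (Zf_ne_top_iff.2 hax)
  have hzC' := q_le_index_scales h2 (Zf_ne_top_iff.2 hax')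
  have hKω : Nat.card (Kbar hA u v ω) = Q := by rw [(full_iff h).1 hF, AddSubgroup.card_top]
  set S := (ofCard (Ω := Ω) hA u v Q).card with hS
  have hbigS : q * (Q + q - 2) ≤ S * (q - 1) := by
    refine le_trans ?_ (Nat.mul_le_mul_right _ (cls_card_le ω hKω))
    refine le_trans ?_ (mul_le_pts_mul _ _ _ _ fun τ hτ =>
      (full_fibre H h hax hF).trans (Nat.mul_le_mul_right _ (fibre_cls hτ)))
    calc q * (Q + q - 2) ≤ (Zf hA ω u).index * (scales (Zf hA ω u)).card * (Q + q - 2) :=
          Nat.mul_le_mul_right _ hzC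
      _ ≤ (Zf hA ω u).index * (cls hA u v ω).card * (Q + q - 2) :=
          Nat.mul_le_mul_right _ (Nat.mul_le_mul_left _ (scales_le_cls h ω))
      _ = _ := by ring
  have htot : ∀ k, k ≠ Q → S + (ofCard (Ω := Ω) hA u v k).card ≤ Fintype.card Ω := fun k hk => by
    rw [hS, ← Finset.card_union_of_disjoint (disjoint_ofCard (Ne.symm hk))]
    exact Finset.card_le_univ _
  rcases hν with hR | ⟨h4, hL⟩
  · have hk1 : Nat.card (Kbar hA u v ν) = 1 := by rw [(reg_iff h).1 hR, AddSubgroup.card_bot]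
    have hL' := orb_eq_mul (hA := hA) (ω := ν) (r := Q) (by rw [hk1, mul_one])
    have hbigR : q * Q ≤ (ofCard (Ω := Ω) hA u v 1).card := by
      refine le_trans ?_ (cls_card_le ν hk1)
      refine le_trans ?_ (mul_le_pts _ _ _ fun τ hτ => orb_le_fibre hτ)
      rw [hL']
      calc q * Q ≤ (Zf hA ν u).index * (scales (Zf hA ν u)).card * Q := Nat.mul_le_mul_right _ hzC'
        _ ≤ (Zf hA ν u).index * (cls hA u v ν).card * Q :=
          Nat.mul_le_mul_right _ (Nat.mul_le_mul_left _ (scales_le_cls h ν))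
        _ = _ := by ring
    have h1 := htot 1 (fun e => by nlinarith)
    obtain ⟨r, hr⟩ : ∃ r, q = r + 1 := ⟨q - 1, by omega⟩
    obtain ⟨Q', hQ'⟩ : ∃ Q', Q = Q' + 1 := ⟨Q - 1, by have : 0 < Q := Nat.card_pos; omega⟩
    rw [hr, hQ', show Q' + 1 + (r + 1) - 2 = Q' + r by omega, Nat.add_sub_cancel] at hbigS
    rw [hr, hQ', Nat.add_sub_cancel] at hn
    rw [hr, hQ'] at hbigR
    nlinarith
  · have hd := finrank_Wsp (v := v) hA h
    have hQ : Q = q ^ 2 := by rw [hQdef, natCard_Wsp]; congr 1; omega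
    obtain ⟨a, hau, hat, hpure, hall⟩ := hL
    set a₀ := proj hA h a hau with ha₀
    have hline : ∀ x ∈ Kbar hA u v ν, ∃ t : F, x = t • a₀ := by
      intro x ⟨c, hc⟩
      obtain ⟨s, t, e⟩ := hall _ c (Wsp_left x) hc
      have e2 : B (x : V) v = 0 := alt_zero_symm hA (Wsp_right x)
      refine ⟨s, Subtype.ext ?_⟩
      rw [Submodule.coe_smul, e]
      have h5 : t = -(s * B a v) := by
        rw [e] at e2
        simp [h] at e2
        linear_combination e2
      simp only [ha₀, proj, h5]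
      module
    have hmem : ∀ t : F, t • a₀ ∈ Kbar hA u v ν := by
      intro t
      have := fix_rad_iff_Kbar h (by simp [hau]) (hpure t)
      convert this using 1
      refine Subtype.ext ?_
      simp only [ha₀, proj, Submodule.coe_smul, map_smul, LinearMap.smul_apply, smul_eq_mul]
      module
    have ha0 : a₀ ≠ 0 := by
      intro e
      refine hat (B a v) ?_
      conv_lhs => rw [proj_eq hA h a hau, ← ha₀, e, Submodule.coe_zero, zero_add]
    have hkq : Nat.card (Kbar hA u v ν) = q := by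
      refine le_antisymm (card_le_of_line hline) ?_
      rw [hq, ← Nat.card_eq_fintype_card]
      exact Nat.card_le_card_of_injective (fun t : F => (⟨_, hmem t⟩ : Kbar hA u v ν))
        fun s t e => smul_left_injective F ha0 (congrArg Subtype.val e)
    have hc := cover_le_one hA H.nd h natural_id (ω₀ := ν) (m := q) (fun ω' e => e.trans hkq)
      (by omega) (L := (orb hA u v ν).card) (fun τ hτ => orb_le_fibre hτ)
    rw [orb_eq_mul (hA := hA) (ω := ν) (r := q) (by rw [hkq, ← sq, ← hQ]), ← hQdef] at hc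
    have hbigL : q * q * (Q - 1) ≤ (ofCard (Ω := Ω) hA u v q).card * (q - 1) := by
      refine le_trans ?_ (hc.trans (Nat.mul_le_mul_right _ (cls_card_le ν hkq)))
      calc q * q * (Q - 1) ≤ (Zf hA ν u).index * (scales (Zf hA ν u)).card * q * (Q - 1) :=
            Nat.mul_le_mul_right _ (Nat.mul_le_mul_right _ hzC')
        _ = _ := by ring
    have h1 := Nat.mul_le_mul_right (q - 1) (htot q (fun e => by nlinarith))
    obtain ⟨Q', hQ'⟩ : ∃ Q', Q = Q' + 1 := ⟨Q - 1, by have : 0 < Q := Nat.card_pos; omega⟩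
    have e : Q + q - 2 = Q' + (q - 1) := by omega
    rw [e] at hbigS
    rw [hQ', Nat.add_sub_cancel] at hbigL
    rw [hQ'] at hn hQ2
    have h3 : q * Q' + q * (q - 1) + q * q * Q' ≤ Fintype.card Ω * (q - 1) := by
      rw [Nat.mul_add] at hbigS
      rw [Nat.add_mul] at h1
      omega
    have h5 : q * q ≤ q * Q' := Nat.mul_le_mul_left _ (by nlinarith)
    rw [show q ^ 2 * (Q' + 1) = q * q * Q' + q * q by ring] at hn
    omega

theorem sq_surjective (h2 : (2 : F) = 0) (y : F) : ∃ x : F, x * x = y := by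
  have hinj : Function.Injective fun x : F => x * x := fun a b e => by
    have : (a - b) * (a - b) = 0 := by linear_combination (e : a * a = b * b) + (b * b - a * b) * h2
    exact sub_eq_zero.1 (mul_self_eq_zero.1 this)
  exact (Finite.injective_iff_surjective.1 hinj) y

theorem rad_swap_smul (hw : B u v = 0) (X : F) :
    rad hA u (X • v) 0 = rad hA v (X • u) 0 := by
  have := rad_smul (hA := hA) hw X 0
  rw [mul_zero] at this
  rw [← this, rad_swap (by simp [hw])]

theorem tv_shift (h2 : (2 : F) = 0) {a : V} (hw : B u a = 0) (γ x : F) :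
    tv hA a γ * tv hA (a + x • u) γ = rad hA u ((γ * x) • a) (γ * (x * x)) := by
  refine Subtype.ext (LinearEquiv.ext fun y => ?_)
  rw [rad_apply (by simp [hw])]
  simp only [Subgroup.coe_mul, LinearEquiv.mul_apply, tv_apply, map_add, map_smul,
    LinearMap.add_apply, LinearMap.smul_apply, smul_eq_mul, hA a, hw, mul_zero, add_zero]
  linear_combination (norm := module) (γ * B y a) • (by rw [h2, zero_smul] : (2 : F) • a = 0)

/-- An element in the radical extended by a transvection at `a` determines the parameters. -/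
theorem gamma_step (H : Small hA Ω) (h2 : (2 : F) = 0) {ω : Ω} (hF : Full hA ω u) {a : V}
    (hua : B u a = 0) (hat : ∀ t : F, a ≠ t • u) {α β γ : F} (hγ : γ ≠ 0)
    (hy : (rad hA u (β • a) α * tv hA a γ) • ω = ω) (X : F) :
    rad hA u (X • a) (X * X / γ) • ω = ω := by
  obtain ⟨k, hk, hak⟩ := exists_perp_not_orth H.nd.2 (W := Submodule.span F ({u} : Set V))
    (x := a) (fun hmem => by
      obtain ⟨t, ht⟩ := Submodule.mem_span_singleton.1 hmem
      exact hat t ht.symm)
  have huk : B u k = 0 := mem_perp_span.1 hk u rfl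
  set ν := X / γ / B a k with hν
  obtain ⟨c, hc⟩ := hF (ν • k) (by simp [huk])
  set s := rad hA u (ν • k) c
  have h1 : (s * (rad hA u (β • a) α * tv hA a γ) * s⁻¹) • ω = ω :=
    mul_fix (mul_fix hc hy) (inv_fix hc)
  have hsa : s.1 a = a + (X / γ) • u := by
    rw [rad_apply (by simp [huk]), alt_zero_symm hA hua, map_smul, smul_eq_mul, hν,
      div_mul_cancel₀ _ hak]
    simp
  have h3 : s * (rad hA u (β • a) α * tv hA a γ) * s⁻¹ =
      rad hA u (β • a) α * tv hA (a + (X / γ) • u) γ := by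
    rw [← hsa, ← conj_tv, show s * (rad hA u (β • a) α * tv hA a γ) * s⁻¹ =
      (s * rad hA u (β • a) α * s⁻¹) * (s * tv hA a γ * s⁻¹) by group,
      rad_conj_rad (by simp [huk]) (by simp [hua]), h2, zero_mul, add_zero]
  rw [h3] at h1
  have h4 := mul_fix (inv_fix hy) h1
  rw [mul_inv_rev, tv_inv, show -γ = γ by linear_combination (-γ) * h2, mul_assoc,
    inv_mul_cancel_left, tv_shift h2 hua] at h4
  rwa [mul_div_cancel₀ _ hγ, show γ * (X / γ * (X / γ)) = X * X / γ by field_simp] at h4

theorem gamma_unique (H : Small hA Ω) (h2 : (2 : F) = 0) {ω : Ω} (hax : ¬ Axis hA ω u)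
    (hF : Full hA ω u) {a : V} (hua : B u a = 0) (hat : ∀ t : F, a ≠ t • u)
    {α β γ α' β' γ' : F} (hγ : γ ≠ 0) (hγ' : γ' ≠ 0)
    (hy : (rad hA u (β • a) α * tv hA a γ) • ω = ω)
    (hy' : (rad hA u (β' • a) α' * tv hA a γ') • ω = ω) : γ = γ' := by
  by_contra hne
  refine hax (axis_iff.2 (eq_top_of_mul (a := 1 / γ' - 1 / γ)
    (sub_ne_zero.2 fun e => hne (by field_simp at e; exact e)) fun y => ?_))
  obtain ⟨X, rfl⟩ := sq_surjective h2 y
  have := sub_mem_Zf (by simp [hua]) (gamma_step H h2 hF hua hat hγ hy X)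
    (gamma_step H h2 hF hua hat hγ' hy' X)
  convert this using 1
  ring

theorem not_full (H : Small hA Ω) {ω : Ω} (hu0 : u ≠ 0) (hax : ¬ Axis hA ω u) :
    ¬ Full hA ω u := by
  classical
  intro hF
  obtain ⟨v, h⟩ := alt_exists_partner H.nd.1 hu0
  have h2 := two_eq_zero_of_full hA H.nd h H.dim hax hF
  have hall : ∀ (ν : Ω) (a : V), a ≠ 0 → ¬ Axis hA ν a → Full hA ν a := by
    intro ν a ha hna
    obtain ⟨g, hg⟩ := H.exists_map ha hu0
    rcases trichotomy H ha hna with hR | hF' | ⟨h4, hL⟩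
    · exact absurd (hg ▸ hR.move g) fun hR' => not_full_and_other H h hax hF
        (hg ▸ fun hA' => hna ((axis_smul_iff g).1 hA')) (Or.inl hR')
    · exact hF'
    · exact absurd (hg ▸ hL.move g) fun hL' => not_full_and_other H h hax hF
        (hg ▸ fun hA' => hna ((axis_smul_iff g).1 hA')) (Or.inr ⟨h4, hL'⟩)
  obtain ⟨x₀, -, hx₀⟩ : ∃ x ∈ (Finset.univ : Finset F), x ∉ ({0, 1} : Finset F) :=
    Finset.exists_mem_notMem_of_card_lt_card (by
      rw [Finset.card_univ]; exact lt_of_le_of_lt Finset.card_le_two (by have := H.q3; omega))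
  simp only [Finset.mem_insert, Finset.mem_singleton, not_or] at hx₀
  have pure : ∀ a : V, B u a = 0 → (∀ t : F, a ≠ t • u) → ∀ x : F,
      rad hA u (x • a) 0 • ω = ω := by
    intro a hua hat x
    have ha0 : a ≠ 0 := fun e => hat 0 (by rw [e, zero_smul])
    have hna : ¬ Axis hA ω a := fun hA' => hx₀.2 (gamma_unique H h2 hax hF hua hat (α := 0)
      (β := 0) (α' := 0) (β' := 0) hx₀.1 one_ne_zero
      (by rw [zero_smul, rad_zero_zero, one_mul]; exact hA' x₀)
      (by rw [zero_smul, rad_zero_zero, one_mul]; exact hA' 1))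
    have hFa := hall ω a ha0 hna
    have hut : ∀ t : F, u ≠ t • a := fun t e => by
      by_cases ht : t = 0
      · exact hu0 (by rw [e, ht, zero_smul])
      · exact hat t⁻¹ (by rw [e, inv_smul_smul₀ ht])
    have hau := alt_zero_symm hA hua
    obtain ⟨c, hc⟩ := hFa (x • u) (by simp [hau])
    by_cases hc0 : c = 0
    · rw [hc0, ← rad_swap_smul hua] at hc
      exact hc
    exfalso
    have hy : (rad hA u (x • a) 0 * tv hA a c) • ω = ω := by
      rwa [rad_swap_smul hua, rad_mul_tv (by simp [hau]), zero_add]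
    have key : ∀ X : F, X ≠ 0 →
        (rad hA a (X • u) 0 * tv hA u (X * X / c)) • ω = ω ∧ X * X / c ≠ 0 := fun X hX => by
      refine ⟨?_, div_ne_zero (mul_ne_zero hX hX) hc0⟩
      rw [← rad_swap_smul hua, rad_mul_tv (by simp [hua]), zero_add]
      exact gamma_step H h2 hF hua hat hc0 hy X
    obtain ⟨k1, n1⟩ := key x₀ hx₀.1
    obtain ⟨k2, n2⟩ := key 1 one_ne_zero
    have e := gamma_unique H h2 hna hFa hau hut n1 n2 k1 k2
    rw [div_left_inj' hc0] at e
    have h0 : (x₀ - 1) * (x₀ - 1) = 0 := by linear_combination e + (1 - x₀) * h2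
    exact hx₀.2 (sub_eq_zero.1 (mul_self_eq_zero.1 h0))
  refine hax (axis_iff.2 ((AddSubgroup.eq_top_iff' _).2 fun x => ?_))
  have hd := finrank_Wsp (v := v) hA h
  have : Nontrivial (Wsp B u v) := Module.nontrivial_of_finrank_pos (R := F) (by
    have := H.dim; omega)
  obtain ⟨a, ha⟩ := exists_ne (0 : Wsp B u v)
  obtain ⟨b, hb⟩ := alt_exists_partner (Wsp_nondeg hA H.nd h).1 ha
  rw [restrictForm_apply] at hb
  have hne : ∀ w : Wsp B u v, w ≠ 0 → ∀ t : F, (w : V) ≠ t • u := fun w hw t e =>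
    hw (Wsp_eq_zero_of_mem hA h e)
  have hb0 : b ≠ 0 := fun e => by simp [e] at hb
  have hxb : x • a + b ≠ 0 := fun e => by
    have := congrArg (fun w : Wsp B u v => B (a : V) (w : V)) e
    simp [hA (a : V), hb] at this
  have p1 := mul_fix (pure _ (Wsp_left a) (hne a ha) x) (pure _ (Wsp_left b) (hne b hb0) 1)
  rw [one_smul, rad_mul (by simp [Wsp_left a]) (Wsp_left b)] at p1
  have p2 := pure _ (Wsp_left (x • a + b)) (hne _ hxb) 1
  rw [one_smul, Submodule.coe_add, Submodule.coe_smul] at p2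
  have := sub_mem_Zf (by simp [Wsp_left a, Wsp_left b]) p1 p2
  convert this using 1
  rw [map_smul, smul_eq_mul, alt_swap hA (b : V) (a : V), hb]
  linear_combination x * h2 * 0

end CfsgLib.KnownA.MinIndexSymp
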