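import Cfsg.Agent.Lib.KnownA.MinIndexSymp.Radical

/-!
# Orbits of the radical in a small action of a symplectic group
-/

set_option autoImplicit false
set_option linter.unusedSectionVars false

open Module MulAction CfsgLib.Classical Finset

namespace CfsgLib.KnownA.MinIndexSymp

variable {F : Type*} [Field F] {V : Type*} [AddCommGroup V] [Module F V] [FiniteDimensional F V]
  {B : V →ₗ[F] V →ₗ[F] F} {Ω : Type*} [MulAction (isomGroup B) Ω]

theorem mul_fix {g g' : isomGroup B} {ω : Ω} (h : g • ω = ω) (h' : g' • ω = ω) :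
    (g * g') • ω = ω := by rw [mul_smul, h', h]

theorem inv_fix {g : isomGroup B} {ω : Ω} (h : g • ω = ω) : g⁻¹ • ω = ω := by
  rw [inv_smul_eq_iff, h]

/-- The parameters of the transvections at `u` fixing `ω`. -/
def Zf (hA : B.IsAlt) (ω : Ω) (u : V) : AddSubgroup F where
  carrier := {c | tv hA u c • ω = ω}
  zero_mem' := by
    show tv hA u 0 • ω = ω
    rw [tv_zero, one_smul]
  add_mem' {a b} ha hb := by
    show tv hA u (a + b) • ω = ω
    rw [← tv_mul]
    exact mul_fix ha hb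
  neg_mem' {a} ha := by
    show tv hA u (-a) • ω = ω
    rw [← tv_inv]
    exact inv_fix ha

/-- All transvections at `v` fix `ω`. -/
def Axis (hA : B.IsAlt) (ω : Ω) (v : V) : Prop := ∀ c, tv hA v c • ω = ω

/-- Only transvections in the radical at `u` fix `ω`. -/
def Reg (hA : B.IsAlt) (ω : Ω) (u : V) : Prop :=
  ∀ w c, B u w = 0 → rad hA u w c • ω = ω → ∃ t : F, w = t • u

/-- The stabiliser covers the radical modulo transvections. -/
def Full (hA : B.IsAlt) (ω : Ω) (u : V) : Prop :=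
  ∀ w, B u w = 0 → ∃ c, rad hA u w c • ω = ω

/-- The stabiliser covers exactly a line modulo transvections, and this with pure elements. -/
def Line (hA : B.IsAlt) (ω : Ω) (u : V) : Prop :=
  ∃ a, B u a = 0 ∧ (∀ t : F, a ≠ t • u) ∧ (∀ μ : F, rad hA u (μ • a) 0 • ω = ω) ∧
    ∀ w c, B u w = 0 → rad hA u w c • ω = ω → ∃ s t : F, w = s • a + t • u

variable {hA : B.IsAlt}

theorem mem_Zf {ω : Ω} {u : V} {c : F} : c ∈ Zf hA ω u ↔ tv hA u c • ω = ω := Iff.rfl

theorem axis_iff {ω : Ω} {u : V} : Axis hA ω u ↔ Zf hA ω u = ⊤ :=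
  ⟨fun h => (AddSubgroup.eq_top_iff' _).2 h, fun h c => (AddSubgroup.eq_top_iff' _).1 h c⟩

theorem axis_iff_isAxis {ω : Ω} {u : V} :
    Axis hA ω u ↔ IsAxis hA (stabilizer (isomGroup B) ω) u := Iff.rfl

theorem fix_conj (g x : isomGroup B) (ω : Ω) : (g * x * g⁻¹) • g • ω = g • ω ↔ x • ω = ω := by
  rw [mul_smul, mul_smul, inv_smul_smul, smul_left_cancel_iff]

theorem fix_rad_smul (g : isomGroup B) {u w : V} {c : F} {ω : Ω} :
    rad hA (g.1 u) (g.1 w) c • g • ω = g • ω ↔ rad hA u w c • ω = ω := by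
  rw [← rad_conj, fix_conj]

theorem fix_tv_smul (g : isomGroup B) {u : V} {c : F} {ω : Ω} :
    tv hA (g.1 u) c • g • ω = g • ω ↔ tv hA u c • ω = ω := by
  rw [← conj_tv, fix_conj]

theorem Axis.move {ω : Ω} {u : V} (h : Axis hA ω u) (g : isomGroup B) : Axis hA (g • ω) (g.1 u) :=
  fun c => (fix_tv_smul g).2 (h c)

theorem axis_smul_iff (g : isomGroup B) {ω : Ω} {u : V} :
    Axis hA (g • ω) (g.1 u) ↔ Axis hA ω u := by
  refine ⟨fun h => ?_, fun h => h.move g⟩
  have := h.move g⁻¹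
  rwa [inv_smul_smul, inv_apply_self] at this

theorem Axis.scale {ω : Ω} {u : V} (h : Axis hA ω u) (a : F) : Axis hA ω (a • u) := fun c => by
  rw [tv_smul]; exact h _

theorem axis_smul_vec_iff {ω : Ω} {u : V} {a : F} (ha : a ≠ 0) :
    Axis hA ω (a • u) ↔ Axis hA ω u := by
  refine ⟨fun h => ?_, fun h => h.scale a⟩
  have := h.scale a⁻¹
  rwa [smul_smul, inv_mul_cancel₀ ha, one_smul] at this

theorem Reg.move {ω : Ω} {u : V} (h : Reg hA ω u) (g : isomGroup B) : Reg hA (g • ω) (g.1 u) := by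
  intro w c hw hfix
  obtain ⟨w₀, rfl⟩ : ∃ w₀, g.1 w₀ = w := ⟨_, apply_inv_self g w⟩
  rw [isomGroup_apply] at hw
  obtain ⟨t, rfl⟩ := h w₀ c hw ((fix_rad_smul g).1 hfix)
  exact ⟨t, map_smul _ _ _⟩

theorem Full.move {ω : Ω} {u : V} (h : Full hA ω u) (g : isomGroup B) :
    Full hA (g • ω) (g.1 u) := by
  intro w hw
  obtain ⟨w₀, rfl⟩ : ∃ w₀, g.1 w₀ = w := ⟨_, apply_inv_self g w⟩
  rw [isomGroup_apply] at hw
  obtain ⟨c, hc⟩ := h w₀ hw
  exact ⟨c, (fix_rad_smul g).2 hc⟩

theorem Line.move {ω : Ω} {u : V} (h : Line hA ω u) (g : isomGroup B) :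
    Line hA (g • ω) (g.1 u) := by
  obtain ⟨a, ha, hau, hpure, hall⟩ := h
  refine ⟨g.1 a, by rw [isomGroup_apply, ha], fun t e => hau t (g.1.injective (by rw [e, map_smul])),
    fun μ => by rw [← map_smul]; exact (fix_rad_smul g).2 (hpure μ), ?_⟩
  intro w c hw hfix
  obtain ⟨w₀, rfl⟩ : ∃ w₀, g.1 w₀ = w := ⟨_, apply_inv_self g w⟩
  rw [isomGroup_apply] at hw
  obtain ⟨s, t, rfl⟩ := hall w₀ c hw ((fix_rad_smul g).1 hfix)
  exact ⟨s, t, by rw [map_add, map_smul, map_smul]⟩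

variable [Fintype F] [Fintype Ω]

/-- A small action of a symplectic group. -/
structure Small (hA : B.IsAlt) (Ω : Type*) [Fintype Ω] [MulAction (isomGroup B) Ω] : Prop where
  nd : B.Nondegenerate
  q3 : 3 ≤ Fintype.card F
  dim : 4 ≤ finrank F V
  exc : finrank F V = 4 → 4 ≤ Fintype.card F
  small : Fintype.card Ω * (Fintype.card F - 1) + 1 < Fintype.card F ^ finrank F V
  trans : ∀ ω ν : Ω, ∃ g : isomGroup B, g • ω = ν

/-- The space perpendicular to a hyperbolic pair. -/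
abbrev Wsp (B : V →ₗ[F] V →ₗ[F] F) (u v : V) : Submodule F V :=
  perp B (Submodule.span F ({u, v} : Set V))

variable {u v : V}

theorem mem_Wsp {w : V} : w ∈ Wsp B u v ↔ B u w = 0 ∧ B v w = 0 := by
  simp [Wsp, mem_perp_span]

theorem Wsp_left (w : Wsp B u v) : B u (w : V) = 0 := (mem_Wsp.1 w.2).1

theorem Wsp_right (w : Wsp B u v) : B v (w : V) = 0 := (mem_Wsp.1 w.2).2

/-- The projection of a vector perpendicular to `u`. -/
def proj (hA : B.IsAlt) (h : B u v = 1) (w : V) (hw : B u w = 0) : Wsp B u v :=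
  ⟨w - B w v • u, mem_Wsp.2 ⟨by rw [map_sub, map_smul, hw, hA u, smul_zero, sub_zero], by
    rw [map_sub, map_smul, alt_swap hA v u, h, alt_swap hA v w, smul_eq_mul]; ring⟩⟩

theorem proj_eq (hA : B.IsAlt) (h : B u v = 1) (w : V) (hw : B u w = 0) :
    w = (proj hA h w hw : V) + B w v • u := by simp [proj]

theorem rad_proj (hA : B.IsAlt) (h : B u v = 1) {w : V} (hw : B u w = 0) (c : F) :
    rad hA u w c = rad hA u (proj hA h w hw : V) (c + 2 * B w v) := by
  conv_lhs => rw [proj_eq hA h w hw]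
  rw [rad_shift (Wsp_left _)]

theorem finrank_Wsp (hA : B.IsAlt) (h : B u v = 1) :
    finrank F (Wsp B u v) + 2 = finrank F V := finrank_perp_pair_lt hA h

theorem card_Wsp (hA : B.IsAlt) (h : B u v = 1) :
    Nat.card (Wsp B u v) * Fintype.card F ^ 2 = Fintype.card F ^ finrank F V := by
  rw [Module.natCard_eq_pow_finrank (K := F), Nat.card_eq_fintype_card, ← pow_add,
    finrank_Wsp hA h]

/-- The image of the stabiliser in the space perpendicular to the pair. -/
def Kbar (hA : B.IsAlt) (u v : V) (ω : Ω) : AddSubgroup (Wsp B u v) where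
  carrier := {w | ∃ c, rad hA u (w : V) c • ω = ω}
  zero_mem' := ⟨0, by rw [Submodule.coe_zero, rad_zero_zero, one_smul]⟩
  add_mem' := by
    rintro a b ⟨c, hc⟩ ⟨d, hd⟩
    refine ⟨c + d + B (b : V) (a : V), ?_⟩
    rw [Submodule.coe_add, ← rad_mul (Wsp_left a) (Wsp_left b)]
    exact mul_fix hc hd
  neg_mem' := by
    rintro a ⟨c, hc⟩
    refine ⟨-c, ?_⟩
    rw [Submodule.coe_neg, ← rad_inv (Wsp_left a)]
    exact inv_fix hc

theorem mem_Kbar {ω : Ω} {w : Wsp B u v} :
    w ∈ Kbar hA u v ω ↔ ∃ c, rad hA u (w : V) c • ω = ω := Iff.rfl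

/-- The radical element with given parameters. -/
def X (hA : B.IsAlt) (u v : V) (p : Wsp B u v × F) : isomGroup B := rad hA u (p.1 : V) p.2

theorem X_mul (p p' : Wsp B u v × F) :
    X hA u v p * X hA u v p' = X hA u v (p.1 + p'.1, p.2 + p'.2 + B (p'.1 : V) (p.1 : V)) :=
  rad_mul (Wsp_left _) (Wsp_left _) _ _

theorem X_inv (p : Wsp B u v × F) : (X hA u v p)⁻¹ = X hA u v (-p.1, -p.2) := rad_inv (Wsp_left _) _

/-- The orbit of the radical. -/
noncomputable def orb (hA : B.IsAlt) (u v : V) (ω : Ω) : Finset Ω := by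
  classical exact (Set.range fun p : Wsp B u v × F => X hA u v p • ω).toFinite.toFinset

theorem mem_orb {ω ν : Ω} : ν ∈ orb hA u v ω ↔ ∃ p, X hA u v p • ω = ν := by
  simp [orb]

theorem self_mem_orb (ω : Ω) : ω ∈ orb hA u v ω :=
  mem_orb.2 ⟨(0, 0), by rw [X, Submodule.coe_zero, rad_zero_zero, one_smul]⟩

theorem orb_eq {ω ν : Ω} (h : ν ∈ orb hA u v ω) : orb hA u v ν = orb hA u v ω := by
  obtain ⟨p, rfl⟩ := mem_orb.1 h
  ext ξ
  simp only [mem_orb]
  constructor
  · rintro ⟨r, rfl⟩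
    exact ⟨_, by rw [← X_mul, mul_smul]⟩
  · rintro ⟨r, rfl⟩
    refine ⟨(r.1 + -p.1, r.2 + -p.2 + B ((-p.1 : Wsp B u v) : V) (r.1 : V)), ?_⟩
    rw [← X_mul r (-p.1, -p.2), ← X_inv, mul_smul, inv_smul_smul]

theorem Zf_of_mem {ω ν : Ω} (h : ν ∈ orb hA u v ω) : Zf hA ν u = Zf hA ω u := by
  obtain ⟨p, rfl⟩ := mem_orb.1 h
  ext c
  rw [mem_Zf, mem_Zf, ← fix_conj (X hA u v p) (tv hA u c) ω, X, ← rad_zero (hA := hA),
    rad_conj_rad (Wsp_left _) (map_zero _)]
  simp

theorem Kbar_of_mem {ω ν : Ω} (h : ν ∈ orb hA u v ω) : Kbar hA u v ν = Kbar hA u v ω := by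
  have key : ∀ {ω ν : Ω}, ν ∈ orb hA u v ω → Kbar hA u v ω ≤ Kbar hA u v ν := by
    intro ω ν h w hw
    obtain ⟨p, rfl⟩ := mem_orb.1 h
    obtain ⟨c, hc⟩ := hw
    refine ⟨c + 2 * B (w : V) (p.1 : V), ?_⟩
    rw [← rad_conj_rad (Wsp_left p.1) (Wsp_left w) p.2 c]
    exact (fix_conj (X hA u v p) _ ω).2 hc
  exact le_antisymm (key (by rw [orb_eq h]; exact self_mem_orb ω)) (key h)

theorem card_orb (ω : Ω) : (orb hA u v ω).card * Nat.card (Kbar hA u v ω) =
    Nat.card (Wsp B u v) * (Zf hA ω u).index := by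
  classical
  have : Finite (Wsp B u v) := Module.finite_of_finite F
  have := Fintype.ofFinite (Wsp B u v)
  let K : Finset (Wsp B u v × F) := univ.filter fun p => rad hA u (p.1 : V) p.2 • ω = ω
  have h1 : (orb hA u v ω).card * K.card = Fintype.card (Wsp B u v × F) := by
    rw [← card_univ, Finset.card_eq_sum_card_fiberwise
      (s := (univ : Finset (Wsp B u v × F))) (f := fun p : Wsp B u v × F => X hA u v p • ω)
      (t := orb hA u v ω) (fun p _ => mem_orb.2 ⟨p, rfl⟩), ← smul_eq_mul, ← Finset.sum_const]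
    refine Finset.sum_congr rfl fun ν hν => ?_
    obtain ⟨p, rfl⟩ := mem_orb.1 hν
    refine Finset.card_bij' (fun r _ => (p.1 + r.1, p.2 + r.2 + B (r.1 : V) (p.1 : V)))
      (fun r _ => (-p.1 + r.1, -p.2 + r.2 + B (r.1 : V) ((-p.1 : Wsp B u v) : V))) ?_ ?_ ?_ ?_
    · intro r hr
      simp only [K, mem_filter, mem_univ, true_and] at hr ⊢
      change X hA u v r • ω = ω at hr
      rw [← X_mul, mul_smul, hr]
    · intro r hr
      simp only [K, mem_filter, mem_univ, true_and] at hr ⊢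
      change X hA u v (-p.1 + r.1, -p.2 + r.2 + B (r.1 : V) ((-p.1 : Wsp B u v) : V)) • ω = ω
      rw [← X_mul (-p.1, -p.2) r, mul_smul, hr, ← X_inv, inv_smul_smul]
    · intro r _
      refine Prod.ext (by simp) ?_
      simp [hA (p.1 : V)]
      ring
    · intro r _
      refine Prod.ext (by simp) ?_
      simp [hA (p.1 : V)]
      ring
  have h2 : K.card = Nat.card (Kbar hA u v ω) * Nat.card (Zf hA ω u) := by
    rw [← Nat.card_eq_finsetCard, ← Nat.card_prod]
    choose f hf using fun w : Kbar hA u v ω => w.2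
    refine (Nat.card_congr (Equiv.ofBijective (fun z : Kbar hA u v ω × Zf hA ω u =>
      (⟨(z.1.1, f z.1 + z.2.1), by
        simp only [K, mem_filter, mem_univ, true_and]
        rw [← rad_mul_tv (Wsp_left z.1.1)]
        exact mul_fix (hf z.1) z.2.2⟩ : K)) ⟨?_, ?_⟩)).symm
    · rintro ⟨a, b⟩ ⟨a', b'⟩ h
      simp only [Subtype.mk.injEq, Prod.mk.injEq] at h
      obtain rfl := Subtype.ext h.1
      exact Prod.ext rfl (Subtype.ext (add_left_cancel h.2))
    · rintro ⟨⟨w, c⟩, hwc⟩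
      simp only [K, mem_filter, mem_univ, true_and] at hwc
      refine ⟨(⟨w, c, hwc⟩, ⟨c - f ⟨w, c, hwc⟩, ?_⟩), by simp⟩
      have h0 := hf ⟨w, c, hwc⟩
      rw [mem_Zf, show c - f ⟨w, c, hwc⟩ = -f ⟨w, c, hwc⟩ + c by ring, ← tv_mul, mul_smul]
      have e : rad hA u (w : V) c = rad hA u (w : V) 0 * tv hA u c := by
        rw [rad_mul_tv (Wsp_left w), zero_add]
      have e' : rad hA u (w : V) (f ⟨w, c, hwc⟩) =
          rad hA u (w : V) 0 * tv hA u (f ⟨w, c, hwc⟩) := by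
        rw [rad_mul_tv (Wsp_left w), zero_add]
      change rad hA u (w : V) (f ⟨w, c, hwc⟩) • ω = ω at h0
      rw [e, mul_smul] at hwc
      rw [e', mul_smul] at h0
      have h3 := smul_left_cancel _ (hwc.trans h0.symm)
      rw [h3, ← mul_smul, tv_mul, neg_add_cancel, tv_zero, one_smul]
  rw [h2, Fintype.card_prod, ← Nat.card_eq_fintype_card, ← Nat.card_eq_fintype_card,
    ← index_mul_card (Zf hA ω u), ← mul_assoc, ← mul_assoc] at h1
  exact Nat.eq_of_mul_eq_mul_right Nat.card_pos h1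

variable (hA u v)

/-- The points whose invariant lies in a given set. -/
noncomputable def pts {β : Type*} (f : Ω → β) (T : Finset β) : Finset Ω := by
  classical exact univ.filter fun ω => f ω ∈ T

variable {hA u v}

theorem mem_pts {β : Type*} {f : Ω → β} {T : Finset β} {ω : Ω} : ω ∈ pts f T ↔ f ω ∈ T := by
  classical simp [pts]

/-- Counting points through an invariant with large fibres. -/
theorem mul_le_pts {β : Type*} (f : Ω → β) (T : Finset β) (L : ℕ)
    (h : ∀ τ ∈ T, L ≤ (pts f {τ}).card) : T.card * L ≤ (pts f T).card := by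
  classical
  rw [mul_comm]
  calc L * T.card = ∑ _τ ∈ T, L := by rw [Finset.sum_const, smul_eq_mul, mul_comm]
    _ ≤ ∑ τ ∈ T, (pts f {τ}).card := Finset.sum_le_sum h
    _ = (pts f T).card := by
        rw [← Finset.card_biUnion]
        · congr 1
          ext ω
          simp [mem_pts]
        · intro a _ b _ hab
          simp only [Finset.disjoint_left, mem_pts, mem_singleton]
          exact fun ω h1 h2 => hab (h1.symm.trans h2)

theorem mul_le_card {β : Type*} (f : Ω → β) (T : Finset β) (L : ℕ)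
    (h : ∀ τ ∈ T, L ≤ (pts f {τ}).card) : T.card * L ≤ Fintype.card Ω :=
  (mul_le_pts f T L h).trans (Finset.card_le_univ _)

/-- An invariant constant on orbits has the orbit in its fibre. -/
theorem orb_subset_pts {β : Type*} {f : Ω → β}
    (hf : ∀ {ω ν : Ω}, ν ∈ orb hA u v ω → f ν = f ω) {τ : β} {ω : Ω} (h : f ω = τ) :
    orb hA u v ω ⊆ pts f {τ} := fun ν hν => by
  rw [mem_pts, mem_singleton, hf hν, h]

/-- Two different orbits in one fibre. -/
theorem orb_add_orb_le {β : Type*} {f : Ω → β}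
    (hf : ∀ {ω ν : Ω}, ν ∈ orb hA u v ω → f ν = f ω) {τ : β} {ω ω' : Ω} (h : f ω = τ)
    (h' : f ω' = τ) (hne : ω' ∉ orb hA u v ω) :
    (orb hA u v ω).card + (orb hA u v ω').card ≤ (pts f {τ}).card := by
  classical
  rw [← Finset.card_union_of_disjoint]
  · exact Finset.card_le_card
      (Finset.union_subset (orb_subset_pts hf h) (orb_subset_pts hf h'))
  · rw [Finset.disjoint_left]
    intro ν h1 h2
    exact hne (by rw [← orb_eq h1, orb_eq h2]; exact self_mem_orb ω')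

section Frame

variable (g : isomGroup B)

/-- An isometry fixing the pair, restricted to the perpendicular space. -/
def onW (hgu : g.1 u = u) (hgv : g.1 v = v) (w : Wsp B u v) : Wsp B u v :=
  ⟨g.1 (w : V), mem_Wsp.2
    ⟨(congrArg (fun z => B z (g.1 (w : V))) hgu.symm).trans
      ((isomGroup_apply g _ _).trans (Wsp_left w)),
    (congrArg (fun z => B z (g.1 (w : V))) hgv.symm).trans
      ((isomGroup_apply g _ _).trans (Wsp_right w))⟩⟩

theorem mem_Kbar_move (hgu : g.1 u = u) (hgv : g.1 v = v) {ω : Ω} {w : Wsp B u v}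
    (h : w ∈ Kbar hA u v ω) : onW g hgu hgv w ∈ Kbar hA u v (g • ω) := by
  obtain ⟨c, hc⟩ := h
  refine ⟨c, ?_⟩
  have := (fix_rad_smul g).2 hc
  rwa [hgu] at this

theorem Zf_move (hgu : g.1 u = u) (ω : Ω) : Zf hA (g • ω) u = Zf hA ω u := by
  ext c
  have := fix_tv_smul (hA := hA) g (u := u) (c := c) (ω := ω)
  rwa [hgu] at this

theorem card_Kbar_move (hgu : g.1 u = u) (hgv : g.1 v = v) (ω : Ω) :
    Nat.card (Kbar hA u v (g • ω)) = Nat.card (Kbar hA u v ω) := by
  have key : ∀ (g : isomGroup B) (hgu : g.1 u = u) (hgv : g.1 v = v) (ω : Ω),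
      Nat.card (Kbar hA u v ω) ≤ Nat.card (Kbar hA u v (g • ω)) := by
    intro g hgu hgv ω
    have : Finite (Wsp B u v) := Module.finite_of_finite F
    exact Nat.card_le_card_of_injective (fun w => (⟨_, mem_Kbar_move g hgu hgv w.2⟩ :
      Kbar hA u v (g • ω))) fun a b h => by
        have h' : g.1 ((a : Wsp B u v) : V) = g.1 ((b : Wsp B u v) : V) :=
          congrArg (fun z : Kbar hA u v (g • ω) => ((z : Wsp B u v) : V)) h
        exact Subtype.ext (Subtype.ext (g.1.injective h'))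
  refine le_antisymm ?_ (key g hgu hgv ω)
  have hu' : (g⁻¹ : isomGroup B).1 u = u := by conv_lhs => rw [← hgu, inv_apply_self]
  have hv' : (g⁻¹ : isomGroup B).1 v = v := by conv_lhs => rw [← hgv, inv_apply_self]
  have := key g⁻¹ hu' hv' (g • ω)
  rwa [inv_smul_smul] at this

theorem orb_move_mem (hgu : g.1 u = u) (hgv : g.1 v = v) {ω ν : Ω} (h : ν ∈ orb hA u v ω) :
    g • ν ∈ orb hA u v (g • ω) := by
  obtain ⟨p, rfl⟩ := mem_orb.1 h
  refine mem_orb.2 ⟨(onW g hgu hgv p.1, p.2), ?_⟩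
  have e := rad_conj (hA := hA) g u (p.1 : V) p.2
  rw [hgu] at e
  change rad hA u (g.1 (p.1 : V)) p.2 • g • ω = g • rad hA u (p.1 : V) p.2 • ω
  rw [← mul_smul, ← mul_smul, ← e, inv_mul_cancel_right]

end Frame

theorem fix_tor_rad (h : B u v = 1) {lam : F} (hl : lam ≠ 0) {ω : Ω} {w : Wsp B u v} {c : F} :
    rad hA u (lam • (w : V)) (lam * lam * c) • tor hA h hl • ω = tor hA h hl • ω ↔
      rad hA u (w : V) c • ω = ω := by
  have := fix_rad_smul (hA := hA) (tor hA h hl) (u := u) (w := (w : V)) (c := c) (ω := ω)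
  rw [tor_left, tor_fix h hl (Wsp_left w) (alt_zero_symm hA (Wsp_right w)), rad_smul (Wsp_left w)]
    at this
  exact this

theorem Zf_tor (h : B u v = 1) {lam : F} (hl : lam ≠ 0) (ω : Ω) :
    Zf hA (tor hA h hl • ω) u = scale (lam * lam) (Zf hA ω u) := by
  ext c
  rw [mem_scale (mul_ne_zero hl hl), mem_Zf, mem_Zf, ← rad_zero (hA := hA), ← rad_zero (hA := hA)]
  have := fix_tor_rad (hA := hA) (ω := ω) h hl (w := 0) (c := (lam * lam)⁻¹ * c)
  rwa [Submodule.coe_zero, smul_zero, mul_inv_cancel_left₀ (mul_ne_zero hl hl)] at this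

theorem mem_Kbar_tor (h : B u v = 1) {lam : F} (hl : lam ≠ 0) {ω : Ω} {w : Wsp B u v}
    (hw : w ∈ Kbar hA u v ω) : lam • w ∈ Kbar hA u v (tor hA h hl • ω) := by
  obtain ⟨c, hc⟩ := hw
  exact ⟨lam * lam * c, by rw [Submodule.coe_smul]; exact (fix_tor_rad h hl).2 hc⟩

theorem card_Kbar_tor (h : B u v = 1) {lam : F} (hl : lam ≠ 0) (ω : Ω) :
    Nat.card (Kbar hA u v (tor hA h hl • ω)) = Nat.card (Kbar hA u v ω) := by
  have : Finite (Wsp B u v) := Module.finite_of_finite F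
  refine le_antisymm ?_ (Nat.card_le_card_of_injective
    (fun w => (⟨_, mem_Kbar_tor h hl w.2⟩ : Kbar hA u v (tor hA h hl • ω))) fun a b e =>
      Subtype.ext (smul_right_injective _ hl (congrArg Subtype.val e)))
  refine Nat.card_le_card_of_injective (fun w => (⟨lam⁻¹ • (w : Wsp B u v), ?_⟩ : Kbar hA u v ω))
    fun a b e => Subtype.ext (smul_right_injective _ (inv_ne_zero hl) (congrArg Subtype.val e))
  obtain ⟨c, hc⟩ := w.2
  refine ⟨lam⁻¹ * lam⁻¹ * c, (fix_tor_rad h hl).1 ?_⟩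
  convert hc using 3
  · rw [Submodule.coe_smul, smul_smul, mul_inv_cancel₀ hl, one_smul]
  · field_simp

end CfsgLib.KnownA.MinIndexSymp
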