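import Cfsg.Agent.Lib.KnownA.MinIndexSymp.Cover
import Mathlib.Analysis.Fourier.FiniteAbelian.PontryaginDuality

/-!
# The orthogonal of an additive subgroup through a character
-/

set_option autoImplicit false
set_option linter.unusedSectionVars false

open Module MulAction CfsgLib.Classical Finset

namespace CfsgLib.KnownA.MinIndexSymp

variable {F : Type*} [Field F] {V : Type*} [AddCommGroup V] [Module F V] [FiniteDimensional F V]
  {B : V →ₗ[F] V →ₗ[F] F} {Ω : Type*} [MulAction (isomGroup B) Ω] {hA : B.IsAlt}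
  [Fintype F] [Fintype Ω] {u v : V}

/-- The orthogonal of `K` through the character `ψ`. -/
def charPerp (ψ : AddChar F ℂ) (K : AddSubgroup (Wsp B u v)) : AddSubgroup (Wsp B u v) where
  carrier := {y | ∀ k ∈ K, ψ (B (y : V) (k : V)) = 1}
  zero_mem' k _ := by simp
  add_mem' {a b} ha hb k hk := by
    rw [Submodule.coe_add, map_add, LinearMap.add_apply, AddChar.map_add_eq_mul, ha k hk, hb k hk,
      one_mul]
  neg_mem' {a} ha k hk := by
    rw [Submodule.coe_neg, map_neg, LinearMap.neg_apply, AddChar.map_neg_eq_inv, ha k hk, inv_one]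

theorem mem_charPerp {ψ : AddChar F ℂ} {K : AddSubgroup (Wsp B u v)} {y : Wsp B u v} :
    y ∈ charPerp ψ K ↔ ∀ k ∈ K, ψ (B (y : V) (k : V)) = 1 := Iff.rfl

theorem card_addChar (A : Type*) [AddCommGroup A] [Finite A] :
    Nat.card (AddChar A ℂ) = Nat.card A := by
  have := Fintype.ofFinite A
  rw [Nat.card_eq_fintype_card, Nat.card_eq_fintype_card, AddChar.card_eq]

/-- A character trivial on a subgroup, on the quotient. -/
noncomputable def quotChar {A : Type*} [AddCommGroup A] (P : AddSubgroup A) (χ : AddChar A ℂ)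
    (hP : ∀ a ∈ P, χ a = 1) : AddChar (A ⧸ P) ℂ where
  toFun := Quotient.lift χ fun a b hab => by
    have h := hP _ (QuotientAddGroup.leftRel_apply.1 hab)
    have : χ b = χ a * χ (-a + b) := by rw [← AddChar.map_add_eq_mul, add_neg_cancel_left]
    rw [this, h, mul_one]
  map_zero_eq_one' := χ.map_zero_eq_one
  map_add_eq_mul' x y := by
    induction x using QuotientAddGroup.induction_on with | H a => ?_
    induction y using QuotientAddGroup.induction_on with | H b => ?_
    exact χ.map_add_eq_mul a b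

theorem quotChar_mk {A : Type*} [AddCommGroup A] (P : AddSubgroup A) (χ : AddChar A ℂ)
    (hP : ∀ a ∈ P, χ a = 1) (a : A) : quotChar P χ hP (a : A ⧸ P) = χ a := rfl

/-- The orders multiply to the order of the whole space. -/
theorem card_charPerp (hA : B.IsAlt) (hN : B.Nondegenerate) (h : B u v = 1) {ψ : AddChar F ℂ}
    (hψ : ∃ x, ψ x ≠ 1) (K : AddSubgroup (Wsp B u v)) :
    Nat.card (charPerp ψ K) * Nat.card K = Nat.card (Wsp B u v) := by
  classical
  have hNW := Wsp_nondeg hA hN h
  set P := charPerp ψ K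
  let pair : Wsp B u v → AddChar K ℂ := fun y =>
    ψ.compAddMonoidHom ((B (y : V)).toAddMonoidHom.comp
      ((Wsp B u v).subtype.toAddMonoidHom.comp K.subtype))
  have hpair : ∀ y (k : K), pair y k = ψ (B (y : V) ((k : Wsp B u v) : V)) := fun y k => rfl
  let cop : K → AddChar (Wsp B u v) ℂ := fun k =>
    ψ.compAddMonoidHom ((B.flip ((k : Wsp B u v) : V)).toAddMonoidHom.comp
      (Wsp B u v).subtype.toAddMonoidHom)
  have hcop : ∀ (k : K) y, cop k y = ψ (B (y : V) ((k : Wsp B u v) : V)) := fun k y => rfl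
  have h1 : Nat.card (Wsp B u v ⧸ P) ≤ Nat.card K := by
    rw [← card_addChar K]
    refine Nat.card_le_card_of_injective
      (Quotient.lift pair fun a b hab => AddChar.ext _ _ fun k => ?_) ?_
    · have hab' := (QuotientAddGroup.leftRel_apply.1 hab) k k.2
      rw [hpair, hpair]
      have e : (b : V) = (a : V) + ((-a + b : Wsp B u v) : V) := by simp
      rw [e, map_add, LinearMap.add_apply, AddChar.map_add_eq_mul, hab', mul_one]
    · intro a b
      induction a using QuotientAddGroup.induction_on with | H a => ?_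
      induction b using QuotientAddGroup.induction_on with | H b => ?_
      intro e
      refine QuotientAddGroup.eq.2 fun k hk => ?_
      have e' : pair a ⟨k, hk⟩ = pair b ⟨k, hk⟩ := DFunLike.congr_fun e _
      rw [hpair, hpair] at e'
      rw [Submodule.coe_add, map_add, LinearMap.add_apply, Submodule.coe_neg, map_neg,
        LinearMap.neg_apply, AddChar.map_add_eq_mul, AddChar.map_neg_eq_inv, e',
        inv_mul_cancel₀ (ψ.val_isUnit _).ne_zero]
  have h2 : Nat.card K ≤ Nat.card (Wsp B u v ⧸ P) := by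
    rw [← card_addChar (Wsp B u v ⧸ P)]
    refine Nat.card_le_card_of_injective
      (fun k => quotChar P (cop k) fun y hy => (hcop k y).trans (hy k k.2)) fun k k' e => ?_
    by_contra hne
    have hd : ((k : Wsp B u v) - (k' : Wsp B u v)) ≠ 0 := fun e0 =>
      hne (Subtype.ext (sub_eq_zero.1 e0))
    obtain ⟨y, hy⟩ : ∃ y : Wsp B u v, B (y : V) (((k : Wsp B u v) - (k' : Wsp B u v) : Wsp B u v) : V) ≠ 0 := by
      by_contra! hall
      exact hd (hNW.2 _ hall)
    obtain ⟨x, hx⟩ := hψ
    set d := B (y : V) (((k : Wsp B u v) - (k' : Wsp B u v) : Wsp B u v) : V) with hd'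
    have e' : cop k ((x / d) • y) = cop k' ((x / d) • y) := by
      have := DFunLike.congr_fun e (((x / d) • y : Wsp B u v) : Wsp B u v ⧸ P)
      simpa [quotChar_mk] using this
    apply hx
    have hx' : x = B ((((x / d) • y : Wsp B u v)) : V) ((k : Wsp B u v) : V) +
        -B ((((x / d) • y : Wsp B u v)) : V) ((k' : Wsp B u v) : V) := by
      rw [← sub_eq_add_neg, ← map_sub, Submodule.coe_smul, map_smul, LinearMap.smul_apply,
        ← Submodule.coe_sub, ← hd', smul_eq_mul, div_mul_cancel₀ _ hy]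
    rw [hx', AddChar.map_add_eq_mul, AddChar.map_neg_eq_inv, ← hcop, ← hcop, e',
      mul_inv_cancel₀ (AddChar.val_isUnit _ _).ne_zero]
  rw [← le_antisymm h1 h2, mul_comm, ← AddSubgroup.card_eq_card_quotient_mul_card_addSubgroup]

theorem natural_charPerp (ψ : AddChar F ℂ) :
    Natural (B := B) (u := u) (v := v) (charPerp ψ) := by
  intro g hu hv K K' hKK' hc y hy k' hk'
  let f : K → K' := fun k => ⟨_, hKK' k k.2⟩
  have hf : Function.Bijective f := by
    refine (Nat.bijective_iff_injective_and_card f).2 ⟨fun a b e => ?_, hc.symm⟩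
    have e' : g.1 ((a : Wsp B u v) : V) = g.1 ((b : Wsp B u v) : V) :=
      congrArg (fun z : K' => ((z : Wsp B u v) : V)) e
    exact Subtype.ext (Subtype.ext (g.1.injective e'))
  obtain ⟨k, hk⟩ := hf.2 ⟨k', hk'⟩
  obtain rfl : onW g hu hv (k : Wsp B u v) = k' := congrArg Subtype.val hk
  show ψ (B (g.1 (y : V)) (g.1 ((k : Wsp B u v) : V))) = 1
  rw [isomGroup_apply]
  exact hy k k.2

/-- A non-trivial character killing a proper subgroup. -/
theorem exists_char {Z : AddSubgroup F} (hZ : Z ≠ ⊤) :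
    ∃ ψ : AddChar F ℂ, (∃ x, ψ x ≠ 1) ∧ ∀ z ∈ Z, ψ z = 1 := by
  obtain ⟨x, -, hx⟩ := SetLike.exists_of_lt hZ.lt_top
  obtain ⟨χ, hχ⟩ := AddChar.exists_apply_ne_zero.2
    (fun e => hx ((QuotientAddGroup.eq_zero_iff x).1 e) : (x : F ⧸ Z) ≠ 0)
  refine ⟨χ.compAddMonoidHom (QuotientAddGroup.mk' Z), ⟨x, hχ⟩, fun z hz => ?_⟩
  show χ (z : F ⧸ Z) = 1
  rw [(QuotientAddGroup.eq_zero_iff z).2 hz, AddChar.map_zero_eq_one]

end CfsgLib.KnownA.MinIndexSymp
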