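import Mathlib

/-!
# Additive subgroups of a finite field and their multiples by squares

An orbit argument: a proper additive subgroup `Z` of `F` has at least `(q + 1) / (2 · [F : Z])`
different multiples `a² Z`.
-/

set_option autoImplicit false
set_option linter.unusedSectionVars false

open Finset

namespace CfsgLib.KnownA.MinIndexSymp

variable {F : Type*} [Field F]

/-- The multiple `a • Z` of an additive subgroup. -/
def scale (a : F) (Z : AddSubgroup F) : AddSubgroup F := Z.map (AddMonoidHom.mulLeft a)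

theorem mem_scale {a x : F} {Z : AddSubgroup F} (ha : a ≠ 0) : x ∈ scale a Z ↔ a⁻¹ * x ∈ Z := by
  constructor
  · rintro ⟨y, hy, rfl⟩
    simpa [ha] using hy
  · intro h
    exact ⟨a⁻¹ * x, h, by simp [ha]⟩

theorem scale_one (Z : AddSubgroup F) : scale 1 Z = Z := by
  ext x; rw [mem_scale one_ne_zero, inv_one, one_mul]

variable [Fintype F]

/-- The multiples of `Z` by non-zero squares. -/
noncomputable def scales (Z : AddSubgroup F) : Finset (AddSubgroup F) := by
  classical
  exact (univ.filter fun a : F => a ≠ 0).image fun a => scale (a * a) Z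

theorem mem_scales {Z Y : AddSubgroup F} :
    Y ∈ scales Z ↔ ∃ a : F, a ≠ 0 ∧ Y = scale (a * a) Z := by
  classical simp [scales, eq_comm]

theorem self_mem_scales (Z : AddSubgroup F) : Z ∈ scales Z :=
  mem_scales.2 ⟨1, one_ne_zero, by rw [one_mul, scale_one]⟩

theorem scales_card_pos (Z : AddSubgroup F) : 1 ≤ (scales Z).card :=
  Finset.card_pos.2 ⟨Z, self_mem_scales Z⟩

omit [Fintype F] in
theorem index_mul_card [Finite F] (Z : AddSubgroup F) : Z.index * Nat.card Z = Nat.card F :=
  AddSubgroup.index_mul_card Z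

theorem two_le_index {Z : AddSubgroup F} (hZ : Z ≠ ⊤) : 2 ≤ Z.index := by
  have h1 : Z.index ≠ 0 := AddSubgroup.index_ne_zero_of_finite
  have h2 : Z.index ≠ 1 := fun h => hZ (AddSubgroup.index_eq_one.1 h)
  omega

/-- The multipliers of `Z`. -/
noncomputable def mults (Z : AddSubgroup F) : Finset F := by
  classical exact univ.filter fun x => ∀ y ∈ Z, x * y ∈ Z

theorem mem_mults {Z : AddSubgroup F} {x : F} : x ∈ mults Z ↔ ∀ y ∈ Z, x * y ∈ Z := by
  classical simp [mults]

theorem mult_inv {Z : AddSubgroup F} {x : F} (hx : x ∈ mults Z) (hx0 : x ≠ 0) {y : F}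
    (hy : x * y ∈ Z) : y ∈ Z := by
  classical
  let f : Z → Z := fun z => ⟨x * z, mem_mults.1 hx z z.2⟩
  have hf : Function.Injective f := fun a b h =>
    Subtype.ext (mul_left_cancel₀ hx0 (congrArg Subtype.val h))
  obtain ⟨z, hz⟩ := Finite.surjective_of_injective hf ⟨x * y, hy⟩
  have : (z : F) = y := mul_left_cancel₀ hx0 (congrArg Subtype.val hz)
  exact this ▸ z.2

theorem mults_le_index {Z : AddSubgroup F} (hZ : Z ≠ ⊤) : (mults Z).card ≤ Z.index := by
  classical
  obtain ⟨x₀, -, hx₀⟩ := SetLike.exists_of_lt hZ.lt_top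
  rw [AddSubgroup.index, ← Nat.card_eq_finsetCard (mults Z)]
  refine Nat.card_le_card_of_injective (fun e : mults Z => ((e.1 * x₀ : F) : F ⧸ Z)) fun a b h => ?_
  by_contra hne
  have hd : (-a.1 + b.1) ∈ mults Z := mem_mults.2 fun y hy => by
    rw [add_mul, neg_mul]
    exact Z.add_mem (Z.neg_mem (mem_mults.1 a.2 y hy)) (mem_mults.1 b.2 y hy)
  refine hx₀ (mult_inv hd (fun e => hne (Subtype.ext (neg_add_eq_zero.1 e))) ?_)
  rw [add_mul, neg_mul]
  exact QuotientAddGroup.eq.1 h

theorem mults_le_card {Z : AddSubgroup F} (hZ : Z ≠ ⊥) : (mults Z).card ≤ Nat.card Z := by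
  classical
  obtain ⟨z, hz, hz0⟩ := (AddSubgroup.bot_or_exists_ne_zero Z).resolve_left hZ
  rw [← Nat.card_eq_finsetCard (mults Z)]
  exact Nat.card_le_card_of_injective
    (fun e : mults Z => (⟨e.1 * z, mem_mults.1 e.2 z hz⟩ : Z)) fun a b h =>
    Subtype.ext (mul_right_cancel₀ hz0 (congrArg Subtype.val h))

theorem two_le_mults (Z : AddSubgroup F) : 2 ≤ (mults Z).card :=
  Finset.one_lt_card.2 ⟨0, mem_mults.2 fun y _ => by rw [zero_mul]; exact Z.zero_mem,
    1, mem_mults.2 fun y hy => by rwa [one_mul], zero_ne_one⟩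

/-- Fibres of `a ↦ a² Z`. -/
theorem sub_one_le_scales (Z : AddSubgroup F) (k : ℕ)
    (hk : ∀ (s : Finset F) (e : F), (∀ a ∈ s, a * a = e) → s.card ≤ k) :
    Fintype.card F - 1 ≤ (scales Z).card * (k * ((mults Z).card - 1)) := by
  classical
  let D := univ.filter fun a : F => a ≠ 0
  have hD : D.card = Fintype.card F - 1 := by
    rw [show D = univ.erase 0 by ext; simp [D], Finset.card_erase_of_mem (mem_univ _), card_univ]
  rw [← hD]
  rw [mul_comm]
  refine Finset.card_le_mul_card_image_of_maps_to (f := fun a => scale (a * a) Z)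
    (fun a ha => mem_scales.2 ⟨a, (mem_filter.1 ha).2, rfl⟩) _ fun Y hY => ?_
  obtain ⟨b, hb, rfl⟩ := mem_scales.1 hY
  have h0 : (0 : F) ∈ mults Z := mem_mults.2 fun y _ => by rw [zero_mul]; exact Z.zero_mem
  rw [← Finset.card_erase_of_mem h0]
  refine Finset.card_le_mul_card_image_of_maps_to (f := fun a => (a * a) / (b * b))
    (fun a ha => ?_) _ fun e _ => hk _ (e * (b * b)) fun a ha => ?_
  · obtain ⟨ha', he⟩ := mem_filter.1 ha
    have ha0 : a * a ≠ 0 := mul_ne_zero (mem_filter.1 ha').2 (mem_filter.1 ha').2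
    refine mem_erase.2 ⟨div_ne_zero ha0 (mul_ne_zero hb hb), mem_mults.2 fun y hy => ?_⟩
    have : a * a * y ∈ scale (a * a) Z := ⟨y, hy, rfl⟩
    rw [he, mem_scale (mul_ne_zero hb hb)] at this
    convert this using 1
    field_simp
  · rw [← (mem_filter.1 ha).2, div_mul_cancel₀ _ (mul_ne_zero hb hb)]

theorem card_sqrt_le_two (s : Finset F) (e : F) (h : ∀ a ∈ s, a * a = e) : s.card ≤ 2 := by
  classical
  rcases s.eq_empty_or_nonempty with rfl | ⟨a, ha⟩
  · simp
  refine (Finset.card_le_card (t := {a, -a}) fun b hb => ?_).trans Finset.card_le_two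
  rcases mul_self_eq_mul_self_iff.1 ((h b hb).trans (h a ha).symm) with rfl | rfl <;> simp

theorem card_sqrt_le_one (h2 : (2 : F) = 0) (s : Finset F) (e : F) (h : ∀ a ∈ s, a * a = e) :
    s.card ≤ 1 := by
  refine Finset.card_le_one.2 fun a ha b hb => ?_
  have : (a - b) * (a - b) = 0 := by linear_combination h a ha - h b hb + (b * b - a * b) * h2
  exact sub_eq_zero.1 (mul_self_eq_zero.1 this)

/-- `q + 1 ≤ 2 [F : Z] #{a² Z}` for proper `Z`. -/
theorem two_mul_index_scales {Z : AddSubgroup F} (hZ : Z ≠ ⊤) :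
    Fintype.card F + 1 ≤ 2 * (Z.index * (scales Z).card) := by
  have h1 := sub_one_le_scales Z 2 card_sqrt_le_two
  have h2 := mults_le_index hZ
  have h3 := two_le_mults Z
  have h4 := scales_card_pos Z
  have h5 := Fintype.one_lt_card (α := F)
  calc Fintype.card F + 1 ≤ (scales Z).card * (2 * ((mults Z).card - 1)) + 2 * (scales Z).card := by
        omega
    _ = 2 * ((mults Z).card * (scales Z).card) := by
        obtain ⟨e, he⟩ := Nat.exists_eq_add_of_le (show 1 ≤ (mults Z).card by omega)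
        rw [he, Nat.add_sub_cancel_left]
        ring
    _ ≤ _ := Nat.mul_le_mul_left _ (Nat.mul_le_mul_right _ h2)

/-- In characteristic two a proper non-trivial `Z` gives `q + 2 ≤ [F : Z] #{a² Z}`. -/
theorem index_scales_of_two {Z : AddSubgroup F} (h2 : (2 : F) = 0) (hZ : Z ≠ ⊤) (hZ0 : Z ≠ ⊥) :
    Fintype.card F + 2 ≤ Z.index * (scales Z).card := by
  have h1 := sub_one_le_scales Z 1 (card_sqrt_le_one h2)
  rw [one_mul] at h1
  have hi := mults_le_index hZ
  have hc := mults_le_card hZ0
  have he2 := two_le_mults Z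
  have hq := index_mul_card Z
  rw [Nat.card_eq_fintype_card (α := F)] at hq
  have h5 := Fintype.one_lt_card (α := F)
  obtain ⟨e, he⟩ : ∃ e, (mults Z).card = e + 2 := Nat.exists_eq_add_of_le' he2
  rw [he] at h1 hi hc
  have hsq : (e + 2) * (e + 2) ≤ Fintype.card F := hq ▸ Nat.mul_le_mul hi hc
  have h3 : 3 ≤ (scales Z).card := by
    by_contra hlt
    have := h1.trans (Nat.mul_le_mul_right _ (show (scales Z).card ≤ 2 by omega))
    rw [show e + 2 - 1 = e + 1 by omega] at this
    nlinarith [show Fintype.card F ≤ 2 * e + 3 by omega]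
  calc Fintype.card F + 2 ≤ (scales Z).card * (e + 2 - 1) + (scales Z).card := by omega
    _ = (e + 2) * (scales Z).card := by
        rw [show e + 2 - 1 = e + 1 by omega]; ring
    _ ≤ _ := Nat.mul_le_mul_right _ hi

theorem index_bot_scales (Z : AddSubgroup F) (h : Z = ⊥) : Z.index = Fintype.card F := by
  subst h
  rw [AddSubgroup.index_bot, Nat.card_eq_fintype_card]

/-- The uniform even bound. -/
theorem q_le_index_scales {Z : AddSubgroup F} (h2 : (2 : F) = 0) (hZ : Z ≠ ⊤) :
    Fintype.card F ≤ Z.index * (scales Z).card := by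
  by_cases h : Z = ⊥
  · rw [index_bot_scales Z h]
    exact Nat.le_mul_of_pos_right _ (scales_card_pos Z)
  · have := index_scales_of_two h2 hZ h; omega

end CfsgLib.KnownA.MinIndexSymp
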