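import Cfsg.Agent.Lib.Classical.SympMax
import Cfsg.Agent.Lib.KnownA.MinIndexSymp.Scales

/-!
# The radical of a point stabiliser in a symplectic group

`rad u w c` is the element `x ↦ x + B(x,u) w + (B(x,w) + c B(x,u)) u` for `w ⊥ u`.
-/

set_option autoImplicit false
set_option linter.unusedSectionVars false
set_option linter.unusedSimpArgs false

open Module CfsgLib.Classical

namespace CfsgLib.KnownA.MinIndexSymp

variable {F : Type*} [Field F] {V : Type*} [AddCommGroup V] [Module F V] [FiniteDimensional F V]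
  {B : V →ₗ[F] V →ₗ[F] F}

/-- The element of the radical at `u` with parameters `w`, `c`. -/
def rad (hA : B.IsAlt) (u w : V) (c : F) : isomGroup B := sv hA u w 1 * tv hA u c

variable {hA : B.IsAlt}

theorem alt_zero_symm (hA : B.IsAlt) {x y : V} (h : B x y = 0) : B y x = 0 := hA.isRefl _ _ h

theorem rad_apply {u w : V} (h : B u w = 0) (c : F) (x : V) :
    (rad hA u w c).1 x = x + B x u • w + (B x w + c * B x u) • u := by
  simp only [rad, Subgroup.coe_mul, LinearEquiv.mul_apply, sv_apply hA h, tv_apply, map_add,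
    map_smul, LinearMap.add_apply, LinearMap.smul_apply, smul_eq_mul, h, hA u, mul_zero, add_zero,
    one_smul]
  module

theorem rad_mul {u w w' : V} (h : B u w = 0) (h' : B u w' = 0) (c c' : F) :
    rad hA u w c * rad hA u w' c' = rad hA u (w + w') (c + c' + B w' w) := by
  refine Subtype.ext (LinearEquiv.ext fun x => ?_)
  have hw'u : B w' u = 0 := alt_zero_symm hA h'
  simp only [Subgroup.coe_mul, LinearEquiv.mul_apply, rad_apply h, rad_apply h',
    rad_apply (show B u (w + w') = 0 by simp [h, h']), map_add, map_smul, LinearMap.add_apply,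
    LinearMap.smul_apply, smul_eq_mul, h, hw'u, hA u, mul_zero, add_zero]
  module

theorem rad_zero (u : V) (c : F) : rad hA u 0 c = tv hA u c := by
  refine Subtype.ext (LinearEquiv.ext fun x => ?_)
  rw [rad_apply (map_zero _), tv_apply]
  simp

theorem rad_zero_zero (u : V) : rad hA u 0 0 = (1 : isomGroup B) := by rw [rad_zero, tv_zero]

theorem rad_inv {u w : V} (h : B u w = 0) (c : F) :
    (rad hA u w c)⁻¹ = rad hA u (-w) (-c) := by
  refine inv_eq_of_mul_eq_one_right ?_
  rw [rad_mul h (by rw [map_neg, h, neg_zero]), map_neg, LinearMap.neg_apply, hA w, neg_zero,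
    add_zero, add_neg_cancel, add_neg_cancel, rad_zero_zero]

theorem rad_mul_tv {u w : V} (h : B u w = 0) (c d : F) :
    rad hA u w c * tv hA u d = rad hA u w (c + d) := by
  rw [← rad_zero, rad_mul h (map_zero _)]
  simp

theorem tv_mul_rad {u w : V} (h : B u w = 0) (c d : F) :
    tv hA u d * rad hA u w c = rad hA u w (c + d) := by
  rw [← rad_zero, rad_mul (map_zero _) h]
  simp [add_comm]

theorem rad_conj (g : isomGroup B) (u w : V) (c : F) :
    g * rad hA u w c * g⁻¹ = rad hA (g.1 u) (g.1 w) c := by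
  rw [rad, show g * (sv hA u w 1 * tv hA u c) * g⁻¹ = (g * sv hA u w 1 * g⁻¹) * (g * tv hA u c * g⁻¹) by
    group, conj_sv, conj_tv, rad]

theorem rad_smul {u w : V} (h : B u w = 0) (a c : F) :
    rad hA (a • u) w c = rad hA u (a • w) (a * a * c) := by
  refine Subtype.ext (LinearEquiv.ext fun x => ?_)
  rw [rad_apply (by rw [map_smul, LinearMap.smul_apply, h, smul_zero]),
    rad_apply (by rw [map_smul, h, smul_zero])]
  simp only [map_smul, smul_eq_mul]
  module

theorem rad_shift {u w : V} (h : B u w = 0) (t c : F) :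
    rad hA u (w + t • u) c = rad hA u w (c + 2 * t) := by
  refine Subtype.ext (LinearEquiv.ext fun x => ?_)
  rw [rad_apply (by rw [map_add, map_smul, h, hA u, smul_zero, add_zero]), rad_apply h]
  simp only [map_add, map_smul, smul_eq_mul]
  module

theorem rad_swap {u w : V} (h : B u w = 0) : rad hA u w 0 = rad hA w u 0 := by
  refine Subtype.ext (LinearEquiv.ext fun x => ?_)
  rw [rad_apply h, rad_apply (alt_zero_symm hA h)]
  module

/-- Conjugation inside the radical only changes the central parameter. -/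
theorem rad_conj_rad {u w w' : V} (h : B u w = 0) (h' : B u w' = 0) (c c' : F) :
    rad hA u w c * rad hA u w' c' * (rad hA u w c)⁻¹ = rad hA u w' (c' + 2 * B w' w) := by
  rw [rad_inv h, rad_mul h h', rad_mul (by rw [map_add, h, h', add_zero]) (by rw [map_neg, h, neg_zero])]
  rw [show w + w' + -w = w' by abel]
  congr 1
  rw [map_neg, LinearMap.neg_apply, map_add, hA w, alt_swap hA w w']
  ring

/-- The map multiplying `e` by `μ` and `f` by `μ⁻¹`. -/
noncomputable def torFun (B : V →ₗ[F] V →ₗ[F] F) (e f : V) (μ : F) : V →ₗ[F] V :=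
  LinearMap.id + ((μ - 1) • B.flip f).smulRight e + ((μ⁻¹ - 1) • B e).smulRight f

theorem torFun_apply (e f : V) (μ : F) (x : V) :
    torFun B e f μ x = x + ((μ - 1) * B x f) • e + ((μ⁻¹ - 1) * B e x) • f := by
  simp [torFun]

theorem torFun_comp (hA : B.IsAlt) {e f : V} (h : B e f = 1) {μ : F} (hμ : μ ≠ 0) (x : V) :
    torFun B e f μ (torFun B e f μ⁻¹ x) = x := by
  simp only [torFun_apply, map_add, map_smul, LinearMap.add_apply, LinearMap.smul_apply,
    smul_eq_mul, h, hA e, hA f, alt_swap hA f e, inv_inv, mul_zero, add_zero]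
  match_scalars <;> field_simp <;> ring

/-- The torus element at a hyperbolic pair. -/
noncomputable def tor (hA : B.IsAlt) {e f : V} (h : B e f = 1) {μ : F} (hμ : μ ≠ 0) : isomGroup B :=
  ⟨LinearEquiv.ofLinearMap (torFun B e f μ) (torFun B e f μ⁻¹)
    (LinearMap.ext fun x => torFun_comp hA h hμ x)
    (LinearMap.ext fun x => by
      have := torFun_comp hA h (inv_ne_zero hμ) x
      rwa [inv_inv] at this),
   fun x y => by
    simp only [LinearEquiv.coe_ofLinearMap, torFun_apply, map_add, map_smul, LinearMap.add_apply,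
      LinearMap.smul_apply, smul_eq_mul, hA e, hA f, h, alt_swap hA f e, alt_swap hA f y,
      alt_swap hA x e, mul_zero, add_zero]
    field_simp
    ring⟩

theorem tor_apply {e f : V} (h : B e f = 1) {μ : F} (hμ : μ ≠ 0) (x : V) :
    (tor hA h hμ).1 x = x + ((μ - 1) * B x f) • e + ((μ⁻¹ - 1) * B e x) • f := torFun_apply e f μ x

theorem tor_left {e f : V} (h : B e f = 1) {μ : F} (hμ : μ ≠ 0) : (tor hA h hμ).1 e = μ • e := by
  rw [tor_apply, h, hA e]
  simp only [mul_one, mul_zero, zero_smul, add_zero]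
  rw [sub_smul, one_smul, add_sub_cancel]

theorem tor_right {e f : V} (h : B e f = 1) {μ : F} (hμ : μ ≠ 0) : (tor hA h hμ).1 f = μ⁻¹ • f := by
  rw [tor_apply, h, hA f]
  simp only [mul_one, mul_zero, zero_smul, add_zero]
  rw [sub_smul, one_smul, add_sub_cancel]

theorem tor_fix {e f : V} (h : B e f = 1) {μ : F} (hμ : μ ≠ 0) {x : V} (he : B e x = 0)
    (hf : B x f = 0) : (tor hA h hμ).1 x = x := by
  rw [tor_apply, he, hf]; simp

/-- The inverse of an isometry undoes it. -/
theorem inv_apply_self (g : isomGroup B) (x : V) : (g⁻¹ : isomGroup B).1 (g.1 x) = x :=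
  g.1.symm_apply_apply x

theorem apply_inv_self (g : isomGroup B) (x : V) : g.1 ((g⁻¹ : isomGroup B).1 x) = x :=
  g.1.apply_symm_apply x

end CfsgLib.KnownA.MinIndexSymp
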